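import Cfsg.Agent.Lib.SpecThirteen.Basic

/-!
Element orders in `{1, 2, 3, 4, 6, 8, 13}`: the properties of the top of a 2-local subgroup acting on an elementary
abelian section of its 2-core.
-/

set_option autoImplicit false
set_option linter.unusedSectionVars false

namespace CfsgLib.SpecThirteen

open Finset

universe u w

/-- A faithful action on a module over the field of two elements, with the properties inherited from the ambient
group: a two-element fixes the points fixed by an element of order three it commutes with, the norm of an element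
of order dividing eight vanishes, and an element of order thirteen fixes nothing. -/
structure Act (X : Type u) [Group X] (V : Type w) [AddCommGroup V] where
  /-- The operators. -/
  ρ : X → V →+ V
  orders : Thirteen X
  one : ∀ v : V, ρ 1 v = v
  mul : ∀ a b : X, ∀ v : V, ρ (a * b) v = ρ a (ρ b v)
  two : ∀ v : V, v + v = 0
  faithful : ∀ x : X, (∀ v : V, ρ x v = v) → x = 1
  fix : ∀ y e : X, orderOf y = 3 → e ^ 8 = 1 → Commute y e → ∀ v : V, ρ y v = v → ρ e v = v
  norm_eight : ∀ s : X, s ^ 8 = 1 → ∀ v : V, ∑ i ∈ range 8, ρ (s ^ i) v = 0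
  fix_thirteen : ∀ u : X, orderOf u = 13 → ∀ v : V, ρ u v = v → v = 0

variable {X : Type u} [Group X] {V : Type w} [AddCommGroup V] (a : Act X V)
include a

theorem Act.orbit_sum_fixed {d : X} {n : ℕ} (hd : d ^ n = 1) (v : V) :
    a.ρ d (∑ i ∈ range n, a.ρ (d ^ i) v) = ∑ i ∈ range n, a.ρ (d ^ i) v := by
  simp only [map_sum, ← a.mul, ← pow_succ']
  have h1 := sum_range_succ' (fun i => a.ρ (d ^ i) v) n
  have h2 := sum_range_succ (fun i => a.ρ (d ^ i) v) n
  rw [h2, hd, pow_zero] at h1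
  exact (add_right_cancel h1).symm

/-- A subgroup containing the points fixed by each line of a plane of exponent `p` is everything. -/
theorem Act.lines_cover {p : ℕ} (hp : p.Prime) (hodd : Odd p) {y z : X} (hy : y ^ p = 1) (hz : z ^ p = 1)
    (hc : Commute y z) (W : AddSubgroup V) (hWy : ∀ v, a.ρ y v = v → v ∈ W)
    (hWk : ∀ k < p, ∀ v, a.ρ (y ^ k * z) v = v → v ∈ W) (v : V) : v ∈ W := by
  classical
  set g : ℕ → ℕ → V := fun j i => a.ρ (y ^ j * z ^ i) v with hg
  have hymod : ∀ j, y ^ (j % p) = y ^ j := fun j => (pow_eq_pow_mod j hy).symm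
  have hN : ∀ k < p, (∑ i ∈ range p, g (k * i) i) ∈ W := by
    intro k hk
    refine hWk k hk _ ?_
    have hd : (y ^ k * z) ^ p = 1 := by
      rw [(hc.pow_left k).mul_pow, ← pow_mul, mul_comm k p, pow_mul, hy, hz, one_pow, one_mul]
    have e : ∀ i, g (k * i) i = a.ρ ((y ^ k * z) ^ i) v := fun i => by
      rw [(hc.pow_left k).mul_pow, ← pow_mul]
    rw [sum_congr rfl fun i _ => e i]
    exact a.orbit_sum_fixed hd v
  have hY : (∑ j ∈ range p, g j 0) ∈ W := by
    refine hWy _ ?_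
    have e : ∀ j, g j 0 = a.ρ (y ^ j) v := fun j => by simp [hg]
    rw [sum_congr rfl fun j _ => e j]
    exact a.orbit_sum_fixed hy v
  have hT : (∑ i ∈ range p, ∑ j ∈ range p, g j i) ∈ W := by
    refine W.sum_mem fun i _ => hWy _ ?_
    have e : ∀ j, g j i = a.ρ (y ^ j) (a.ρ (z ^ i) v) := fun j => by simp [hg, a.mul]
    rw [sum_congr rfl fun j _ => e j]
    exact a.orbit_sum_fixed hy _
  have hK : (∑ k ∈ range p, ∑ i ∈ range p, g (k * i) i) ∈ W := W.sum_mem fun k hk => hN k (mem_range.mp hk)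
  rw [sum_comm] at hK
  rw [← add_sum_erase _ _ (mem_range.mpr hp.pos)] at hK hT
  have h0 : ∑ k ∈ range p, g (k * 0) 0 = v := by
    obtain ⟨m, hm⟩ := hodd
    simp only [hg, mul_zero, pow_zero, one_mul, a.one, sum_const, card_range]
    rw [hm, add_nsmul, one_nsmul, two_mul, add_nsmul, ← nsmul_add, a.two, nsmul_zero, zero_add]
  have hi : ∀ i ∈ (range p).erase 0, ∑ k ∈ range p, g (k * i) i = ∑ j ∈ range p, g j i := by
    intro i hi
    have hi0 : i ≠ 0 := ne_of_mem_erase hi
    have hip : i < p := mem_range.mp (mem_of_mem_erase hi)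
    have hinj : Set.InjOn (fun k => k * i % p) (range p : Set ℕ) := by
      intro k hk l hl hkl
      simp only [coe_range, Set.mem_Iio] at hk hl
      have hcop : Nat.gcd p i = 1 :=
        hp.coprime_iff_not_dvd.mpr fun hd => absurd (Nat.le_of_dvd (Nat.pos_of_ne_zero hi0) hd) (by omega)
      have : k ≡ l [MOD p] := Nat.ModEq.cancel_right_of_coprime hcop hkl
      exact Nat.ModEq.eq_of_lt_of_lt this hk hl
    have himg : (range p).image (fun k => k * i % p) = range p := by
      refine eq_of_subset_of_card_le (fun x hx => ?_) ?_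
      · obtain ⟨k, -, rfl⟩ := mem_image.mp hx
        exact mem_range.mpr (Nat.mod_lt _ hp.pos)
      · rw [card_image_of_injOn hinj]
    conv_rhs => rw [← himg, sum_image hinj]
    exact sum_congr rfl fun k _ => by simp [hg, hymod]
  rw [h0, sum_congr rfl hi] at hK
  have h3 := W.sub_mem hK (W.sub_mem hT hY)
  simpa using h3

/-- A kernel of odd order acted on fixed point freely by an element with vanishing norm is trivial. -/
theorem Act.kernel_bot (A : Subgroup X) [Finite X] (hA : ∀ x ∈ A, ∀ y ∈ A, x * y = y * x)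
    (hodd : Odd (Nat.card A)) {s : X} {n : ℕ} (hn : 0 < n) (hs : ∀ x ∈ A, s * x * s⁻¹ ∈ A)
    (hfix : ∀ i, 0 < i → i < n → ∀ x ∈ A, s ^ i * x * (s ^ i)⁻¹ = x → x = 1)
    (hT : ∀ v : V, ∑ i ∈ range n, a.ρ (s ^ i) v = 0) : A = ⊥ := by
  classical
  haveI : Fintype A := Fintype.ofFinite A
  refine (Subgroup.eq_bot_iff_forall _).mpr fun c hc => a.faithful c fun v => ?_
  have hsi : ∀ i, ∀ x ∈ A, s ^ i * x * (s ^ i)⁻¹ ∈ A := by
    intro i
    induction i with
    | zero => intro x hx; simpa using hx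
    | succ i ih =>
      intro x hx
      have e : s ^ (i + 1) * x * (s ^ (i + 1))⁻¹ = s * (s ^ i * x * (s ^ i)⁻¹) * s⁻¹ := by
        rw [pow_succ']; group
      rw [e]; exact hs _ (ih x hx)
  set S : V → V := fun w => ∑ b : A, a.ρ (b : X) w with hS
  have hSfix : ∀ w, a.ρ c (S w) = S w := by
    intro w
    simp only [hS, map_sum, ← a.mul]
    exact Fintype.sum_equiv (Equiv.mulLeft (⟨c, hc⟩ : A)) _ _ (fun b => rfl)
  have key : ∀ i ∈ range n, i ≠ 0 →
      (∑ x : A, a.ρ ((x : X) * s ^ i * (x : X)⁻¹) v) = S (a.ρ (s ^ i) v) := by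
    intro i hi hi0
    let f : A → A := fun x => ⟨(x : X) * (s ^ i * (x : X)⁻¹ * (s ^ i)⁻¹), mul_mem x.2 (hsi i _ (inv_mem x.2))⟩
    have hf : Function.Injective f := by
      intro x y hxy
      have h1 : (x : X) * (s ^ i * (x : X)⁻¹ * (s ^ i)⁻¹) = (y : X) * (s ^ i * (y : X)⁻¹ * (s ^ i)⁻¹) :=
        congrArg Subtype.val hxy
      have h2 : s ^ i * ((x : X)⁻¹ * y) * (s ^ i)⁻¹ = (x : X)⁻¹ * y := by
        calc s ^ i * ((x : X)⁻¹ * y) * (s ^ i)⁻¹
            = (x : X)⁻¹ * ((x : X) * (s ^ i * (x : X)⁻¹ * (s ^ i)⁻¹)) * (s ^ i * (y : X)⁻¹ * (s ^ i)⁻¹)⁻¹ := by group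
          _ = (x : X)⁻¹ * y := by rw [h1]; group
      exact Subtype.ext (inv_mul_eq_one.mp
        (hfix i (Nat.pos_of_ne_zero hi0) (mem_range.mp hi) _ (mul_mem (inv_mem x.2) y.2) h2))
    simp only [hS]
    refine Fintype.sum_bijective f (Finite.injective_iff_bijective.mp hf) _ _ fun x => ?_
    rw [← a.mul]
    congr 1
    simp only [f]
    group
  have hsum : (∑ x : A, ∑ i ∈ range n, a.ρ ((x : X) * s ^ i * (x : X)⁻¹) v) = 0 := by
    refine sum_eq_zero fun x _ => ?_
    have e : ∀ i, a.ρ ((x : X) * s ^ i * (x : X)⁻¹) v = a.ρ (x : X) (a.ρ (s ^ i) (a.ρ (x : X)⁻¹ v)) :=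
      fun i => by rw [← a.mul, ← a.mul, mul_assoc]
    rw [sum_congr rfl fun i _ => e i, ← map_sum, hT, map_zero]
  rw [sum_comm, ← add_sum_erase _ _ (mem_range.mpr hn)] at hsum
  have h0 : (∑ x : A, a.ρ ((x : X) * s ^ 0 * (x : X)⁻¹) v) = v := by
    simp only [pow_zero, mul_one, mul_inv_cancel, a.one, sum_const, card_univ]
    obtain ⟨m, hm⟩ := hodd
    rw [Nat.card_eq_fintype_card] at hm
    rw [hm, add_nsmul, one_nsmul, two_mul, add_nsmul, ← nsmul_add, a.two, nsmul_zero, zero_add]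
  rw [h0, sum_congr rfl fun i hi => key i (mem_of_mem_erase hi) (ne_of_mem_erase hi)] at hsum
  rw [eq_neg_of_add_eq_zero_left hsum, map_neg, map_sum, sum_congr rfl fun i _ => hSfix _]

/-- An element of two-power order with vanishing norm whose involution fixes nothing in an abelian subgroup of odd
order it normalises leaves no room for that subgroup. -/
theorem Act.kernel_two_pow [Finite X] (A : Subgroup X) (hA : ∀ x ∈ A, ∀ y ∈ A, x * y = y * x)
    (hodd : Odd (Nat.card A)) {s : X} {k : ℕ} (hs : s ^ 2 ^ (k + 1) = 1) (hsA : ∀ x ∈ A, s * x * s⁻¹ ∈ A)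
    (hfree : ∀ x ∈ A, s ^ 2 ^ k * x * (s ^ 2 ^ k)⁻¹ = x → x = 1)
    (hT : ∀ v : V, ∑ i ∈ range (2 ^ (k + 1)), a.ρ (s ^ i) v = 0) : A = ⊥ := by
  refine a.kernel_bot A hA hodd (by positivity) hsA (fun i hi hin x hx hfx => hfree x hx ?_) hT
  set C := Subgroup.centralizer ({x} : Set X) with hC
  have hiC : s ^ i ∈ C := Subgroup.mem_centralizer_singleton_iff.mpr (mul_inv_eq_iff_eq_mul.mp hfx)
  obtain ⟨j, hj, hjd⟩ := (Nat.dvd_prime_pow Nat.prime_two).mp (Nat.gcd_dvd_right i (2 ^ (k + 1)))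
  have hj' : j ≤ k := by
    by_contra hlt
    have h1 : 2 ^ (k + 1) ≤ Nat.gcd i (2 ^ (k + 1)) := hjd ▸ Nat.pow_le_pow_right (by norm_num) (by omega)
    have h2 := Nat.le_of_dvd hi (Nat.gcd_dvd_left i (2 ^ (k + 1)))
    omega
  have hgC : s ^ Nat.gcd i (2 ^ (k + 1)) ∈ C := by
    rw [← zpow_natCast, Nat.gcd_eq_gcd_ab, zpow_add, zpow_mul, zpow_mul, zpow_natCast, zpow_natCast, hs,
      one_zpow, mul_one]
    exact zpow_mem hiC _
  have hkC : s ^ 2 ^ k ∈ C := by
    rw [hjd] at hgC
    rw [show 2 ^ k = 2 ^ j * 2 ^ (k - j) by rw [← pow_add]; congr 1; omega, pow_mul]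
    exact pow_mem hgC _
  exact mul_inv_eq_iff_eq_mul.mpr (Subgroup.mem_centralizer_singleton_iff.mp hkC)

/-- A two-element centralising a plane of exponent three is trivial. -/
theorem Act.plane_trivial {y z e : X} (hy : orderOf y = 3) (hz : z ^ 3 = 1) (hzy : z ∉ Subgroup.zpowers y)
    (hc : Commute y z) (he : e ^ 8 = 1) (hye : Commute y e) (hze : Commute z e) : e = 1 := by
  let W : AddSubgroup V := (a.ρ e - AddMonoidHom.id V).ker
  have hW : ∀ v, v ∈ W ↔ a.ρ e v = v := fun v => by simp [W, sub_eq_zero]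
  refine a.faithful e fun v => (hW v).mp (a.lines_cover Nat.prime_three (by decide) (hy ▸ pow_orderOf_eq_one y) hz
    hc W (fun w hw => (hW w).mpr (a.fix y e hy he hye w hw)) (fun k _ w hw => (hW w).mpr ?_) v)
  haveI : Fact (Nat.Prime 3) := ⟨Nat.prime_three⟩
  refine a.fix (y ^ k * z) e (orderOf_eq_prime ?_ ?_) he ((hye.pow_left k).mul_left hze) w hw
  · rw [(hc.pow_left k).mul_pow, ← pow_mul, mul_comm k 3, pow_mul, hz, ← hy, pow_orderOf_eq_one, one_pow, one_mul]
  · intro e1
    exact hzy (by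
      rw [eq_inv_of_mul_eq_one_right e1]
      exact inv_mem (Subgroup.pow_mem _ (Subgroup.mem_zpowers y) k))

/-- A group of exponent thirteen of commuting elements is cyclic. -/
theorem Act.thirteen_cyclic {y z : X} (hy : orderOf y = 13) (hz : z ^ 13 = 1) (hc : Commute y z) :
    z ∈ Subgroup.zpowers y := by
  by_contra hzy
  haveI : Fact (Nat.Prime 13) := ⟨by norm_num⟩
  have h0 : ∀ v : V, v ∈ (⊥ : AddSubgroup V) := fun v => by
    refine a.lines_cover (by norm_num) (by decide) (hy ▸ pow_orderOf_eq_one y) hz hc ⊥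
      (fun w hw => AddSubgroup.mem_bot.mpr (a.fix_thirteen y hy w hw))
      (fun k _ w hw => AddSubgroup.mem_bot.mpr (a.fix_thirteen (y ^ k * z) (orderOf_eq_prime ?_ ?_) w hw)) v
    · rw [(hc.pow_left k).mul_pow, ← pow_mul, mul_comm k 13, pow_mul, hz, ← hy, pow_orderOf_eq_one, one_pow, one_mul]
    · intro e1
      exact hzy (by
        rw [eq_inv_of_mul_eq_one_right e1]
        exact inv_mem (Subgroup.pow_mem _ (Subgroup.mem_zpowers y) k))
  have : y = 1 := a.faithful y fun v => by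
    have := AddSubgroup.mem_bot.mp (h0 v); rw [this, map_zero]
  rw [this, orderOf_one] at hy
  omega

end CfsgLib.SpecThirteen
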