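import Cfsg.Agent.Lib.SpecThirteen.AmalShape

/-!
Element orders in `{1, 2, 3, 4, 6, 8, 13}`: in the amalgam of two parabolics with top `S₃`, one centralising the
central involutions, an element fixed by the top is moved by the core when the centraliser of the module is larger
than the module.
-/

set_option autoImplicit false
set_option linter.unusedSectionVars false
set_option linter.style.haveILetI false

namespace CfsgLib.SpecThirteen

open Cfsg
open CfsgLib.SpecSix (Frame Parab Half centralInvol centralInvol_ne_bot amalV amalW amalD actMod core_le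
  core_isPGroup le_normalizer_core cj_map_le cj_mem_map mem_normalizer_of_cj_le fixed_in_coset card_two_mul
  card_lt_double)

universe u

variable {G : Type u} [Group G] [Finite G]

namespace AmalZ

variable {S P1 P : Subgroup G} {x1 x z k : G} (b : AmalZ S P1 P x1 x z k)
include b

/-- With a large centraliser of the module, an element of it fixed by `x` outside the module. -/
theorem exists_c (hne : amalD S P x1 x ≠ amalW S x1 x) :
    Nat.card (amalD S P x1 x) = 16 ∧ ∃ c ∈ amalD S P x1 x, c ∉ amalW S x1 x ∧ Commute x c ∧ c * c = 1 ∧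
      (∀ d ∈ amalD S P x1 x, d ∉ amalW S x1 x → c⁻¹ * d ∈ amalW S x1 x) := by
  have a := b.amal
  obtain ⟨-, -, hD⟩ := a.small
  have hW := b.card_W.1
  have hlt : amalW S x1 x < amalD S P x1 x := lt_of_le_of_ne (fun w hw => a.W_le_D hw) (Ne.symm hne)
  have h2 := card_lt_double hlt
  refine ⟨by omega, ?_⟩
  obtain ⟨d, hd, hdW⟩ := SetLike.exists_of_lt hlt
  have hxd : x * d * x⁻¹ ∉ amalW S x1 x := fun h => hdW ((Subgroup.mem_normalizer_iff.mp
    (a.w_normalizer a.two.mem) d).mpr h)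
  have hdiff : ∀ p ∈ amalD S P x1 x, ∀ r ∈ amalD S P x1 x, p ∉ amalW S x1 x → r ∉ amalW S x1 x →
      p⁻¹ * r ∈ amalW S x1 x := fun p hp r hr hpW hrW =>
    diff_mem_of_card (fun w hw => a.W_le_D hw) (by omega) hp hr hpW hrW
  obtain ⟨w, hw, hcom⟩ := fixed_in_coset ((core_isPGroup P).to_le fun v hv => a.wQ hv) a.two.order
    (fun v hv => a.w_conjx hv) (hdiff d hd _ (a.D_conjx hd) hdW hxd)
  have hcD : d * w ∈ amalD S P x1 x := mul_mem hd (a.W_le_D hw)
  have hcW : d * w ∉ amalW S x1 x := fun h => hdW (by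
    have := mul_mem h (inv_mem hw)
    rwa [mul_inv_cancel_right] at this)
  obtain ⟨j, hj⟩ := core_isPGroup P ⟨d * w, hcD.1⟩
  exact ⟨d * w, hcD, hcW, hcom, a.thirteen.commute_three a.two.order hcom (congrArg Subtype.val hj),
    fun p hp hpW => hdiff _ hcD p hp hcW hpW⟩

variable {c : G} (hD : Nat.card (amalD S P x1 x) = 16) (hcD : c ∈ amalD S P x1 x) (hcW : c ∉ amalW S x1 x)
  (hcx : Commute x c) (hcd : ∀ d ∈ amalD S P x1 x, d ∉ amalW S x1 x → c⁻¹ * d ∈ amalW S x1 x)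
include hD hcD hcW hcx hcd

theorem psi_mem {q : G} (hq : q ∈ P) : q * c * q⁻¹ * c⁻¹ ∈ amalW S x1 x := by
  have a := b.amal
  have hn : q * c * q⁻¹ ∈ amalD S P x1 x := (Subgroup.mem_normalizer_iff.mp (a.D_normalizer hq) c).mp hcD
  have hnW : q * c * q⁻¹ ∉ amalW S x1 x := fun h => hcW ((Subgroup.mem_normalizer_iff.mp
    (a.w_normalizer hq) c).mpr h)
  have hw := hcd _ hn hnW
  have e : q * c * q⁻¹ * c⁻¹ = c * (c⁻¹ * (q * c * q⁻¹)) * c⁻¹ := by group
  rw [e, ← hcD.2 _ hw, mul_inv_cancel_right]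
  exact hw

theorem D_comm {d : G} (hd : d ∈ amalD S P x1 x) : d * c = c * d := by
  by_cases hdW : d ∈ amalW S x1 x
  · exact hcD.2 d hdW
  · have hw := hcd d hd hdW
    calc d * c = c * ((c⁻¹ * d) * c) := by group
      _ = c * (c * (c⁻¹ * d)) := by rw [hcD.2 _ hw]
      _ = c * d := by group

/-- **An element of both cores outside the centraliser moves `c` outside the centre.** -/
theorem psi_not_central {q0 : G} (hq0 : q0 ∈ pCoreOf 2 P) (hq01 : q0 ∈ pCoreOf 2 P1)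
    (hq0D : q0 ∉ amalD S P x1 x) : q0 * c * q0⁻¹ * c⁻¹ ∉ centralInvol S := by
  intro hmem
  have a := b.amal
  have hcS : c ∈ S := a.two.qle hcD.1
  have hWS : ∀ {w : G}, w ∈ amalW S x1 x → w ∈ S := fun hw => a.wS hw
  -- the commutator with `c` is central on the core
  let H : Subgroup G :=
    { carrier := {q | q ∈ pCoreOf 2 P ∧ q * c * q⁻¹ * c⁻¹ ∈ centralInvol S}
      one_mem' := ⟨one_mem _, by simp⟩
      mul_mem' := fun {q r} hq hr => ⟨mul_mem hq.1 hr.1, by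
        have e : q * r * c * (q * r)⁻¹ * c⁻¹ = (q * (r * c * r⁻¹ * c⁻¹) * q⁻¹) * (q * c * q⁻¹ * c⁻¹) := by group
        rw [e, a.zfixS (a.two.qle hq.1) hr.2]
        exact mul_mem hr.2 hq.2⟩
      inv_mem' := fun {q} hq => ⟨inv_mem hq.1, by
        have e : q⁻¹ * c * q⁻¹⁻¹ * c⁻¹ = q⁻¹ * (q * c * q⁻¹ * c⁻¹)⁻¹ * q⁻¹⁻¹ := by group
        rw [e, a.zfixS (a.two.qle (inv_mem hq.1)) (inv_mem hq.2)]
        exact inv_mem hq.2⟩ }
  have hDH : ∀ d ∈ amalD S P x1 x, d ∈ H := fun d hd => ⟨hd.1, by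
    rw [b.D_comm hD hcD hcW hcx hcd hd, mul_inv_cancel_right, mul_inv_cancel]; exact one_mem _⟩
  have hI : ∀ i ∈ pCoreOf 2 P, i ∈ pCoreOf 2 P1 → i ∈ H := fun i hi hi1 => by
    by_cases hiD : i ∈ amalD S P x1 x
    · exact hDH i hiD
    · have := H.mul_mem (⟨hq0, hmem⟩ : q0 ∈ H) (hDH _ (b.diff_I hq0 hq01 hi hi1 hq0D hiD))
      rwa [mul_inv_cancel_left] at this
  have hconjH : ∀ q ∈ H, x * q * x⁻¹ ∈ H := fun q hq => ⟨(a.rotQ hq.1).1, by
    have e : x * q * x⁻¹ * c * (x * q * x⁻¹)⁻¹ * c⁻¹ = x * (q * c * q⁻¹ * c⁻¹) * x⁻¹ := by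
      calc x * q * x⁻¹ * c * (x * q * x⁻¹)⁻¹ * c⁻¹ = x * q * (x⁻¹ * c) * x * q⁻¹ * x⁻¹ * c⁻¹ := by group
        _ = x * q * (c * x⁻¹) * x * q⁻¹ * (x⁻¹ * c⁻¹) := by rw [hcx.inv_left.eq]; simp only [mul_assoc]
        _ = x * q * (c * x⁻¹) * x * q⁻¹ * (c⁻¹ * x⁻¹) := by rw [hcx.inv_left.inv_right.eq]
        _ = _ := by group
    rw [e, a.zx hq.2]; exact hq.2⟩
  obtain ⟨hr1, hr2⟩ := a.rotQ hq0
  have hout : x * q0 * x⁻¹ ∉ pCoreOf 2 P1 := fun h => hq0D (a.mem_D.mpr ⟨hq0, hq01, h, (a.rot hq0 hq01).mp h⟩)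
  have hQH : ∀ q ∈ pCoreOf 2 P, q ∈ H := fun q hq => by
    by_cases hq1 : q ∈ pCoreOf 2 P1
    · exact hI q hq hq1
    · have hr := hconjH q0 ⟨hq0, hmem⟩
      have := H.mul_mem hr (hI _ (mul_mem (inv_mem hr1) hq) ((a.par1 (inv_mem hr1) hq).mpr
        (iff_of_false (fun h => hout (inv_mem_iff.mp h)) hq1)))
      rwa [mul_inv_cancel_left] at this
  have hQc : ∀ q ∈ pCoreOf 2 P, Commute q c := by
    intro q hq
    obtain ⟨d, hd, hcom⟩ := a.fixed_translate hq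
    obtain ⟨h1, h2⟩ := a.rotQ hq
    set p := q * (x * q * x⁻¹) * (x⁻¹ * q * x) with hp
    have hpd : p * d * c = c * (p * d) := a.thirteen.three_abelian a.two.order
      ((core_isPGroup P).to_le (inf_le_left : pCoreOf 2 P ⊓ Subgroup.centralizer {x} ≤ pCoreOf 2 P))
      (fun e he => (Subgroup.mem_centralizer_singleton_iff.mp he.2).symm) _
      ⟨mul_mem (mul_mem (mul_mem hq h1) h2) hd.1, Subgroup.mem_centralizer_singleton_iff.mpr hcom.eq.symm⟩ c
      ⟨hcD.1, Subgroup.mem_centralizer_singleton_iff.mpr hcx.eq.symm⟩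
    set ψ : G → G := fun g => g * c * g⁻¹ * c⁻¹ with hψ
    have hmul : ∀ g g' : G, g ∈ pCoreOf 2 P → g' ∈ pCoreOf 2 P → ψ (g * g') = ψ g' * ψ g := by
      intro g g' hg hg'
      have hc' := (hQH g' hg').2
      calc ψ (g * g') = (g * ψ g' * g⁻¹) * ψ g := by simp only [hψ]; group
        _ = ψ g' * ψ g := by rw [a.zfixS (a.two.qle hg) hc']
    have hx : ∀ g ∈ pCoreOf 2 P, ψ (x * g * x⁻¹) = ψ g := fun g hg => by
      have hc' := a.zx (hQH g hg).2
      calc ψ (x * g * x⁻¹) = x * g * (x⁻¹ * c * x) * g⁻¹ * x⁻¹ * c⁻¹ := by simp only [hψ]; group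
        _ = x * g * c * g⁻¹ * (x⁻¹ * c⁻¹) := by
          rw [hcx.inv_left.eq, inv_mul_cancel_right]; simp only [mul_assoc]
        _ = x * g * c * g⁻¹ * (c⁻¹ * x⁻¹) := by rw [hcx.inv_left.inv_right.eq]
        _ = x * ψ g * x⁻¹ := by simp only [hψ]; group
        _ = ψ g := hc'
    have hx2 : ψ (x⁻¹ * q * x) = ψ q := by
      have := hx _ h2
      rw [show x * (x⁻¹ * q * x) * x⁻¹ = q by group] at this
      exact this.symm
    have h1' : ψ (p * d) = 1 := by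
      show p * d * c * (p * d)⁻¹ * c⁻¹ = 1
      rw [hpd, mul_inv_cancel_right, mul_inv_cancel]
    have hd' : ψ d = 1 := by
      show d * c * d⁻¹ * c⁻¹ = 1
      rw [b.D_comm hD hcD hcW hcx hcd hd, mul_inv_cancel_right, mul_inv_cancel]
    rw [hmul p d (mul_mem (mul_mem hq h1) h2) hd.1, hd', one_mul, hp, hmul _ _ (mul_mem hq h1) h2,
      hmul q _ hq h1, hx q hq, hx2, (hQH q hq).2.2.1, mul_one] at h1'
    exact mul_inv_eq_iff_eq_mul.mp (mul_inv_eq_one.mp h1')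
  -- the element `k` moves `c` by the central involution
  set w := c⁻¹ * (k * c * k⁻¹) with hw
  have hkcD : k * c * k⁻¹ ∈ amalD S P x1 x := a.D_conjS b.kS hcD
  have hwW : w ∈ amalW S x1 x := hcd _ hkcD fun h => hcW ((Subgroup.mem_normalizer_iff.mp
    (a.w_normalizer (a.two.le b.kS)) c).mpr h)
  have hw1 : w ≠ 1 := fun h => by
    have hkc : Commute k c := mul_inv_eq_iff_eq_mul.mp (inv_mul_eq_one.mp h).symm
    refine hcW (a.vW (a.zV ⟨hcS, ?_, fun s hs => ?_⟩))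
    · obtain ⟨j, hj⟩ := core_isPGroup P ⟨c, hcD.1⟩
      exact a.thirteen.commute_three a.two.order hcx (congrArg Subtype.val hj)
    · by_cases hsQ : s ∈ pCoreOf 2 P
      · exact (hQc s hsQ).eq.symm
      · have := hkc.mul_left (hQc _ ((a.two.par (inv_mem b.kS) hs).mpr
          (iff_of_false (fun h' => b.hkQ (inv_mem_iff.mp h')) hsQ)))
        rw [mul_inv_cancel_left] at this
        exact this.eq.symm
  obtain ⟨q, hq, hsw⟩ := a.two.swap b.kS b.hkQ
  have hqP := core_le P hq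
  set ζ := pair q (x⁻¹ * w * x) with hζ
  have hxwW : x⁻¹ * w * x ∈ amalW S x1 x := by simpa using a.w_conj (inv_mem a.two.mem) hwW
  have hζZ : ζ ∈ centralInvol S := a.pair_mem hq hxwW
  have hfix1 : ζ * (x⁻¹ * w * x) = w := by
    have e1 : Commute (q * x⁻¹) (k * c * k⁻¹) := by
      rw [← hsw]
      show k * x * k⁻¹ * (k * c * k⁻¹) = k * c * k⁻¹ * (k * x * k⁻¹)
      calc k * x * k⁻¹ * (k * c * k⁻¹) = k * (x * c) * k⁻¹ := by group
        _ = k * (c * x) * k⁻¹ := by rw [hcx.eq]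
        _ = _ := by group
    have e2 : k * c * k⁻¹ = c * w := by rw [hw]; group
    have e3 : q * x⁻¹ * (c * w) * (q * x⁻¹)⁻¹ = c * w := by rw [← e2, e1.eq, mul_inv_cancel_right]
    have e4 : q * x⁻¹ * (c * w) * (q * x⁻¹)⁻¹ = c * (ζ * (x⁻¹ * w * x)) := by
      calc q * x⁻¹ * (c * w) * (q * x⁻¹)⁻¹ = q * (x⁻¹ * c) * w * x * q⁻¹ := by group
        _ = (q * c) * (x⁻¹ * w * x) * q⁻¹ := by rw [hcx.inv_left.eq]; group
        _ = c * (q * (x⁻¹ * w * x) * q⁻¹) := by rw [(hQc q hq).eq]; group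
        _ = _ := by rw [hζ, conj_eq_pair_mul]
    rw [e4] at e3
    exact mul_left_cancel e3
  have hxw : x * w * x⁻¹ = ζ * w := by
    calc x * w * x⁻¹ = x * (ζ * (x⁻¹ * w * x)) * x⁻¹ := by rw [hfix1]
      _ = (x * ζ * x⁻¹) * w := by group
      _ = ζ * w := by rw [a.zx hζZ]
  have hwZ : w ∈ centralInvol S := by
    refine b.fixed_W hwW ?_
    have h3 : x⁻¹ * w * x = w := by
      calc x⁻¹ * w * x = (x * x) * w * (x * x)⁻¹ := by rw [← a.two.inv_eq, inv_inv]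
        _ = x * (x * w * x⁻¹) * x⁻¹ := by group
        _ = (x * ζ * x⁻¹) * (x * w * x⁻¹) := by
          conv_lhs => rw [hxw]
          group
        _ = (ζ * ζ) * w := by rw [a.zx hζZ, hxw, mul_assoc]
        _ = w := by rw [hζZ.2.1, one_mul]
    calc x * w * x⁻¹ = x * (x⁻¹ * w * x) * x⁻¹ := by rw [h3]
      _ = w := by group
  have hwz : w = z := (b.zcases w hwZ).resolve_left hw1
  have hkc : k * c * k⁻¹ = c * z := by rw [← hwz, hw]; group
  have hzc : Commute z c := hwz ▸ hcD.2 w hwW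
  have hbc : ∀ g ∈ pCoreOf 2 P1, (g ∈ pCoreOf 2 P → g * c * g⁻¹ * c⁻¹ = 1) ∧
      (g ∉ pCoreOf 2 P → g * c * g⁻¹ * c⁻¹ = z) := by
    intro g hg
    refine ⟨fun hgQ => by rw [(hQc g hgQ).eq, mul_inv_cancel_right, mul_inv_cancel], fun hgQ => ?_⟩
    have hq' := hQc _ ((a.two.par (inv_mem b.kS) (a.one.qle hg)).mpr
      (iff_of_false (fun h' => b.hkQ (inv_mem_iff.mp h')) hgQ))
    calc g * c * g⁻¹ * c⁻¹ = k * ((k⁻¹ * g) * c * (k⁻¹ * g)⁻¹) * k⁻¹ * c⁻¹ := by group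
      _ = k * c * k⁻¹ * c⁻¹ := by rw [hq'.eq, mul_inv_cancel_right]
      _ = z := by rw [hkc, ← hzc.eq, mul_inv_cancel_right]
  have hc1 : c ∈ pCoreOf 2 P1 := (a.mem_D.mp hcD).2.1
  have hvals : ∀ g ∈ pCoreOf 2 P1, g * c * g⁻¹ * c⁻¹ = 1 ∨ g * c * g⁻¹ * c⁻¹ = z := fun g hg => by
    by_cases hgQ : g ∈ pCoreOf 2 P
    · exact Or.inl ((hbc g hg).1 hgQ)
    · exact Or.inr ((hbc g hg).2 hgQ)
  -- conjugates of `c` under elements of the first parabolic lie in the centraliser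
  have hconjD : ∀ g ∈ P1, g * z * g⁻¹ ≠ z → g * c * g⁻¹ ∈ amalD S P x1 x := by
    intro g hg hgz
    set c' := g * c * g⁻¹ with hc'
    set z' := g * z * g⁻¹ with hz'
    have hc'1 : c' ∈ pCoreOf 2 P1 := a.one.conjQ hg hc1
    have hz'1 : z' ≠ 1 := fun h => b.z1 (conj_eq_one_iff.mp h)
    have hz'2 : z' * z' = 1 := by
      rw [hz', show g * z * g⁻¹ * (g * z * g⁻¹) = g * (z * z) * g⁻¹ by group, b.zz, mul_one, mul_inv_cancel]
    have hvals' : ∀ p ∈ pCoreOf 2 P1, p * c' * p⁻¹ * c'⁻¹ = 1 ∨ p * c' * p⁻¹ * c'⁻¹ = z' := by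
      intro p hp
      have hp' : g⁻¹ * p * g ∈ pCoreOf 2 P1 := by simpa using a.one.conjQ (inv_mem hg) hp
      have e : p * c' * p⁻¹ * c'⁻¹ = g * ((g⁻¹ * p * g) * c * (g⁻¹ * p * g)⁻¹ * c⁻¹) * g⁻¹ := by
        rw [hc']; group
      rcases hvals _ hp' with h | h <;> rw [e, h]
      · left; group
      · right; rfl
    have hc'Q : c' ∈ pCoreOf 2 P := by
      by_contra h
      have h1 := (hbc c' hc'1).2 h
      have h2 : (c * c' * c⁻¹ * c'⁻¹)⁻¹ = z := by rw [← h1]; group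
      rcases hvals' c hc1 with h3 | h3 <;> rw [h3] at h2
      · exact b.z1 (by rw [← h2, inv_one])
      · exact hgz (by rw [← h2, inv_eq_of_mul_eq_one_left hz'2])
    refine b.mem_D_of_gens hc'Q ((b.pair_u hc'Q).mpr hc'1) ?_
    have h1W := a.vxW b.uV
    rcases b.pair_cases hc'Q h1W with h | h
    · exact h
    exfalso
    have h2 : (x * (x1 * z * x1⁻¹) * x⁻¹ * c' * (x * (x1 * z * x1⁻¹) * x⁻¹)⁻¹ * c'⁻¹)⁻¹ = z := by
      refine Eq.trans ?_ h
      simp only [pair]; group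
    rcases hvals' _ (a.wQ1 h1W) with h3 | h3 <;> rw [h3] at h2
    · exact b.z1 (by rw [← h2, inv_one])
    · exact hgz (by rw [← h2, inv_eq_of_mul_eq_one_left hz'2])
  have hu := b.u_notZ
  have hne1 : x1 * z * x1⁻¹ ≠ z := fun h => hu (h.symm ▸ b.hz)
  have hne2 : x1⁻¹ * z * x1⁻¹⁻¹ ≠ z := fun h => hne1 (by
    calc x1 * z * x1⁻¹ = x1 * (x1⁻¹ * z * x1⁻¹⁻¹) * x1⁻¹ := by rw [h]
      _ = z := by group
      )
  have hc' := hconjD x1 a.one.mem hne1
  have hc'' := hconjD x1⁻¹ (inv_mem a.one.mem) hne2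
  set c' := x1 * c * x1⁻¹ with hc'def
  -- the centraliser is generated by `amalV` and two conjugates of `c`
  set E := amalV S x1 ⊔ Subgroup.zpowers c with hE
  set F := E ⊔ Subgroup.zpowers c' with hF
  have hFD : F ≤ amalD S P x1 x := sup_le (sup_le (fun v hv => a.W_le_D (a.vW hv))
    (Subgroup.zpowers_le.mpr hcD)) (Subgroup.zpowers_le.mpr hc')
  have hcV : c ∉ amalV S x1 := fun h => hcW (a.vW h)
  have hc'E : c' ∉ E := by
    intro hm
    have hn : Subgroup.zpowers c ≤ Subgroup.normalizer (amalV S x1 : Set G) :=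
      Subgroup.zpowers_le.mpr (mem_normalizer_of_cj_le fun v hv => by
        rwa [← (hcD.2 v (a.vW hv)), mul_inv_cancel_right])
    rw [hE, ← SetLike.mem_coe, Subgroup.coe_mul_of_right_le_normalizer_left _ _ hn] at hm
    obtain ⟨v, hv, p, hp, e⟩ := Set.mem_mul.mp hm
    have hkv : k * v * k⁻¹ = v := by rw [← (a.v_cI hv).2.2 k b.hk, mul_inv_cancel_right]
    by_cases hpV : p ∈ amalV S x1
    · have hc'V : c' ∈ amalV S x1 := e ▸ mul_mem hv hpV
      refine hcV ?_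
      have := a.v_conj1 (a.v_conj1 hc'V)
      rw [hc'def, show x1 * (x1 * (x1 * c * x1⁻¹) * x1⁻¹) * x1⁻¹ = (x1 * x1 * x1) * c * (x1 * x1 * x1)⁻¹ by group,
        a.one.cube, one_mul, inv_one, mul_one] at this
      exact this
    · have hpc : p = c := by
        obtain ⟨i, rfl⟩ := Subgroup.mem_zpowers_iff.mp hp
        have ho : orderOf c = 2 := orderOf_eq_prime (by
          obtain ⟨j, hj⟩ := core_isPGroup P ⟨c, hcD.1⟩
          rw [pow_two]; exact a.thirteen.commute_three a.two.order hcx (congrArg Subtype.val hj))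
          (fun h => hcV (h ▸ one_mem _))
        rw [← zpow_mod_orderOf, ho] at hpV ⊢
        rcases Int.emod_two_eq i with h | h <;> simp only [Nat.cast_ofNat, h, zpow_zero, zpow_one] at hpV ⊢
        exact absurd (one_mem _) hpV
      rw [hpc] at e
      have hkc' : k * c' * k⁻¹ * c'⁻¹ = z := by
        calc k * c' * k⁻¹ * c'⁻¹ = (k * v * k⁻¹) * (k * c * k⁻¹ * c⁻¹) * v⁻¹ := by rw [← e]; group
          _ = z := by
            rw [hkv, hkc, ← hzc.eq, mul_inv_cancel_right, ← b.hz.2.2 v (a.vS hv), mul_inv_cancel_right]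
      have hu' := (a.za_cI b.hz).2.2
      have hp' : x1⁻¹ * k * x1 ∈ pCoreOf 2 P1 := by simpa using a.one.conjQ (inv_mem a.one.mem) b.hk
      have e' : k * c' * k⁻¹ * c'⁻¹ = x1 * ((x1⁻¹ * k * x1) * c * (x1⁻¹ * k * x1)⁻¹ * c⁻¹) * x1⁻¹ := by
        rw [hc'def]; group
      rcases hvals _ hp' with h | h <;> rw [e', h] at hkc'
      · exact b.z1 (by rw [← hkc']; group)
      · exact hne1 hkc'
  have hVE : 2 * Nat.card (amalV S x1) ≤ Nat.card E := card_lt_double (lt_of_le_of_ne le_sup_left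
    fun h => hcV (h.symm ▸ Subgroup.mem_sup_right (Subgroup.mem_zpowers c)))
  have hEF : 2 * Nat.card E ≤ Nat.card F := card_lt_double (lt_of_le_of_ne le_sup_left
    fun h => hc'E (h.symm ▸ Subgroup.mem_sup_right (Subgroup.mem_zpowers c')))
  have h4 := b.card_W.2
  have hFeq : F = amalD S P x1 x := Subgroup.eq_of_le_of_card_ge hFD (by omega)
  have hc''D : x1 * c' * x1⁻¹ ∈ amalD S P x1 x := by
    have e : x1 * c' * x1⁻¹ = x1⁻¹ * c * x1⁻¹⁻¹ := by
      calc x1 * c' * x1⁻¹ = (x1 * x1) * c * (x1 * x1)⁻¹ := by rw [hc'def]; group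
        _ = _ := by rw [← a.one.inv_eq]
    rw [e]; exact hc''
  have hinv : F ≤ (amalD S P x1 x).comap (MulAut.conj x1).toMonoidHom :=
    sup_le (sup_le (fun v hv => a.W_le_D (a.vW (a.v_conj1 hv))) (Subgroup.zpowers_le.mpr hc'))
      (Subgroup.zpowers_le.mpr hc''D)
  have := a.eq_bot (N := amalD S P x1 x) (fun d hd => a.two.qle hd.1) (fun s hs d hd => a.D_conjS hs hd)
    (fun d hd => hinv (hFeq ▸ hd)) (fun d hd => a.D_conjx hd)
  rw [this, Subgroup.mem_bot] at hcD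
  exact hcW (hcD ▸ one_mem _)

end AmalZ

end CfsgLib.SpecThirteen
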