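import Cfsg.Agent.Lib.SpecThirteen.AmalCore8
import Cfsg.Agent.S1232
import Cfsg.Agent.Lib.CentralPairRank

/-!
Element orders in `{1, 2, 3, 4, 6, 8, 13}`: two parabolics with top `S₃` and trivial common core, one centralising
the central involutions, force sectional 2-rank at most four.
-/

set_option autoImplicit false
set_option linter.unusedSectionVars false
set_option linter.style.haveILetI false

namespace CfsgLib.SpecThirteen

open Cfsg
open CfsgLib.SpecSix (Frame Parab Half centralInvol amalV amalW amalD core_le core_isPGroup le_normalizer_core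
  omegaCenterOf_eq card_lt_double isMulCommutative_of_sq)

universe u

variable {G : Type u} [Group G] [Finite G]

/-- A group with the given chain of subgroups has no elementary abelian section of order more than sixteen. -/
theorem card_le_sixteen {H0 K0 Q Q1 D V : Subgroup G} (hcomm : ∀ h ∈ H0, ∀ h' ∈ H0, h * h' * h⁻¹ * h'⁻¹ ∈ K0)
    (hDn : ∀ h ∈ H0, ∀ d ∈ D, h * d * h⁻¹ ∈ D) (hDab : ∀ d ∈ D, ∀ d' ∈ D, d * d' = d' * d)
    (hD : Nat.card D = 16) (hV : Nat.card V ≤ 4) (hDI : D ≤ Q ⊓ Q1)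
    (hQ : ∀ b ∈ H0, ∀ c ∈ H0, b ∉ Q → c ∉ Q → b⁻¹ * c ∈ Q)
    (hQ1 : ∀ b ∈ H0 ⊓ Q, ∀ c ∈ H0 ⊓ Q, b ∉ Q1 → c ∉ Q1 → b⁻¹ * c ∈ Q1)
    (hI : ∀ b ∈ H0 ⊓ Q ⊓ Q1, ∀ c ∈ H0 ⊓ Q ⊓ Q1, b ∉ D → c ∉ D → b⁻¹ * c ∈ D)
    (hout : ∀ s ∈ H0, s ∉ Q → ∀ q ∈ H0, q ∈ Q → q ∉ Q1 →
      s * q * s⁻¹ * q⁻¹ ∈ Q ⊓ Q1 ∧ s * q * s⁻¹ * q⁻¹ ∉ D)
    (hfix : ∀ h ∈ H0, h ∈ Q → h ∈ Q1 → h ∉ D → ∀ d ∈ D, h * d = d * h → d ∈ V)
    (hcent : ∀ s ∈ H0, (∀ d ∈ D, s * d = d * s) → s ∈ D) :
    Nat.card H0 ≤ 16 * Nat.card K0 := by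
  classical
  set D0 := H0 ⊓ D with hD0
  have h1 : Nat.card H0 ≤ 2 * Nat.card ↥(H0 ⊓ Q) := card_le_two hQ
  have h2 : Nat.card ↥(H0 ⊓ Q) ≤ 2 * Nat.card ↥(H0 ⊓ Q ⊓ Q1) := card_le_two hQ1
  have h3 : Nat.card ↥(H0 ⊓ Q ⊓ Q1) ≤ 2 * Nat.card D0 :=
    (card_le_two hI).trans (Nat.mul_le_mul_left 2 (Subgroup.card_le_of_le fun v hv => ⟨hv.1.1.1, hv.2⟩))
  have hK : 1 ≤ Nat.card K0 := Nat.card_pos
  have hD016 : Nat.card D0 ≤ 16 := le_trans (Subgroup.card_le_of_le inf_le_right) hD.le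
  by_cases hex : ∃ h ∈ H0, h ∈ Q ∧ h ∈ Q1 ∧ h ∉ D
  · obtain ⟨h, hh, hhQ, hhQ1, hhD⟩ := hex
    -- the commutators with this element
    let ψ : D0 →* ↥(K0 ⊓ D) := MonoidHom.mk'
      (fun d => ⟨h * (d : G) * h⁻¹ * (d : G)⁻¹, hcomm h hh d d.2.1, D.mul_mem (hDn h hh d d.2.2) (D.inv_mem d.2.2)⟩)
      fun d e => Subtype.ext (by
        show h * ((d : G) * e) * h⁻¹ * ((d : G) * e)⁻¹ = h * (d : G) * h⁻¹ * (d : G)⁻¹ * (h * (e : G) * h⁻¹ * (e : G)⁻¹)
        have hk : h * (e : G) * h⁻¹ * (e : G)⁻¹ ∈ D := D.mul_mem (hDn h hh e e.2.2) (D.inv_mem e.2.2)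
        calc h * ((d : G) * e) * h⁻¹ * ((d : G) * e)⁻¹
            = h * (d : G) * h⁻¹ * ((h * (e : G) * h⁻¹ * (e : G)⁻¹) * (d : G)⁻¹) := by group
          _ = _ := by rw [hDab _ hk _ (D.inv_mem d.2.2), ← mul_assoc])
    have hker : Nat.card ψ.ker ≤ 4 := by
      refine le_trans (Nat.card_le_card_of_injective (fun d => (⟨((d : D0) : G), ?_⟩ : V)) ?_) hV
      · exact hfix h hh hhQ hhQ1 hhD _ (d : D0).2.2
          (mul_inv_eq_iff_eq_mul.mp (mul_inv_eq_one.mp (congrArg Subtype.val d.2)))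
      · intro d e hde
        exact Subtype.ext (Subtype.ext (congrArg Subtype.val hde :))
    have hbound : Nat.card D0 ≤ 4 * Nat.card ↥(K0 ⊓ D) := by
      rw [← ψ.ker.card_mul_index, Subgroup.index_ker]
      exact Nat.mul_le_mul hker (Subgroup.card_le_card_group _)
    by_cases hfull : ∃ s ∈ H0, s ∉ Q ∧ ∃ q ∈ H0, q ∈ Q ∧ q ∉ Q1
    · obtain ⟨s, hs, hsQ, q, hq, hqQ, hqQ1⟩ := hfull
      obtain ⟨-, heD⟩ := hout s hs hsQ q hq hqQ hqQ1
      have hlt : K0 ⊓ D < K0 := lt_of_le_of_ne inf_le_left fun e => heD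
        (e.ge (hcomm s hs q hq)).2
      have := SpecSix.card_lt_double hlt
      omega
    · push Not at hfull
      have h4 : Nat.card H0 ≤ 4 * Nat.card D0 := by
        by_cases hq : ∀ q ∈ H0, q ∈ Q → q ∈ Q1
        · have : Nat.card ↥(H0 ⊓ Q) ≤ Nat.card ↥(H0 ⊓ Q ⊓ Q1) :=
            Subgroup.card_le_of_le fun v hv => ⟨hv, hq v hv.1 hv.2⟩
          omega
        · push Not at hq
          obtain ⟨q, hq1, hq2, hq3⟩ := hq
          have : Nat.card H0 ≤ Nat.card ↥(H0 ⊓ Q) := Subgroup.card_le_of_le fun v hv =>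
            ⟨hv, by_contra fun hvQ => hq3 (hfull v hv hvQ q hq1 hq2)⟩
          omega
      have : Nat.card ↥(K0 ⊓ D) ≤ Nat.card K0 := Subgroup.card_le_of_le inf_le_left
      omega
  · push Not at hex
    have h32 : Nat.card H0 ≤ 2 * Nat.card D0 := by
      by_cases hq : ∀ q ∈ H0, q ∈ Q → q ∈ Q1
      · have : Nat.card ↥(H0 ⊓ Q) ≤ Nat.card D0 :=
          Subgroup.card_le_of_le fun v hv => ⟨hv.1, hex v hv.1 hv.2 (hq v hv.1 hv.2)⟩
        omega
      · push Not at hq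
        obtain ⟨q, hq1, hq2, hq3⟩ := hq
        have hQ' : Nat.card H0 ≤ Nat.card ↥(H0 ⊓ Q) := Subgroup.card_le_of_le fun v hv => ⟨hv, by_contra fun hvQ => by
          obtain ⟨he, heD⟩ := hout v hv hvQ q hq1 hq2 hq3
          exact heD (hex _ (H0.mul_mem (H0.mul_mem (H0.mul_mem hv hq1) (H0.inv_mem hv)) (H0.inv_mem hq1)) he.1 he.2)⟩
        have : Nat.card ↥(H0 ⊓ Q ⊓ Q1) ≤ Nat.card D0 :=
          Subgroup.card_le_of_le fun v hv => ⟨hv.1.1, hex v hv.1.1 hv.1.2 hv.2⟩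
        omega
    by_cases hK2 : 2 ≤ Nat.card K0
    · omega
    -- otherwise the group is abelian
    have hKb : K0 = ⊥ := Subgroup.card_eq_one.mp (by omega)
    have hHD : H0 ≤ D ∨ Nat.card D0 < 16 := by
      by_contra hno
      push Not at hno
      obtain ⟨hne, hge⟩ := hno
      have e : D0 = D := Subgroup.eq_of_le_of_card_ge inf_le_right (by omega)
      refine hne fun s hs => hcent s hs fun d hd => ?_
      have hm := hcomm s hs d (e.ge hd).1
      rw [hKb, Subgroup.mem_bot] at hm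
      exact mul_inv_eq_iff_eq_mul.mp (mul_inv_eq_one.mp hm)
    rcases hHD with hle | hlt
    · have := Subgroup.card_le_of_le hle
      omega
    · have : 2 * Nat.card D0 ≤ Nat.card D := SpecSix.card_lt_double
        (lt_of_le_of_ne (inf_le_right : D0 ≤ D) fun e => by
          have := congrArg (fun R : Subgroup G => Nat.card R) e
          omega)
      omega

/-- **The amalgam has a Sylow 2-subgroup of sectional rank at most four.** -/
theorem Amal.sectional {S P1 P : Subgroup G} {x1 x : G} (a : Amal S P1 P x1 x) : SectionalPRankLE 2 4 S := by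
  classical
  obtain ⟨z, k, b⟩ := a.exists_amalZ
  set W := amalW S x1 x with hW
  set D := amalD S P x1 x with hD
  set Q := pCoreOf 2 P with hQ
  by_cases hDW : D = W
  · have hWS : W ≤ S := fun w hw => a.wS hw
    refine Cfsg.Agent.S1232.result a.two.frame.two (W.subgroupOf S) ⟨⟨⟨fun v w => Subtype.ext (Subtype.ext ?_)⟩⟩,
      fun v hv => Subtype.ext ?_⟩ ?_ ?_
    · exact a.w_comm v.2 w.2
    · simpa [pow_two] using a.w_sq hv
    · rw [Nat.card_congr (Subgroup.subgroupOfEquivOfLe hWS).toEquiv]; exact b.card_W.1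
    · ext s
      constructor
      · intro hs
        have hmem : (s : G) ∈ D := b.cent_W s.2 fun w hw =>
          (congrArg Subtype.val (hs ⟨w, hWS hw⟩ hw) : w * (s : G) = s * w).symm
        rw [hDW] at hmem
        exact hmem
      · intro hs w hw
        exact Subtype.ext (a.w_comm hw hs)
  obtain ⟨h16, c, hcD, hcW, hcx, -, hcd⟩ := b.exists_c hDW
  have hDab : ∀ d ∈ D, ∀ d' ∈ D, d * d' = d' * d := by
    intro d hd d' hd'
    by_cases hdW : d ∈ W
    · exact (hd'.2 d hdW)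
    · have hw := hcd d hd hdW
      have e1 : Commute c d' := (b.D_comm h16 hcD hcW hcx hcd hd').symm
      have e2 : Commute (c⁻¹ * d) d' := hd'.2 _ hw
      have := e1.mul_left e2
      rwa [mul_inv_cancel_left] at this
  intro H N _ E hE hexp
  set π := QuotientGroup.mk' N with hπ
  set f : E.comap π →* E := π.subgroupComap E with hfd
  have hf : Function.Surjective f :=
    MonoidHom.subgroupComap_surjective_of_surjective π E (QuotientGroup.mk'_surjective N)
  set ι : E.comap π →* G := S.subtype.comp (H.subtype.comp (E.comap π).subtype) with hι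
  have hιi : Function.Injective ι := fun v w e => Subtype.ext (Subtype.ext (Subtype.ext e))
  set H0 := ι.range with hH0
  set K0 := f.ker.map ι with hK0
  have hS : H0 ≤ S := by rintro _ ⟨v, rfl⟩; exact ((v : H) : S).2
  have hcard : Nat.card E * Nat.card K0 = Nat.card H0 := by
    rw [hK0, Subgroup.card_map_of_injective hιi, ← Nat.card_congr (MonoidHom.ofInjective hιi).toEquiv,
      ← Nat.card_congr (QuotientGroup.quotientKerEquivOfSurjective f hf).toEquiv, ← Subgroup.index_eq_card, mul_comm,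
      Subgroup.card_mul_index]
  have hmain : Nat.card H0 ≤ 16 * Nat.card K0 := by
    refine card_le_sixteen (Q := Q) (Q1 := pCoreOf 2 P1) (D := D) (V := amalV S x1) ?_ ?_ hDab h16 b.V_card_le
      (fun d hd => ⟨hd.1, (a.mem_D.mp hd).2.1⟩) ?_ ?_ ?_ ?_ ?_ ?_
    · rintro _ ⟨v, rfl⟩ _ ⟨w, rfl⟩
      refine ⟨v * w * v⁻¹ * w⁻¹, MonoidHom.mem_ker.mpr ?_, by simp only [map_mul, map_inv]⟩
      simp only [map_mul, map_inv]
      have e := congrArg Subtype.val (hE.is_comm.comm (f v) (f w))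
      refine Subtype.ext ?_
      simp only [Subgroup.coe_mul, Subgroup.coe_inv, Subgroup.coe_one] at e ⊢
      rw [e]; group
    · exact fun h hh d hd => a.D_conjS (hS hh) hd
    · exact fun p hp r hr hp' hr' => (a.two.par (inv_mem (hS hp)) (hS hr)).mpr
        (iff_of_false (fun h => hp' (inv_mem_iff.mp h)) hr')
    · exact fun p hp r hr hp' hr' => (a.one.par (inv_mem (hS hp.1)) (hS hr.1)).mpr
        (iff_of_false (fun h => hp' (inv_mem_iff.mp h)) hr')
    · exact fun p hp r hr hp' hr' => b.diff_I hp.1.2 hp.2 hr.1.2 hr.2 hp' hr'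
    · intro s hs hsQ q _ hqQ hq1
      obtain ⟨e1, e2, e3⟩ := b.comm_out (hS hs) hsQ hqQ hq1
      exact ⟨⟨e1, e2⟩, e3⟩
    · intro h _ hhQ hhQ1 hhD d hd hcomm
      have hψ := b.psi_not_central h16 hcD hcW hcx hcd hhQ hhQ1 hhD
      by_cases hdW : d ∈ W
      · rcases b.mem_W_cases hdW with hm | hm
        · exact hm
        · exfalso
          refine hhD (b.mem_D_of_gens hhQ ((b.pair_u hhQ).mpr hhQ1) ?_)
          have e := (a.v_cI hm).2.2 h hhQ1
          have h1 : pair h (d * (x * (x1 * z * x1⁻¹) * x⁻¹)) = 1 := by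
            simp only [pair, ← e]; group
          have h2 : pair h d = 1 := by simp only [pair, hcomm]; group
          rwa [a.pair_mul_right hhQ hdW (a.vxW b.uV), h2, one_mul] at h1
      · exfalso
        have hw := hcd d hd hdW
        refine hψ ?_
        have hp := a.pair_mem hhQ hw
        have e : h * c * h⁻¹ * c⁻¹ = (h * d * h⁻¹) * ((h * (c⁻¹ * d) * h⁻¹)⁻¹ * c⁻¹) := by group
        rw [e, hcomm, mul_inv_cancel_right, conj_eq_pair_mul, mul_inv_rev]
        have e' : d * ((c⁻¹ * d)⁻¹ * (pair h (c⁻¹ * d))⁻¹ * c⁻¹) = c * (pair h (c⁻¹ * d))⁻¹ * c⁻¹ := by group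
        rw [e', ← (inv_mem hp : (pair h (c⁻¹ * d))⁻¹ ∈ centralInvol S).2.2 c (a.two.qle hcD.1), mul_inv_cancel_right]
        exact inv_mem hp
    · exact fun s hs hc => b.cent_W (hS hs) fun w hw => hc w (a.W_le_D hw)
  have hK : 0 < Nat.card K0 := Nat.card_pos
  rw [← hcard] at hmain
  exact Nat.le_of_mul_le_mul_right hmain hK

/-- The amalgam with one centraliser, as a statement about two parabolics. -/
theorem sectional_of_center_amalgam (h13 : Thirteen G) {S P1 P : Subgroup G} {x1 x : G} (h1 : Half S P1 x1)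
    (h2 : Half S P x) (hinf : P1 ⊓ P = S)
    (hcore : ∀ N : Subgroup G, N ≤ S → P1 ≤ Subgroup.normalizer (N : Set G) →
      P ≤ Subgroup.normalizer (N : Set G) → N = ⊥)
    (hfix : P ≤ Subgroup.centralizer (omegaCenterOf S : Set G)) : SectionalPRankLE 2 4 S := by
  rw [omegaCenterOf_eq] at hfix
  exact Amal.sectional ⟨h13, h1, h2, hinf, hcore, fun g hg v hv => ((hfix hg) v hv).symm⟩

end CfsgLib.SpecThirteen
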