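import Cfsg.Agent.Lib.SpecThirteen.FreeFacts
import Cfsg.Agent.Lib.SpecSix.AmalgamBase

/-!
Element orders in `{1, 2, 3, 4, 6, 8, 13}`: a parabolic with top `S₃` and one with a single involution in its top
both normalise the join of the largest elementary abelian subgroups, or the central involutions of the core of the
second.
-/

set_option autoImplicit false
set_option linter.unusedSectionVars false
set_option linter.style.haveILetI false

namespace CfsgLib.SpecThirteen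

open Cfsg
open CfsgLib.SpecSix (Frame Parab Half centralInvol core_le core_isPGroup le_normalizer_core fixed_in_coset
  isMulCommutative_of_sq mem_normalizer_of_cj_le cj_map_le)

universe u

variable {G : Type u} [Group G] [Finite G]

/-- A subgroup two of whose outside elements differ by one of `L` has at most twice the order of its part in `L`. -/
theorem card_le_two {K L : Subgroup G} (h : ∀ b ∈ K, ∀ c ∈ K, b ∉ L → c ∉ L → b⁻¹ * c ∈ L) :
    Nat.card K ≤ 2 * Nat.card ↥(K ⊓ L) := by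
  classical
  by_cases hle : K ≤ L
  · rw [inf_eq_left.mpr hle]; omega
  obtain ⟨c, hc, hcL⟩ := SetLike.not_le_iff_exists.mp hle
  let f : K → ↥(K ⊓ L) × Fin 2 := fun p =>
    if hp : (p : G) ∈ L then (⟨p, p.2, hp⟩, 0)
    else (⟨c⁻¹ * p, K.mul_mem (K.inv_mem hc) p.2, h c hc p p.2 hcL hp⟩, 1)
  have hf : Function.Injective f := by
    intro p r hpr
    simp only [f] at hpr
    split_ifs at hpr with h1 h1' h1'
    · exact Subtype.ext (congrArg (fun z : ↥(K ⊓ L) × Fin 2 => (z.1 : G)) hpr)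
    · exact absurd (congrArg Prod.snd hpr) (by simp)
    · exact absurd (congrArg Prod.snd hpr) (by simp)
    · exact Subtype.ext (mul_left_cancel (congrArg (fun z : ↥(K ⊓ L) × Fin 2 => (z.1 : G)) hpr))
  have := Nat.card_le_card_of_injective f hf
  rw [Nat.card_prod, Nat.card_fin] at this
  omega

/-- In a subgroup of index at most two the product of two outside elements is inside. -/
theorem diff_mem_of_card {H K : Subgroup G} (hle : H ≤ K) (hc : Nat.card K ≤ 2 * Nat.card H) {b c : G}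
    (hb : b ∈ K) (hcK : c ∈ K) (hbH : b ∉ H) (hcH : c ∉ H) : b⁻¹ * c ∈ H := by
  have hmul := CfsgLib.Products.card_mul_relIndex_of_le hle
  have hpos : 0 < Nat.card H := Nat.card_pos
  have hidx : H.relIndex K = 2 := by
    have h1 : H.relIndex K ≠ 1 := fun e => hbH (Subgroup.relIndex_eq_one.mp e hb)
    have h0 : H.relIndex K ≠ 0 := fun e => by
      rw [e, mul_zero] at hmul; exact (Nat.card_pos (α := K)).ne hmul
    have h2 : H.relIndex K ≤ 2 := by nlinarith
    omega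
  exact (Subgroup.mul_mem_iff_of_index_two (hidx : (H.subgroupOf K).index = 2)
    (a := (⟨b, hb⟩ : K)⁻¹) (b := ⟨c, hcK⟩)).mpr (iff_of_false
      (fun e => hbH (by simpa using Subgroup.mem_subgroupOf.mp (inv_mem_iff.mp e))) hcH)

variable {S P1 P2 : Subgroup G} {x : G}

/-- An involution of `S` outside the core inverts an element of order three generating the parabolic with `S`. -/
theorem half_inverted (h1 : Half S P1 x) {v : G} (hv : v ∈ S) (hvQ : v ∉ pCoreOf 2 P1) (hv2 : v * v = 1) :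
    ∃ g ∈ P1, orderOf g = 3 ∧ v * g * v⁻¹ = g⁻¹ ∧ S ⊔ Subgroup.zpowers g = P1 := by
  haveI : Fact (Nat.Prime 2) := ⟨Nat.prime_two⟩
  haveI : Fact (Nat.Prime 3) := ⟨Nat.prime_three⟩
  set Q1 := pCoreOf 2 P1
  have hvi : v⁻¹ = v := inv_eq_of_mul_eq_one_left hv2
  set w := x * v * x⁻¹ with hw
  have hw2 : w * w = 1 := by
    calc w * w = x * (v * v) * x⁻¹ := by rw [hw]; group
      _ = 1 := by rw [hv2]; group
  set r := v * w with hr
  have hvr : v * r * v⁻¹ = r⁻¹ := by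
    rw [hr, mul_inv_rev, inv_eq_of_mul_eq_one_left hw2, ← mul_assoc, hv2, one_mul, hvi]
  have hrP : r ∈ P1 := mul_mem (h1.le hv) (mul_mem (mul_mem h1.mem (h1.le hv)) (inv_mem h1.mem))
  obtain ⟨q, hq, hsw⟩ := h1.swap hv hvQ
  have hrq : r = q * x := by
    calc r = (v * x * v⁻¹) * (v * v) * x⁻¹ := by rw [hr, hw]; group
      _ = q * (x⁻¹ * x⁻¹) := by rw [hsw, hv2]; group
      _ = q * x := by rw [← mul_inv_rev, ← h1.inv_eq, inv_inv]
  have hr3 : r * r * r ∈ Q1 := by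
    have e : r * r * r = q * (x * q * x⁻¹) * ((x * x) * q * (x * x)⁻¹) * (x * x * x) := by rw [hrq]; group
    rw [e, h1.cube, mul_one]
    exact mul_mem (mul_mem hq (h1.conjQ h1.mem hq)) (h1.conjQ (mul_mem h1.mem h1.mem) hq)
  have hrQ : r ∉ Q1 := fun hm => h1.notin (h1.qle (by
    have := mul_mem (inv_mem hq) hm
    rwa [hrq, inv_mul_cancel_left] at this))
  obtain ⟨k, hk⟩ := core_isPGroup P1 ⟨_, hr3⟩
  have hk' : (r * r * r) ^ 2 ^ k = 1 := congrArg Subtype.val hk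
  set g := r ^ 2 ^ k with hg
  have hg3 : g ^ 3 = 1 := by
    rw [hg, ← pow_mul, mul_comm, pow_mul, pow_succ, pow_two]; exact hk'
  have hg1 : g ≠ 1 := fun e => hrQ (by
    have h1' : orderOf r ∣ 2 ^ k := orderOf_dvd_of_pow_eq_one e
    obtain ⟨j, -, hj⟩ := (Nat.dvd_prime_pow Nat.prime_two).mp h1'
    obtain ⟨m, hm⟩ := exists_pow_eq_self_of_coprime (x := r) (n := 3)
      (by rw [hj]; exact Nat.Coprime.pow_right j (by norm_num))
    rw [← hm]
    refine pow_mem ?_ m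
    rw [pow_succ, pow_two]; exact hr3)
  have hgo : orderOf g = 3 := orderOf_eq_prime hg3 hg1
  have hgP : g ∈ P1 := pow_mem hrP _
  have hgS : g ∉ S := fun hm => by
    obtain ⟨j, hj⟩ := h1.frame.two ⟨g, hm⟩
    have hd : (3 : ℕ) ∣ 2 ^ j := hgo ▸ orderOf_dvd_of_pow_eq_one (congrArg Subtype.val hj)
    exact absurd (Nat.prime_three.dvd_of_dvd_pow hd) (by norm_num)
  refine ⟨g, hgP, hgo, by rw [hg, ← conj_pow, hvr, inv_pow], ?_⟩
  have hmul := h1.frame.relIndex_eq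
  rw [h1.idx, h1.index] at hmul
  have h3 : S.relIndex P1 = 3 := by omega
  set H := S ⊔ Subgroup.zpowers g
  have hle : H ≤ P1 := sup_le h1.le (Subgroup.zpowers_le.mpr hgP)
  have hm := Subgroup.relIndex_mul_relIndex S H P1 le_sup_left hle
  rw [h3] at hm
  rcases (Nat.dvd_prime Nat.prime_three).mp (Dvd.intro _ hm) with e | e
  · exact absurd (Subgroup.relIndex_eq_one.mp e (Subgroup.mem_sup_right (Subgroup.mem_zpowers g))) hgS
  · rw [e] at hm
    exact le_antisymm hle (Subgroup.relIndex_eq_one.mp (by omega))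

variable {A : Subgroup (P2 ⧸ pCore 2 P2)} {e : P2 ⧸ pCore 2 P2}

/-- **A mixed pair normalises one of two characteristic subgroups.** -/
theorem FreePar.mixed (h2 : FreePar S P2 A e) (h1 : Half S P1 x)
    (hJ : ¬ P1 ≤ Subgroup.normalizer (jFull S : Set G))
    (hV : ¬ P1 ≤ Subgroup.normalizer (centralInvol (pCoreOf 2 P2) : Set G)) : False := by
  classical
  have h13 := h2.thirteen
  set Q1 := pCoreOf 2 P1 with hQ1
  set Q2 := pCoreOf 2 P2 with hQ2
  set V2 := centralInvol Q2 with hV2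
  set I := Q1 ⊓ Q2 with hI
  have hQ1S : Q1 ≤ S := h1.qle
  have hQ2S : Q2 ≤ S := h2.parab.core_le_T
  have hn1 : ∀ s ∈ P1, ∀ q ∈ Q1, s * q * s⁻¹ ∈ Q1 := fun s hs q hq => h1.conjQ hs hq
  have hn2 : ∀ s ∈ P2, ∀ q ∈ Q2, s * q * s⁻¹ ∈ Q2 := fun s hs q hq =>
    (Subgroup.mem_normalizer_iff.mp (le_normalizer_core P2 hs) q).mp hq
  have hnV : ∀ s ∈ S, ∀ v ∈ V2, s * v * s⁻¹ ∈ V2 := by
    intro s hs v hv
    refine ⟨hn2 s (h2.parab.le hs) v hv.1, ?_, fun q hq => ?_⟩
    · calc s * v * s⁻¹ * (s * v * s⁻¹) = s * (v * v) * s⁻¹ := by group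
        _ = 1 := by rw [hv.2.1]; group
    · have hq' : s⁻¹ * q * s ∈ Q2 := by simpa using hn2 _ (inv_mem (h2.parab.le hs)) q hq
      calc s * v * s⁻¹ * q = s * (v * (s⁻¹ * q * s)) * s⁻¹ := by group
        _ = s * ((s⁻¹ * q * s) * v) * s⁻¹ := by rw [hv.2.2 _ hq']
        _ = q * (s * v * s⁻¹) := by group
  have hnI : ∀ s ∈ S, ∀ i ∈ I, s * i * s⁻¹ ∈ I := fun s hs i hi =>
    ⟨hn1 s (h1.le hs) i hi.1, hn2 s (h2.parab.le hs) i hi.2⟩
  -- an element of a largest elementary subgroup outside the first core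
  obtain ⟨A0, hA0, a, ha, haQ1⟩ : ∃ A0, MaxElem S A0 ∧ ∃ a ∈ A0, a ∉ Q1 := by
    by_contra hno
    push Not at hno
    exact hJ fun g hg => mem_normalizer_jFull fun A hA v hv => hQ1S (hn1 g hg v (hno A hA v hv))
  have haS := hA0.le ha
  have haQ2 : a ∈ Q2 := h2.maxElem_le hA0 ha
  have ha2 := hA0.sq a ha
  have haV : ∀ v ∈ V2, a * v = v * a := fun v hv => (hv.2.2 a haQ2).symm
  have hSa : ∀ s ∈ S, s ∈ Q1 ∨ s * a ∈ Q1 := fun s hs => by
    by_cases hsQ : s ∈ Q1
    · exact Or.inl hsQ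
    · exact Or.inr ((h1.par hs haS).mpr (iff_of_false hsQ haQ1))
  obtain ⟨b0, hb0⟩ := h2.exists_inv2
  obtain ⟨b1, hb1, hb1Q⟩ : ∃ b, Inv2 S P2 b ∧ b ∈ Q1 := by
    rcases hSa b0 hb0.mem with hm | hm
    · exact ⟨b0, hb0, hm⟩
    refine ⟨b0 * a, ⟨mul_mem hb0.mem haS, fun hq => hb0.out ?_, ?_⟩, hm⟩
    · have := mul_mem hq (inv_mem haQ2)
      rwa [mul_inv_cancel_right] at this
    · have e' : b0 * a * (b0 * a) = (b0 * a * b0⁻¹) * (b0 * b0) * a := by group
      rw [e']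
      exact mul_mem (mul_mem (hn2 b0 (h2.parab.le hb0.mem) a haQ2) hb0.sq) haQ2
  -- an element of order three inverted by an element of the second core
  have htriv : ∀ v g : G, v ∈ Q2 → g ∈ P1 → g = v * (g * v * g⁻¹) → ∀ H : Subgroup G, I ≤ H →
      (∀ i ∈ I, g * i * g⁻¹ ∈ H) → ∀ q ∈ Q1, q⁻¹ * (g * q * g⁻¹) ∈ H := by
    intro v g hvQ2 hg hgv H u0 u1 q hq
    have hI : ∀ p ∈ Q1, p⁻¹ * (v * p * v⁻¹) ∈ I := fun p hp =>
      ⟨Q1.mul_mem (Q1.inv_mem hp) (hn1 v (h1.le (hQ2S hvQ2)) p hp), by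
        rw [show p⁻¹ * (v * p * v⁻¹) = (p⁻¹ * v * p⁻¹⁻¹) * v⁻¹ by group]
        exact Q2.mul_mem (hn2 _ (P2.inv_mem (h2.parab.le (hQ1S hp))) v hvQ2) (Q2.inv_mem hvQ2)⟩
    set q' := g⁻¹ * q * g with hq'
    have hq'Q : q' ∈ Q1 := by simpa using hn1 g⁻¹ (inv_mem hg) q hq
    set p := g * v * g⁻¹ * q * (g * v * g⁻¹)⁻¹ with hp
    have hpQ : p ∈ Q1 := hn1 _ (mul_mem (mul_mem hg (h1.le (hQ2S hvQ2))) (inv_mem hg)) q hq
    have hp1 : q⁻¹ * p ∈ H := by
      have e' : q⁻¹ * p = g * (q'⁻¹ * (v * q' * v⁻¹)) * g⁻¹ := by rw [hp, hq']; group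
      rw [e']; exact u1 _ (hI q' hq'Q)
    have e' : q⁻¹ * (g * q * g⁻¹) = (q⁻¹ * p) * (p⁻¹ * (v * p * v⁻¹)) := by
      conv_lhs => rw [hgv]
      rw [hp]; group
    rw [e']; exact mul_mem hp1 (u0 (hI p hpQ))
  have hnotS : ∀ g : G, orderOf g = 3 → g ∉ S := fun g hgo hm => by
    obtain ⟨j, hj⟩ := h1.frame.two ⟨g, hm⟩
    have hd : (3 : ℕ) ∣ 2 ^ j := hgo ▸ orderOf_dvd_of_pow_eq_one (congrArg Subtype.val hj)
    exact absurd (Nat.prime_three.dvd_of_dvd_pow hd) (by norm_num)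
  have hgenQ : ∀ v g : G, v ∈ Q2 → g ∈ P1 → orderOf g = 3 → g = v * (g * v * g⁻¹) →
      (∃ i ∈ I, g * i * g⁻¹ ∉ I) → ∀ H : Subgroup G, I ≤ H → (∀ i ∈ I, g * i * g⁻¹ ∈ H) →
        (∀ i ∈ I, g⁻¹ * i * g ∈ H) → Q1 ≤ H := by
    intro v g hvQ2 hg hgo hgv hmove
    set H0 := I ⊔ I.map (MulAut.conj g).toMonoidHom ⊔ I.map (MulAut.conj g⁻¹).toMonoidHom with hH0
    suffices hle : Q1 ≤ H0 by
      intro H k0 k1 k2
      exact hle.trans (sup_le (sup_le k0 (cj_map_le.mpr k1)) (cj_map_le.mpr fun i hi => by simpa using k2 i hi))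
    have u0 : I ≤ H0 := fun i hi => Subgroup.mem_sup_left (Subgroup.mem_sup_left hi)
    have u1 : ∀ i ∈ I, g * i * g⁻¹ ∈ H0 := fun i hi => Subgroup.mem_sup_left (Subgroup.mem_sup_right ⟨i, hi, rfl⟩)
    have u2 : ∀ i ∈ I, g⁻¹ * i * g ∈ H0 := fun i hi => Subgroup.mem_sup_right ⟨i, hi, by simp⟩
    have hg3 : g * g * g = 1 := by
      have := pow_orderOf_eq_one g
      rwa [hgo, pow_succ, pow_two] at this
    have hgi : g⁻¹ = g * g := inv_eq_of_mul_eq_one_right (by rw [← mul_assoc]; exact hg3)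
    have hH0Q : H0 ≤ Q1 := by
      refine sup_le (sup_le inf_le_left (cj_map_le.mpr fun i hi => hn1 g hg i hi.1)) (cj_map_le.mpr fun i hi => ?_)
      simpa using hn1 g⁻¹ (inv_mem hg) i hi.1
    have hgH : ∀ k ∈ H0, g * k * g⁻¹ ∈ H0 := by
      intro k hk
      have hle' : H0 ≤ H0.comap (MulAut.conj g).toMonoidHom := by
        refine sup_le (sup_le (fun i hi => u1 i hi) (cj_map_le.mpr fun i hi => ?_)) (cj_map_le.mpr fun i hi => ?_)
        · show g * (g * i * g⁻¹) * g⁻¹ ∈ H0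
          rw [show g * (g * i * g⁻¹) * g⁻¹ = (g * g) * i * (g * g)⁻¹ by group, ← hgi, inv_inv]
          exact u2 i hi
        · show g * (g⁻¹ * i * g⁻¹⁻¹) * g⁻¹ ∈ H0
          rw [show g * (g⁻¹ * i * g⁻¹⁻¹) * g⁻¹ = i by group]
          exact u0 hi
      exact hle' hk
    obtain ⟨b, hb, hbQ⟩ : ∃ b ∈ H0, Inv2 S P2 b := by
      obtain ⟨i, hi, hi'⟩ := hmove
      have hmS : g * i * g⁻¹ ∈ S := hQ1S (hn1 g hg i hi.1)
      have hout : g * i * g⁻¹ ∉ Q2 := fun hm => hi' ⟨hn1 g hg i hi.1, hm⟩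
      rcases h2.inv2_or hmS hout with hh | hh
      · exact ⟨_, u1 i hi, hh⟩
      · exact ⟨_, mul_mem (u1 i hi) (u1 i hi), hh⟩
    intro q hq
    obtain ⟨k, hk, hcom⟩ := fixed_in_coset ((core_isPGroup P1).to_le hH0Q) hgo hgH
      (htriv v g hvQ2 hg hgv H0 u0 u1 q hq)
    have hqk : q * k ∈ Q1 := mul_mem hq (hH0Q hk)
    obtain ⟨j, hj⟩ := core_isPGroup P1 ⟨_, hqk⟩
    have hsq := h13.commute_three hgo hcom (congrArg Subtype.val hj)
    by_cases hqk2 : q * k ∈ Q2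
    · have := mul_mem (u0 ⟨hqk, hqk2⟩) (inv_mem hk)
      rwa [mul_inv_cancel_right] at this
    · have hd := h2.inv2_diff hbQ ⟨hQ1S hqk, hqk2, by rw [hsq]; exact one_mem _⟩
      have := mul_mem (mul_mem hb (u0 ⟨Q1.mul_mem (Q1.inv_mem (hH0Q hb)) hqk, hd⟩)) (inv_mem hk)
      rwa [mul_inv_cancel_left, mul_inv_cancel_right] at this
  have hconj : ∀ {v g : G}, v * g * v⁻¹ = g⁻¹ → v * v = 1 → orderOf g = 3 → g = v * (g * v * g⁻¹) := by
    intro v g hvg hv2 hgo
    have h3 := pow_orderOf_eq_one g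
    rw [hgo, pow_succ, pow_two] at h3
    symm
    calc v * (g * v * g⁻¹) = (v * g * v⁻¹) * (v * v) * g⁻¹ := by group
      _ = g⁻¹ * g⁻¹ := by rw [hvg, hv2, mul_one]
      _ = g * (g * g * g)⁻¹ := by group
      _ = g := by rw [h3, inv_one, mul_one]
  have hstab : ∀ {g : G}, orderOf g = 3 → (∀ i ∈ I, g * i * g⁻¹ ∈ I) → ∀ i ∈ I, g⁻¹ * i * g ∈ I := by
    intro g hgo hg' i hi
    have h3 := pow_orderOf_eq_one g
    rw [hgo, pow_succ, pow_two] at h3
    have hgi : g⁻¹ = g * g := inv_eq_of_mul_eq_one_right (by rw [← mul_assoc]; exact h3)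
    have e' : g⁻¹ * i * g = g * (g * i * g⁻¹) * g⁻¹ := by
      calc g⁻¹ * i * g = (g * g) * i * (g * g)⁻¹ := by rw [← hgi, inv_inv]
        _ = _ := by group
    rw [e']; exact hg' _ (hg' i hi)
  by_cases hout : ∃ v ∈ V2, v ∉ Q1
  · obtain ⟨v, hv, hvQ1⟩ := hout
    obtain ⟨g, hg, hgo, hvg, -⟩ := half_inverted h1 (hQ2S hv.1) hvQ1 hv.2.1
    have hgv := hconj hvg hv.2.1 hgo
    have hfix : ∀ d : G, d ∈ I → g⁻¹ * d * g ∈ I → g * d = d * g := by
      intro d hd hd'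
      have e1 : v * d = d * v := hv.2.2 d hd.2
      have e2 : v * (g⁻¹ * d * g) = (g⁻¹ * d * g) * v := hv.2.2 _ hd'.2
      have e3 : g * v * g⁻¹ * d = d * (g * v * g⁻¹) := by
        calc g * v * g⁻¹ * d = g * (v * (g⁻¹ * d * g)) * g⁻¹ := by group
          _ = g * ((g⁻¹ * d * g) * v) * g⁻¹ := by rw [e2]
          _ = _ := by group
      rw [hgv]; exact (Commute.mul_left e1 e3).eq
    have hmove : ∃ i ∈ I, g * i * g⁻¹ ∉ I := by
      by_contra hno
      push Not at hno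
      refine hnotS g hgo (hQ1S (h1.frame.cent fun q hq => ?_))
      obtain ⟨i, hi, hcom⟩ := fixed_in_coset ((core_isPGroup P1).to_le inf_le_left) hgo hno
        (htriv v g hv.1 hg hgv I le_rfl hno q hq)
      have hc : Commute g i := hfix i hi (hstab hgo hno i hi)
      have := hcom.mul_right hc.inv_right
      rw [mul_inv_cancel_right] at this
      exact this.eq.symm
    set W := V2 ⊓ Q1 with hW
    set E := W ⊓ I.map (MulAut.conj g).toMonoidHom with hE
    have hVW : Nat.card V2 ≤ 2 * Nat.card W := card_le_two fun b hb c hc hb' hc' =>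
      (h1.par (inv_mem (hQ2S hb.1)) (hQ2S hc.1)).mpr (iff_of_false (fun e => hb' (inv_mem_iff.mp e)) hc')
    have hWE : Nat.card W ≤ 2 * Nat.card E := card_le_two fun b hb c hc hb' hc' => by
      have key : ∀ w ∈ W, w ∉ I.map (MulAut.conj g).toMonoidHom →
          g⁻¹ * w * g ∈ Q1 ∧ Inv2 S P2 (g⁻¹ * w * g) := by
        intro w hw hw'
        have hm : g⁻¹ * w * g ∈ Q1 := by simpa using hn1 g⁻¹ (inv_mem hg) w hw.2
        refine ⟨hm, hQ1S hm, fun h2' => hw' (SpecSix.cj_mem_map.mpr ⟨hm, h2'⟩), ?_⟩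
        have e' : g⁻¹ * w * g * (g⁻¹ * w * g) = g⁻¹ * (w * w) * g := by group
        rw [e', hw.1.2.1, mul_one, inv_mul_cancel]; exact one_mem _
      obtain ⟨hb1', hbi⟩ := key b hb hb'
      obtain ⟨hc1', hci⟩ := key c hc hc'
      refine SpecSix.cj_mem_map.mpr ?_
      rw [show g⁻¹ * (b⁻¹ * c) * g = (g⁻¹ * b * g)⁻¹ * (g⁻¹ * c * g) by group]
      exact ⟨Q1.mul_mem (Q1.inv_mem hb1') hc1', h2.inv2_diff hbi hci⟩
    have hEfix : ∀ d ∈ E, ∀ s ∈ S, s * d = d * s := by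
      intro d hd
      have hdI : d ∈ I := ⟨hd.1.2, hd.1.1.1⟩
      have hd'I : g⁻¹ * d * g ∈ I := SpecSix.cj_mem_map.mp hd.2
      have hgd : Commute g d := hfix d hdI hd'I
      have hIc : ∀ i ∈ I, Commute i d := fun i hi => (hd.1.1.2.2 i hi.2).symm
      have hQc : Q1 ≤ Subgroup.centralizer {d} := hgenQ v g hv.1 hg hgo hgv hmove _
        (fun i hi => Subgroup.mem_centralizer_singleton_iff.mpr (hIc i hi).eq)
        (fun i hi => Subgroup.mem_centralizer_singleton_iff.mpr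
          ((hgd.mul_left (hIc i hi)).mul_left hgd.inv_left).eq)
        (fun i hi => Subgroup.mem_centralizer_singleton_iff.mpr
          ((hgd.inv_left.mul_left (hIc i hi)).mul_left hgd).eq)
      intro s hs
      rcases hSa s hs with hm | hm
      · exact Subgroup.mem_centralizer_singleton_iff.mp (hQc hm)
      · have hsa : Commute (s * a) d := Subgroup.mem_centralizer_singleton_iff.mp (hQc hm)
        have := hsa.mul_left (Commute.inv_left (haV d hd.1.1))
        rw [mul_inv_cancel_right] at this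
        exact this.eq
    have h8 := h2.eight_fixed (W := E) (fun d hd => hd.1.1) (fun s hs w hw => hEfix w hw s hs)
    have : 0 < Nat.card E := Nat.card_pos
    rw [← hQ2, ← hV2] at h8
    omega
  push Not at hout
  obtain ⟨g, hg, hgo, hag, hgenP⟩ := half_inverted h1 haS haQ1 ha2
  have hgv := hconj hag ha2 hgo
  have h3 : g * g * g = 1 := by
    have := pow_orderOf_eq_one g
    rwa [hgo, pow_succ, pow_two] at this
  have hgi : g⁻¹ = g * g := inv_eq_of_mul_eq_one_right (by rw [← mul_assoc]; exact h3)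
  have hgVQ : ∀ w ∈ V2, g * w * g⁻¹ ∈ Q1 ∧ g⁻¹ * w * g ∈ Q1 := fun w hw =>
    ⟨hn1 g hg w (hout w hw), by simpa using hn1 g⁻¹ (inv_mem hg) w (hout w hw)⟩
  -- the conjugates commute
  have hcj : ∀ v ∈ V2, ∀ w ∈ V2, v * (g * w * g⁻¹) = g * w * g⁻¹ * v := by
    by_contra hne
    push Not at hne
    obtain ⟨v0, hv0, w0, hw0, hne0⟩ := hne
    have hwS : g * w0 * g⁻¹ ∈ S := hQ1S (hgVQ w0 hw0).1
    have hwo : g * w0 * g⁻¹ ∉ Q2 := fun hm => hne0 (hv0.2.2 _ hm)
    have hwb : Inv2 S P2 (g * w0 * g⁻¹) := ⟨hwS, hwo, by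
      rw [show g * w0 * g⁻¹ * (g * w0 * g⁻¹) = g * (w0 * w0) * g⁻¹ by group, hw0.2.1, mul_one, mul_inv_cancel]
      exact one_mem _⟩
    set F := V2 ⊓ Q2.map (MulAut.conj g).toMonoidHom with hF
    have hVF : Nat.card V2 ≤ 2 * Nat.card F := card_le_two fun b hb c hc hb' hc' => by
      have key : ∀ w ∈ V2, w ∉ Q2.map (MulAut.conj g).toMonoidHom → Inv2 S P2 (g⁻¹ * w * g) := fun w hw hw' => by
        refine ⟨hQ1S (hgVQ w hw).2, fun h2' => hw' (SpecSix.cj_mem_map.mpr h2'), ?_⟩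
        rw [show g⁻¹ * w * g * (g⁻¹ * w * g) = g⁻¹ * (w * w) * g by group, hw.2.1, mul_one, inv_mul_cancel]
        exact one_mem _
      refine SpecSix.cj_mem_map.mpr ?_
      rw [show g⁻¹ * (b⁻¹ * c) * g = (g⁻¹ * b * g)⁻¹ * (g⁻¹ * c * g) by group]
      exact h2.inv2_diff (key b hb hb') (key c hc hc')
    have h4 := h2.four_fixed hwb (W := F) (fun d hd => hd.1) (fun d hd => by
      have e' := hw0.2.2 _ (SpecSix.cj_mem_map.mp hd.2)
      calc g * w0 * g⁻¹ * d = g * (w0 * (g⁻¹ * d * g)) * g⁻¹ := by group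
        _ = g * ((g⁻¹ * d * g) * w0) * g⁻¹ := by rw [e']
        _ = _ := by group)
    have : 0 < Nat.card F := Nat.card_pos
    rw [← hQ2, ← hV2] at h4
    omega
  have hcj2 : ∀ v ∈ V2, ∀ w ∈ V2, v * (g⁻¹ * w * g) = g⁻¹ * w * g * v := fun v hv w hw => by
    have e' := hcj w hw v hv
    calc v * (g⁻¹ * w * g) = g⁻¹ * ((g * v * g⁻¹) * w) * g := by group
      _ = g⁻¹ * (w * (g * v * g⁻¹)) * g := by rw [e']
      _ = _ := by group
  have hcj3 : ∀ v ∈ V2, ∀ w ∈ V2, g * v * g⁻¹ * (g⁻¹ * w * g) = g⁻¹ * w * g * (g * v * g⁻¹) := fun v hv w hw => by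
    have e' := hcj v hv w hw
    have hgg : g⁻¹ * w * g = g * (g * w * g⁻¹) * g⁻¹ := by
      calc g⁻¹ * w * g = (g * g) * w * (g * g)⁻¹ := by rw [← hgi, inv_inv]
        _ = _ := by group
    calc g * v * g⁻¹ * (g⁻¹ * w * g) = g * (v * (g * w * g⁻¹)) * g⁻¹ := by rw [hgg]; group
      _ = g * ((g * w * g⁻¹) * v) * g⁻¹ := by rw [e']
      _ = _ := by rw [hgg]; group
  set V' := V2.map (MulAut.conj g).toMonoidHom with hV'
  set V'' := V2.map (MulAut.conj g⁻¹).toMonoidHom with hV''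
  set U := V2 ⊔ V' ⊔ V'' with hU
  have mV : ∀ w ∈ V2, w ∈ U := fun w hw => Subgroup.mem_sup_left (Subgroup.mem_sup_left hw)
  have m1 : ∀ w ∈ V2, g * w * g⁻¹ ∈ U := fun w hw => Subgroup.mem_sup_left (Subgroup.mem_sup_right ⟨w, hw, rfl⟩)
  have m2 : ∀ w ∈ V2, g⁻¹ * w * g ∈ U := fun w hw => Subgroup.mem_sup_right ⟨w, hw, by simp⟩
  have hUle : ∀ H : Subgroup G, (∀ w ∈ V2, w ∈ H) → (∀ w ∈ V2, g * w * g⁻¹ ∈ H) →
      (∀ w ∈ V2, g⁻¹ * w * g ∈ H) → U ≤ H := fun H k0 k1 k2 =>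
    sup_le (sup_le k0 (cj_map_le.mpr k1)) (cj_map_le.mpr fun w hw => by simpa using k2 w hw)
  have hUQ : U ≤ Q1 := hUle Q1 hout (fun w hw => (hgVQ w hw).1) fun w hw => (hgVQ w hw).2
  have hUc : U ≤ Subgroup.centralizer (U : Set G) := by
    have key : ∀ y : G, (∀ w ∈ V2, y * w = w * y ∧ y * (g * w * g⁻¹) = g * w * g⁻¹ * y ∧
        y * (g⁻¹ * w * g) = g⁻¹ * w * g * y) → y ∈ Subgroup.centralizer (U : Set G) := by
      intro y hy u hu
      exact Subgroup.mem_centralizer_singleton_iff.mp (hUle (Subgroup.centralizer {y})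
        (fun w hw => Subgroup.mem_centralizer_singleton_iff.mpr (hy w hw).1.symm)
        (fun w hw => Subgroup.mem_centralizer_singleton_iff.mpr (hy w hw).2.1.symm)
        (fun w hw => Subgroup.mem_centralizer_singleton_iff.mpr (hy w hw).2.2.symm) hu)
    refine hUle _ (fun v hv => key v fun w hw => ⟨hv.2.2 w hw.1, hcj v hv w hw, hcj2 v hv w hw⟩)
      (fun v hv => key _ fun w hw => ⟨(hcj w hw v hv).symm, ?_, hcj3 v hv w hw⟩)
      (fun v hv => key _ fun w hw => ⟨(hcj2 w hw v hv).symm, (hcj3 w hw v hv).symm, ?_⟩)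
    · calc g * v * g⁻¹ * (g * w * g⁻¹) = g * (v * w) * g⁻¹ := by group
        _ = g * (w * v) * g⁻¹ := by rw [hv.2.2 w hw.1]
        _ = _ := by group
    · calc g⁻¹ * v * g * (g⁻¹ * w * g) = g⁻¹ * (v * w) * g := by group
        _ = g⁻¹ * (w * v) * g := by rw [hv.2.2 w hw.1]
        _ = _ := by group
  have hUcomm : ∀ u ∈ U, ∀ u' ∈ U, u * u' = u' * u := fun u hu u' hu' => (hUc hu u' hu').symm
  have hUsq : ∀ u ∈ U, u * u = 1 := by
    intro u hu
    let H : Subgroup G :=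
      { carrier := {u | u ∈ U ∧ u * u = 1}
        one_mem' := ⟨one_mem _, one_mul 1⟩
        mul_mem' := fun {p r} hp hr => ⟨U.mul_mem hp.1 hr.1, by
          rw [Commute.mul_mul_mul_comm (hUcomm r hr.1 p hp.1), hp.2, hr.2, one_mul]⟩
        inv_mem' := fun {p} hp => ⟨U.inv_mem hp.1, by rw [← mul_inv_rev, hp.2, inv_one]⟩ }
    exact (hUle H (fun w hw => ⟨mV w hw, hw.2.1⟩)
      (fun w hw => ⟨m1 w hw, by rw [show g * w * g⁻¹ * (g * w * g⁻¹) = g * (w * w) * g⁻¹ by group, hw.2.1,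
        mul_one, mul_inv_cancel]⟩)
      (fun w hw => ⟨m2 w hw, by rw [show g⁻¹ * w * g * (g⁻¹ * w * g) = g⁻¹ * (w * w) * g by group, hw.2.1,
        mul_one, inv_mul_cancel]⟩) hu).2
  have hgU : ∀ u ∈ U, g * u * g⁻¹ ∈ U := by
    intro u hu
    refine hUle (U.comap (MulAut.conj g).toMonoidHom) (fun w hw => m1 w hw) (fun w hw => ?_) (fun w hw => ?_) hu
    · show g * (g * w * g⁻¹) * g⁻¹ ∈ U
      rw [show g * (g * w * g⁻¹) * g⁻¹ = (g * g) * w * (g * g)⁻¹ by group, ← hgi, inv_inv]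
      exact m2 w hw
    · show g * (g⁻¹ * w * g) * g⁻¹ ∈ U
      rw [show g * (g⁻¹ * w * g) * g⁻¹ = w by group]
      exact mV w hw
  have hflip : ∀ w ∈ V2, a * (g * w * g⁻¹) * a⁻¹ = g⁻¹ * w * g ∧ a * (g⁻¹ * w * g) * a⁻¹ = g * w * g⁻¹ := by
    intro w hw
    have ew : a * w * a⁻¹ = w := by rw [haV w hw, mul_inv_cancel_right]
    constructor
    · calc a * (g * w * g⁻¹) * a⁻¹ = (a * g * a⁻¹) * (a * w * a⁻¹) * (a * g * a⁻¹)⁻¹ := by group
        _ = _ := by rw [hag, ew, inv_inv]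
    · calc a * (g⁻¹ * w * g) * a⁻¹ = (a * g * a⁻¹)⁻¹ * (a * w * a⁻¹) * (a * g * a⁻¹) := by group
        _ = _ := by rw [hag, ew, inv_inv]
  have haU : ∀ u ∈ U, a * u * a⁻¹ ∈ U := fun u hu =>
    hUle (U.comap (MulAut.conj a).toMonoidHom)
      (fun w hw => (show a * w * a⁻¹ ∈ U by rw [haV w hw, mul_inv_cancel_right]; exact mV w hw))
      (fun w hw => (show a * (g * w * g⁻¹) * a⁻¹ ∈ U by rw [(hflip w hw).1]; exact m2 w hw))
      (fun w hw => (show a * (g⁻¹ * w * g) * a⁻¹ ∈ U by rw [(hflip w hw).2]; exact m1 w hw)) hu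
  -- the part of the elementary subgroup centralising all conjugates
  set B := A0 ⊓ Q1 ⊓ Subgroup.centralizer (V' : Set G) with hB
  have hA0c : ∀ p ∈ A0, ∀ r ∈ A0, p * r = r * p := fun p hp r hr => by
    haveI := isMulCommutative_of_sq hA0.sq
    exact congrArg Subtype.val (IsMulCommutative.is_comm.comm (⟨p, hp⟩ : A0) ⟨r, hr⟩)
  have hBU : ∀ b ∈ B, ∀ u ∈ U, b * u = u * b := by
    intro b hb u hu
    refine (Subgroup.mem_centralizer_singleton_iff.mp (hUle (Subgroup.centralizer {b}) (fun w hw => ?_)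
      (fun w hw => ?_) (fun w hw => ?_) hu)).symm
    · exact Subgroup.mem_centralizer_singleton_iff.mpr (hw.2.2 b (h2.maxElem_le hA0 hb.1.1))
    · exact Subgroup.mem_centralizer_singleton_iff.mpr (hb.2 _ ⟨w, hw, rfl⟩)
    · refine Subgroup.mem_centralizer_singleton_iff.mpr ?_
      have e1 : Commute a b := hA0c a ha b hb.1.1
      have e2 : Commute (g * w * g⁻¹) b := hb.2 _ ⟨w, hw, rfl⟩
      rw [← (hflip w hw).1]
      exact ((e1.mul_left e2).mul_left e1.inv_left).eq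
  have hAQ : Nat.card A0 ≤ 2 * Nat.card ↥(A0 ⊓ Q1) := card_le_two fun b hb c hc hb' hc' =>
    (h1.par (inv_mem (hA0.le hb)) (hA0.le hc)).mpr (iff_of_false (fun e' => hb' (inv_mem_iff.mp e')) hc')
  have hAB : Nat.card ↥(A0 ⊓ Q1) ≤ 2 * Nat.card B := card_le_two fun b hb c hc hb' hc' => by
    have key : ∀ p ∈ A0 ⊓ Q1, p ∉ Subgroup.centralizer (V' : Set G) →
        g⁻¹ * p * g ∈ Q1 ∧ Inv2 S P2 (g⁻¹ * p * g) := by
      intro p hp hp'
      have hm : g⁻¹ * p * g ∈ Q1 := by simpa using hn1 g⁻¹ (inv_mem hg) p hp.2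
      refine ⟨hm, hQ1S hm, fun h2' => hp' ?_, ?_⟩
      · rintro _ ⟨w, hw, rfl⟩
        show g * w * g⁻¹ * p = p * (g * w * g⁻¹)
        calc g * w * g⁻¹ * p = g * (w * (g⁻¹ * p * g)) * g⁻¹ := by group
          _ = g * ((g⁻¹ * p * g) * w) * g⁻¹ := by rw [hw.2.2 _ h2']
          _ = _ := by group
      · rw [show g⁻¹ * p * g * (g⁻¹ * p * g) = g⁻¹ * (p * p) * g by group, hA0.sq p hp.1, mul_one, inv_mul_cancel]
        exact one_mem _
    have hd := h2.inv2_diff (key b hb hb').2 (key c hc hc').2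
    rintro _ ⟨w, hw, rfl⟩
    show g * w * g⁻¹ * (b⁻¹ * c) = b⁻¹ * c * (g * w * g⁻¹)
    calc g * w * g⁻¹ * (b⁻¹ * c) = g * (w * ((g⁻¹ * b * g)⁻¹ * (g⁻¹ * c * g))) * g⁻¹ := by group
      _ = g * (((g⁻¹ * b * g)⁻¹ * (g⁻¹ * c * g)) * w) * g⁻¹ := by rw [hw.2.2 _ hd]
      _ = _ := by group
  set CU := U ⊓ Subgroup.centralizer {a} with hCU
  have hjoin : B ≤ Subgroup.normalizer (U : Set G) := fun b hb =>
    mem_normalizer_of_cj_le fun u hu => by rwa [hBU b hb u hu, mul_inv_cancel_right]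
  have hBUmax : Nat.card ↥(B ⊔ U) ≤ Nat.card A0 := by
    refine hA0.max _ (sup_le (fun b hb => hA0.le hb.1.1) (hUQ.trans hQ1S)) fun p hp => ?_
    rw [← SetLike.mem_coe, Subgroup.coe_mul_of_left_le_normalizer_right _ _ hjoin] at hp
    obtain ⟨b, hb, u, hu, rfl⟩ := Set.mem_mul.mp hp
    rw [Commute.mul_mul_mul_comm (hBU b hb u hu).symm, hA0.sq b hb.1.1, hUsq u hu, one_mul]
  have hBUinf : Nat.card ↥(B ⊓ U) ≤ Nat.card CU := Subgroup.card_le_of_le fun p hp =>
    ⟨hp.2, Subgroup.mem_centralizer_singleton_iff.mpr (hA0c p hp.1.1.1 a ha)⟩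
  have hbound : ∀ k : ℕ, Nat.card A0 ≤ k * Nat.card B → Nat.card U ≤ k * Nat.card CU := by
    intro k hk
    have hcard : Nat.card B * Nat.card U ≤ Nat.card A0 * Nat.card ↥(B ⊓ U) := by
      rw [← CfsgLib.JComp.card_sup_mul_card_inf hjoin]
      exact Nat.mul_le_mul_right _ hBUmax
    have hB0 : 0 < Nat.card B := Nat.card_pos
    have h' : Nat.card B * Nat.card U ≤ Nat.card B * (k * Nat.card CU) := by
      calc Nat.card B * Nat.card U ≤ Nat.card A0 * Nat.card ↥(B ⊓ U) := hcard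
        _ ≤ (k * Nat.card B) * Nat.card CU := Nat.mul_le_mul hk hBUinf
        _ = _ := by ring
    exact Nat.le_of_mul_le_mul_left h' hB0
  by_cases hstabI : ∀ i ∈ I, g * i * g⁻¹ ∈ I
  · -- the intersection is normalised
    have hIU : ∀ i ∈ I, ∀ u ∈ U, i * u = u * i := by
      intro i hi u hu
      refine (Subgroup.mem_centralizer_singleton_iff.mp (hUle (Subgroup.centralizer {i}) (fun w hw => ?_)
        (fun w hw => ?_) (fun w hw => ?_) hu)).symm
      · exact Subgroup.mem_centralizer_singleton_iff.mpr (hw.2.2 i hi.2)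
      · refine Subgroup.mem_centralizer_singleton_iff.mpr ?_
        calc g * w * g⁻¹ * i = g * (w * (g⁻¹ * i * g)) * g⁻¹ := by group
          _ = g * ((g⁻¹ * i * g) * w) * g⁻¹ := by rw [hw.2.2 _ (hstab hgo hstabI i hi).2]
          _ = _ := by group
      · refine Subgroup.mem_centralizer_singleton_iff.mpr ?_
        calc g⁻¹ * w * g * i = g⁻¹ * (w * (g * i * g⁻¹)) * g := by group
          _ = g⁻¹ * ((g * i * g⁻¹) * w) * g := by rw [hw.2.2 _ (hstabI i hi).2]
          _ = _ := by group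
    have hAB' : A0 ⊓ Q1 ≤ B := fun p hp => by
      refine ⟨hp, ?_⟩
      rintro _ ⟨w, hw, rfl⟩
      exact (hIU p ⟨hp.2, h2.maxElem_le hA0 hp.1⟩ _ (m1 w hw)).symm
    have hU2 : Nat.card U ≤ 2 * Nat.card CU :=
      hbound 2 (hAQ.trans (Nat.mul_le_mul_left 2 (Subgroup.card_le_of_le hAB')))
    obtain ⟨i, hi, hcom⟩ := fixed_in_coset ((core_isPGroup P1).to_le inf_le_left : IsPGroup 2 I) hgo hstabI
      (htriv a g haQ2 hg hgv I le_rfl hstabI b1 hb1Q)
    set q := b1 * i with hq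
    have hqQ1 : q ∈ Q1 := mul_mem hb1Q hi.1
    have hqQ2 : q ∉ Q2 := fun hm => hb1.out (by
      have := mul_mem hm (inv_mem hi.2)
      rwa [mul_inv_cancel_right] at this)
    refine hqQ2 (h2.mem_core_of_centralizes (hQ1S hqQ1) fun v hv => ?_)
    have hqU : ∀ u ∈ U, q * u * q⁻¹ ∈ U := by
      have hqV : ∀ w ∈ V2, q * w * q⁻¹ ∈ V2 := hnV q (hQ1S hqQ1)
      refine fun u hu => hUle (U.comap (MulAut.conj q).toMonoidHom) (fun w hw => mV _ (hqV w hw))
        (fun w hw => ?_) (fun w hw => ?_) hu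
      · show q * (g * w * g⁻¹) * q⁻¹ ∈ U
        have e' : q * (g * w * g⁻¹) * q⁻¹ = g * (q * w * q⁻¹) * g⁻¹ := by
          calc q * (g * w * g⁻¹) * q⁻¹ = (q * g) * w * (q * g)⁻¹ := by group
            _ = (g * q) * w * (g * q)⁻¹ := by rw [hcom.eq]
            _ = _ := by group
        rw [e']; exact m1 _ (hqV w hw)
      · show q * (g⁻¹ * w * g) * q⁻¹ ∈ U
        have e' : q * (g⁻¹ * w * g) * q⁻¹ = g⁻¹ * (q * w * q⁻¹) * g := by
          calc q * (g⁻¹ * w * g) * q⁻¹ = (q * g⁻¹) * w * (q * g⁻¹)⁻¹ := by group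
            _ = (g⁻¹ * q) * w * (g⁻¹ * q)⁻¹ := by rw [hcom.inv_left.eq]
            _ = _ := by group
        rw [e']; exact m2 _ (hqV w hw)
    -- the commutators with the involution
    set c : G → G := fun u => a * u * a⁻¹ * u⁻¹ with hc
    have hcU : ∀ u ∈ U, c u ∈ U := fun u hu => mul_mem (haU u hu) (inv_mem hu)
    have hc1 : ∀ u ∈ U, u ∈ CU ↔ c u = 1 := by
      intro u hu
      constructor
      · intro h'
        have e' : a * u = u * a := (Subgroup.mem_centralizer_singleton_iff.mp h'.2).symm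
        simp only [hc, e']; group
      · intro h'
        exact ⟨hu, Subgroup.mem_centralizer_singleton_iff.mpr
          (mul_inv_eq_iff_eq_mul.mp (mul_inv_eq_one.mp h')).symm⟩
    have hqc : ∀ u ∈ U, Commute q (c u) := by
      intro u hu
      by_cases hu1 : u ∈ CU
      · rw [(hc1 u hu).mp hu1]; exact Commute.one_right q
      set k := a⁻¹ * (q * a * q⁻¹) with hk
      have hkI : k ∈ I := by
        refine ⟨?_, Q2.mul_mem (Q2.inv_mem haQ2) (hn2 q (h2.parab.le (hQ1S hqQ1)) a haQ2)⟩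
        rw [hk, show a⁻¹ * (q * a * q⁻¹) = (a⁻¹ * q * a⁻¹⁻¹) * q⁻¹ by group]
        exact Q1.mul_mem (hn1 a⁻¹ (inv_mem (h1.le haS)) q hqQ1) (Q1.inv_mem hqQ1)
      set u' := q * u * q⁻¹ with hu'
      have hu'U := hqU u hu
      have hqcu : q * c u * q⁻¹ = c u' := by
        calc q * c u * q⁻¹ = (a * k) * u' * (a * k)⁻¹ * u'⁻¹ := by simp only [hc, hk, hu']; group
          _ = a * (k * u' * k⁻¹) * a⁻¹ * u'⁻¹ := by group
          _ = c u' := by rw [hIU k hkI u' hu'U, mul_inv_cancel_right]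
      have hu'1 : u' ∉ CU := fun h' => hu1 ((hc1 u hu).mpr (conj_eq_one_iff.mp
        (hqcu.trans ((hc1 u' hu'U).mp h'))))
      have hd := diff_mem_of_card (inf_le_left : CU ≤ U) hU2 hu hu'U hu1 hu'1
      have e' : c u' = c u := by
        set d := u⁻¹ * u' with hd'
        have hdc := (hc1 d hd.1).mp hd
        have hud : u' = u * d := by rw [hd']; group
        have ead : a * d * a⁻¹ = d := mul_inv_eq_one.mp hdc
        calc c u' = (a * u * a⁻¹) * (a * d * a⁻¹) * d⁻¹ * u⁻¹ := by simp only [hc, hud]; group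
          _ = c u := by rw [ead, mul_inv_cancel_right]
      exact mul_inv_eq_iff_eq_mul.mp (hqcu.trans e')
    have hqg : ∀ u ∈ U, Commute q (g * u * g⁻¹ * u⁻¹) := by
      intro u hu
      set u1 := g⁻¹ * u * g with hu1
      have hu1U : u1 ∈ U := by
        rw [hu1, show g⁻¹ * u * g = g * (g * u * g⁻¹) * g⁻¹ by
          calc g⁻¹ * u * g = (g * g) * u * (g * g)⁻¹ := by rw [← hgi, inv_inv]
            _ = _ := by group]
        exact hgU _ (hgU u hu)
      set c' := g * c u1 * g⁻¹ with hc'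
      have hc'U : c' ∈ U := hgU _ (hcU u1 hu1U)
      have hqc' : Commute q c' := (hcom.symm.mul_right (hqc u1 hu1U)).mul_right hcom.symm.inv_right
      have e' : g * u * g⁻¹ * u⁻¹ = c c' * c' * c u := by
        calc g * u * g⁻¹ * u⁻¹ = (a * (g * a * g⁻¹)) * u * (a * (g * a * g⁻¹))⁻¹ * u⁻¹ := by rw [← hgv]
          _ = (a * c' * a⁻¹) * (a * u * a⁻¹) * u⁻¹ := by simp only [hc', hc, hu1]; group
          _ = (a * c' * a⁻¹ * c'⁻¹) * c' * (a * u * a⁻¹ * u⁻¹) := by group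
      rw [e']
      exact ((hqc c' hc'U).mul_right hqc').mul_right (hqc u hu)
    -- every element is a fixed one times a commutator
    have hvU := mV v hv
    set v1 := g * v * g⁻¹ with hv1
    set v2 := g * v1 * g⁻¹ with hv2
    have hv1U := hgU v hvU
    have hv2U := hgU v1 hv1U
    set w := v * v1 * v2 with hw
    have hwU : w ∈ U := mul_mem (mul_mem hvU hv1U) hv2U
    have hgw : Commute g w := by
      have e' : g * w * g⁻¹ = w := by
        calc g * w * g⁻¹ = v1 * v2 * ((g * g * g) * v * (g * g * g)⁻¹) := by rw [hw, hv2, hv1]; group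
          _ = (v1 * v2) * v := by rw [h3]; group
          _ = v * (v1 * v2) := hUcomm _ (mul_mem hv1U hv2U) v hvU
          _ = w := (mul_assoc v v1 v2).symm
      exact mul_inv_eq_iff_eq_mul.mp e'
    have hqw : q * w = w * q := by
      refine h13.three_abelian hgo ((core_isPGroup P1).to_le (inf_le_left : Q1 ⊓ Subgroup.centralizer {g} ≤ Q1))
        (fun d hd => (Subgroup.mem_centralizer_singleton_iff.mp hd.2).symm) q ?_ w ?_
      · exact ⟨hqQ1, Subgroup.mem_centralizer_singleton_iff.mpr hcom.eq.symm⟩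
      · exact ⟨hUQ hwU, Subgroup.mem_centralizer_singleton_iff.mpr hgw.eq.symm⟩
    have ev : v = w * (g * v1 * g⁻¹ * v1⁻¹) := by
      rw [← hv2, inv_eq_of_mul_eq_one_left (hUsq v1 hv1U), hw, hUcomm v2 hv2U v1 hv1U]
      calc v = v * ((v1 * v2) * (v1 * v2)) := by rw [hUsq _ (mul_mem hv1U hv2U), mul_one]
        _ = _ := by simp only [mul_assoc]
    rw [ev]
    exact (Commute.mul_right hqw (hqg v1 hv1U)).eq
  · -- the intersection is not normalised
    push Not at hstabI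
    set M := V2 ⊓ V' with hM
    have hMc : ∀ i ∈ I, ∀ w ∈ M, i * w = w * i := fun i hi w hw => (hw.1.2.2 i hi.2).symm
    have hMc1 : ∀ i ∈ I, ∀ w ∈ M, g * i * g⁻¹ * w = w * (g * i * g⁻¹) := by
      rintro i hi w ⟨-, w', hw', rfl⟩
      show g * i * g⁻¹ * (g * w' * g⁻¹) = g * w' * g⁻¹ * (g * i * g⁻¹)
      calc g * i * g⁻¹ * (g * w' * g⁻¹) = g * (i * w') * g⁻¹ := by group
        _ = g * (w' * i) * g⁻¹ := by rw [hw'.2.2 i hi.2]
        _ = _ := by group
    have hQM : ∀ w ∈ M, Q1 ≤ Subgroup.centralizer {w} := fun w hw => by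
      refine hgenQ a g haQ2 hg hgo hgv hstabI _
        (fun i hi => Subgroup.mem_centralizer_singleton_iff.mpr (hMc i hi w hw))
        (fun i hi => Subgroup.mem_centralizer_singleton_iff.mpr (hMc1 i hi w hw)) (fun i hi => ?_)
      refine Subgroup.mem_centralizer_singleton_iff.mpr ?_
      have hi' : a⁻¹ * i * a ∈ I := by simpa using hnI a⁻¹ (inv_mem haS) i hi
      have e1 : Commute a w := haV w hw.1
      have e2 : Commute (g * (a⁻¹ * i * a) * g⁻¹) w := hMc1 _ hi' w hw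
      have e3 : g⁻¹ * i * g = a * (g * (a⁻¹ * i * a) * g⁻¹) * a⁻¹ := by
        calc g⁻¹ * i * g = (a * g * a⁻¹) * i * (a * g * a⁻¹)⁻¹ := by rw [hag, inv_inv]
          _ = _ := by group
      rw [e3]
      exact ((e1.mul_left e2).mul_left e1.inv_left).eq
    have h8 := h2.eight_fixed (W := M) (fun d hd => hd.1) (fun s hs w hw => by
      rcases hSa s hs with hm | hm
      · exact Subgroup.mem_centralizer_singleton_iff.mp (hQM w hw hm)
      · have hsa : Commute (s * a) w := Subgroup.mem_centralizer_singleton_iff.mp (hQM w hw hm)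
        have := hsa.mul_left (Commute.inv_left (haV w hw.1))
        rw [mul_inv_cancel_right] at this
        exact this.eq)
    have hU4 : Nat.card U ≤ 4 * Nat.card CU := hbound 4 (by omega)
    set C' := V' ⊓ Subgroup.centralizer {a} with hC'
    have hV'U : V' ≤ U := le_sup_right.trans le_sup_left
    have hV'CU : Nat.card V' * Nat.card CU ≤ Nat.card U * Nat.card C' := by
      have hn' : V' ≤ Subgroup.normalizer (CU : Set G) := fun p hp =>
        mem_normalizer_of_cj_le fun r hr => by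
          rwa [hUcomm p (hV'U hp) r hr.1, mul_inv_cancel_right]
      rw [← CfsgLib.JComp.card_sup_mul_card_inf hn']
      refine Nat.mul_le_mul (Subgroup.card_le_of_le (sup_le hV'U inf_le_left)) ?_
      exact Subgroup.card_le_of_le fun p hp => ⟨hp.1, hp.2.2⟩
    have hC'M : Nat.card C' ≤ Nat.card M := by
      refine Nat.card_le_card_of_injective (fun p => ⟨g⁻¹ * (p : G) * g, ?_⟩) ?_
      · obtain ⟨⟨w, hw, e'⟩, hpa⟩ := p.2
        have e'' : g * w * g⁻¹ = (p : G) := e'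
        have hwp : g⁻¹ * (p : G) * g = w := by rw [← e'']; group
        refine ⟨hwp ▸ hw, ⟨w, hw, ?_⟩⟩
        show g * w * g⁻¹ = g⁻¹ * (p : G) * g
        have hpc : a * (p : G) * a⁻¹ = p := by
          rw [← Subgroup.mem_centralizer_singleton_iff.mp hpa, mul_inv_cancel_right]
        calc g * w * g⁻¹ = g⁻¹ * (g⁻¹ * w * g) * g := by
              calc g * w * g⁻¹ = (g * g * g)⁻¹ * (g * w * g⁻¹) * (g * g * g) := by rw [h3]; group
                _ = _ := by group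
          _ = g⁻¹ * (p : G) * g := by rw [← (hflip w hw).1, e'', hpc]
      · intro p r hpr
        exact Subtype.ext (mul_left_cancel (mul_right_cancel (congrArg Subtype.val hpr)))
    have hVV' : Nat.card V' = Nat.card V2 := Subgroup.card_map_of_injective (MulAut.conj g).injective
    have hC0 : 0 < Nat.card CU := Nat.card_pos
    have hM0 : 0 < Nat.card M := Nat.card_pos
    have h' : Nat.card V' * Nat.card CU ≤ (4 * Nat.card C') * Nat.card CU := by
      calc Nat.card V' * Nat.card CU ≤ Nat.card U * Nat.card C' := hV'CU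
        _ ≤ (4 * Nat.card CU) * Nat.card C' := Nat.mul_le_mul_right _ hU4
        _ = _ := by ring
    have h4 := Nat.le_of_mul_le_mul_right h' hC0
    rw [← hQ2, ← hV2, ← hVV'] at h8
    omega

end CfsgLib.SpecThirteen
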