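import Cfsg.Agent.Lib.SpecThirteen.AmalSmall
import Cfsg.Agent.Lib.SpecThirteen.Mixed

/-!
Element orders in `{1, 2, 3, 4, 6, 8, 13}`: in the amalgam of two parabolics with top `S₃`, one centralising the
central involutions, the module generated by these involutions has order eight.
-/

set_option autoImplicit false
set_option linter.unusedSectionVars false
set_option linter.style.haveILetI false

namespace CfsgLib.SpecThirteen

open Cfsg
open CfsgLib.SpecSix (Frame Parab Half centralInvol centralInvol_ne_bot amalV amalW amalD actMod core_le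
  core_isPGroup le_normalizer_core cj_map_le cj_mem_map mem_normalizer_of_cj_le fixed_in_coset card_two_mul
  card_lt_double)

universe u

variable {G : Type u} [Group G] [Finite G]

/-- The commutator, for the pairing of the core with the module. -/
def pair (q w : G) : G := q * w * q⁻¹ * w⁻¹

theorem conj_eq_pair_mul (q w : G) : q * w * q⁻¹ = pair q w * w := by simp only [pair]; group

namespace Amal

variable {S P1 P : Subgroup G} {x1 x : G} (a : Amal S P1 P x1 x)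
include a

theorem pair_mem {q w : G} (hq : q ∈ pCoreOf 2 P) (hw : w ∈ amalW S x1 x) : pair q w ∈ centralInvol S :=
  a.commW hq hw

theorem pair_mul_left {q r w : G} (hq : q ∈ pCoreOf 2 P) (hr : r ∈ pCoreOf 2 P) (hw : w ∈ amalW S x1 x) :
    pair (q * r) w = pair r w * pair q w := by
  have hc := a.pair_mem hr hw
  have hqS := a.two.qle hq
  calc pair (q * r) w = q * (pair r w) * (w * q⁻¹ * w⁻¹) := by simp only [pair]; group
    _ = pair r w * q * (w * q⁻¹ * w⁻¹) := by rw [← hc.2.2 q hqS]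
    _ = pair r w * pair q w := by simp only [pair]; group

theorem pair_mul_right {q v w : G} (hq : q ∈ pCoreOf 2 P) (hv : v ∈ amalW S x1 x) (hw : w ∈ amalW S x1 x) :
    pair q (v * w) = pair q v * pair q w := by
  have hc := a.pair_mem hq hw
  calc pair q (v * w) = pair q v * (v * pair q w * v⁻¹) := by simp only [pair]; group
    _ = pair q v * pair q w := by rw [← hc.2.2 v (a.wS hv), mul_inv_cancel_right]

theorem pair_conj {q w : G} (hq : q ∈ pCoreOf 2 P) (hw : w ∈ amalW S x1 x) :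
    pair (x * q * x⁻¹) (x * w * x⁻¹) = pair q w := by
  calc pair (x * q * x⁻¹) (x * w * x⁻¹) = x * pair q w * x⁻¹ := by simp only [pair]; group
    _ = pair q w := a.zx (a.pair_mem hq hw)

theorem pair_z {q v : G} (hq : q ∈ pCoreOf 2 P) (hv : v ∈ centralInvol S) : pair q v = 1 := by
  show q * v * q⁻¹ * v⁻¹ = 1
  rw [a.zfixS (a.two.qle hq) hv, mul_inv_cancel]

/-- Elements of the core agreeing on the module differ by an element centralising it. -/
theorem mem_D_of_pair {q : G} (hq : q ∈ pCoreOf 2 P) (h : ∀ w ∈ amalW S x1 x, pair q w = 1) :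
    q ∈ amalD S P x1 x :=
  ⟨hq, fun w hw => (mul_inv_eq_iff_eq_mul.mp (mul_inv_eq_one.mp (h w hw))).symm⟩

theorem pair_D {d w : G} (hd : d ∈ amalD S P x1 x) (hw : w ∈ amalW S x1 x) : pair d w = 1 := by
  have e : w * d = d * w := hd.2 w hw
  simp only [pair, ← e]; group

theorem D_conjx {d : G} (hd : d ∈ amalD S P x1 x) : x * d * x⁻¹ ∈ amalD S P x1 x :=
  (Subgroup.mem_normalizer_iff.mp (a.D_normalizer a.two.mem) d).mp hd

theorem D_conjS {s d : G} (hs : s ∈ S) (hd : d ∈ amalD S P x1 x) : s * d * s⁻¹ ∈ amalD S P x1 x :=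
  (Subgroup.mem_normalizer_iff.mp (a.D_normalizer (a.two.le hs)) d).mp hd

/-- Some translate of an element of the core by an element centralising the module is fixed by `x`. -/
theorem fixed_translate {q : G} (hq : q ∈ pCoreOf 2 P) :
    ∃ d ∈ amalD S P x1 x, Commute x (q * (x * q * x⁻¹) * (x⁻¹ * q * x) * d) := by
  obtain ⟨h1, h2⟩ := a.rotQ hq
  obtain ⟨r1, r2, -, -⟩ := a.rot_eq q
  set q1 := x * q * x⁻¹
  set q2 := x⁻¹ * q * x
  set p := q * q1 * q2 with hp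
  have hpQ : p ∈ pCoreOf 2 P := mul_mem (mul_mem hq h1) h2
  have e : x * p * x⁻¹ = q1 * q2 * q := by
    calc x * p * x⁻¹ = (x * q * x⁻¹) * (x * q1 * x⁻¹) * (x * q2 * x⁻¹) := by rw [hp]; group
      _ = q1 * q2 * q := by rw [r1, r2]
  refine fixed_in_coset ((core_isPGroup P).to_le inf_le_left) a.two.order (fun d hd => a.D_conjx hd)
    (a.mem_D_of_pair (mul_mem (inv_mem hpQ) (a.rotQ hpQ).1) fun w hw => ?_)
  have h3 : pair (x * p * x⁻¹) w = pair p w := by
    rw [e, hp, a.pair_mul_left (mul_mem h1 h2) hq hw, a.pair_mul_left h1 h2 hw,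
      a.pair_mul_left (mul_mem hq h1) h2 hw, a.pair_mul_left hq h1 hw]
    have c1 := a.pair_mem hq hw
    rw [c1.2.2 _ (mul_mem (a.pair_mem h2 hw) (a.pair_mem h1 hw)).1, mul_assoc]
  rw [a.pair_mul_left (inv_mem hpQ) (a.rotQ hpQ).1 hw, h3, ← a.pair_mul_left (inv_mem hpQ) hpQ hw, inv_mul_cancel]
  simp [pair]

end Amal

/-- The amalgam with the small parameters. -/
structure AmalZ (S P1 P : Subgroup G) (x1 x z k : G) : Prop where
  amal : Amal S P1 P x1 x
  hz : z ∈ centralInvol S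
  z1 : z ≠ 1
  zcases : ∀ b ∈ centralInvol S, b = 1 ∨ b = z
  hk : k ∈ pCoreOf 2 P1
  hkQ : k ∉ pCoreOf 2 P
  hk2 : k * k = 1

namespace Amal

variable {S P1 P : Subgroup G} {x1 x : G} (a : Amal S P1 P x1 x)
include a

theorem exists_amalZ : ∃ z k, AmalZ S P1 P x1 x z k := by
  obtain ⟨⟨z, hz, hz1, hcases⟩, h8, hD⟩ := a.small
  obtain ⟨w, hw, hw1, -⟩ := a.exists_outside h8 hD
  refine ⟨z, _, ⟨a, hz, hz1, hcases, (a.w1_Q1 hw).1, hw1, ?_⟩⟩
  calc x1 * w * x1⁻¹ * (x1 * w * x1⁻¹) = x1 * (w * w) * x1⁻¹ := by group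
    _ = 1 := by rw [a.w_sq hw]; group

end Amal

namespace AmalZ

variable {S P1 P : Subgroup G} {x1 x z k : G} (b : AmalZ S P1 P x1 x z k)
include b

theorem kS : k ∈ S := b.amal.one.qle b.hk

theorem uV : x1 * z * x1⁻¹ ∈ amalV S x1 := b.amal.zaV b.hz

theorem u_notZ : x1 * z * x1⁻¹ ∉ centralInvol S := fun h => b.z1 (b.amal.inter h b.hz rfl)

theorem zz : z * z = 1 := b.hz.2.1

theorem pair_cases {q w : G} (hq : q ∈ pCoreOf 2 P) (hw : w ∈ amalW S x1 x) : pair q w = 1 ∨ pair q w = z :=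
  b.zcases _ (b.amal.pair_mem hq hw)

theorem kflip : k * (x1 * z * x1⁻¹) * k⁻¹ = x1 * z * x1⁻¹ ∧
    ∃ c ∈ centralInvol S, k * (x * (x1 * z * x1⁻¹) * x⁻¹) * k⁻¹ = c * (x⁻¹ * (x1 * z * x1⁻¹) * x) ∧
      k * (x⁻¹ * (x1 * z * x1⁻¹) * x) * k⁻¹ = c * (x * (x1 * z * x1⁻¹) * x⁻¹) := by
  have a := b.amal
  obtain ⟨q, hq, es⟩ := a.two.swap b.kS b.hkQ
  obtain ⟨q', hq', es'⟩ := a.two.swap_inv b.kS b.hkQ
  set u := x1 * z * x1⁻¹ with hu
  set u1 := x * u * x⁻¹ with hu1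
  set u2 := x⁻¹ * u * x with hu2
  have h1W : u1 ∈ amalW S x1 x := a.vxW b.uV
  have h2W : u2 ∈ amalW S x1 x := a.vxxW b.uV
  have hku : k * u * k⁻¹ = u := by rw [← (a.za_cI b.hz).2.2 k b.hk, mul_inv_cancel_right]
  have e12 : k * u1 * k⁻¹ = pair q u2 * u2 := by
    calc k * u1 * k⁻¹ = (k * x * k⁻¹) * (k * u * k⁻¹) * (k * x * k⁻¹)⁻¹ := by rw [hu1]; group
      _ = q * u2 * q⁻¹ := by rw [es, hku, hu2]; group
      _ = _ := conj_eq_pair_mul q u2
  have e21 : k * u2 * k⁻¹ = pair q' u1 * u1 := by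
    calc k * u2 * k⁻¹ = (k * x⁻¹ * k⁻¹) * (k * u * k⁻¹) * (k * x⁻¹ * k⁻¹)⁻¹ := by rw [hu2]; group
      _ = q' * u1 * q'⁻¹ := by rw [es', hku, hu1]; group
      _ = _ := conj_eq_pair_mul q' u1
  have hc := a.pair_mem hq h2W
  refine ⟨hku, pair q u2, hc, e12, ?_⟩
  have e : u1 = pair q u2 * (pair q' u1 * u1) := by
    calc u1 = (k * k) * u1 * (k * k)⁻¹ := by rw [b.hk2]; group
      _ = k * (k * u1 * k⁻¹) * k⁻¹ := by group
      _ = (k * pair q u2 * k⁻¹) * (k * u2 * k⁻¹) := by rw [e12]; group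
      _ = _ := by rw [a.zfixS b.kS hc, e21]
  rw [e21]
  congr 1
  have e' : pair q u2 * pair q' u1 = 1 := by
    rw [← mul_assoc] at e
    exact right_eq_mul.mp e |>.symm ▸ rfl
  rw [eq_inv_of_mul_eq_one_right e', inv_eq_of_mul_eq_one_left hc.2.1]

/-- **The product of the conjugates is central.** -/
theorem y_mem : x1 * z * x1⁻¹ * (x * (x1 * z * x1⁻¹) * x⁻¹) * (x⁻¹ * (x1 * z * x1⁻¹) * x) ∈ centralInvol S := by
  have a := b.amal
  obtain ⟨hku, c, hc, e12, e21⟩ := b.kflip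
  set u := x1 * z * x1⁻¹ with hu
  set u1 := x * u * x⁻¹ with hu1
  set u2 := x⁻¹ * u * x with hu2
  have h0W : u ∈ amalW S x1 x := a.vW b.uV
  have h1W : u1 ∈ amalW S x1 x := a.vxW b.uV
  have h2W : u2 ∈ amalW S x1 x := a.vxxW b.uV
  set y := u * u1 * u2 with hy
  have hyW : y ∈ amalW S x1 x := mul_mem (mul_mem h0W h1W) h2W
  have hxy : x * y * x⁻¹ = y := by
    obtain ⟨r1, r2, -, -⟩ := a.rot_eq u
    calc x * y * x⁻¹ = (x * u * x⁻¹) * (x * u1 * x⁻¹) * (x * u2 * x⁻¹) := by rw [hy]; group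
      _ = u1 * u2 * u := by rw [hu1, r1, hu2, r2]
      _ = u * (u1 * u2) := a.w_comm (mul_mem h1W h2W) h0W
      _ = y := (mul_assoc _ _ _).symm
  have hQy : ∀ q ∈ pCoreOf 2 P, pair q y = 1 := by
    intro q hq
    obtain ⟨hr1, hr2⟩ := a.rotQ hq
    obtain ⟨d, hd, hcom⟩ := a.fixed_translate hq
    set p := q * (x * q * x⁻¹) * (x⁻¹ * q * x) with hp
    have hpQ : p ∈ pCoreOf 2 P := mul_mem (mul_mem hq hr1) hr2
    have hpd : pair (p * d) y = 1 := by
      simp only [pair, a.fixW (mul_mem hpQ hd.1) hcom hyW]; group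
    have h1 : pair (x * q * x⁻¹) y = pair q y := by
      conv_lhs => rw [← hxy]
      exact a.pair_conj hq hyW
    have h2 : pair (x⁻¹ * q * x) y = pair q y := by
      have := a.pair_conj hr2 hyW
      rw [hxy, show x * (x⁻¹ * q * x) * x⁻¹ = q by group] at this
      exact this.symm
    rw [a.pair_mul_left hpQ hd.1 hyW, a.pair_D hd hyW, one_mul, hp, a.pair_mul_left (mul_mem hq hr1) hr2 hyW,
      a.pair_mul_left hq hr1 hyW, h1, h2, (a.pair_mem hq hyW).2.1, mul_one] at hpd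
    exact hpd
  refine ⟨a.wS hyW, a.w_sq hyW, fun s hs => ?_⟩
  have hQc : ∀ q ∈ pCoreOf 2 P, Commute q y := fun q hq =>
    mul_inv_eq_iff_eq_mul.mp (mul_inv_eq_one.mp (hQy q hq))
  have hkc : Commute k y := by
    have e : k * y * k⁻¹ = y := by
      calc k * y * k⁻¹ = (k * u * k⁻¹) * (k * u1 * k⁻¹) * (k * u2 * k⁻¹) := by rw [hy]; group
        _ = u * (c * (u2 * c)) * u1 := by rw [hku, e12, e21]; simp only [mul_assoc]
        _ = u * u2 * u1 := by rw [← hc.2.2 u2 (a.wS h2W), ← mul_assoc c c u2, hc.2.1, one_mul]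
        _ = y := by rw [mul_assoc, a.w_comm h2W h1W, ← mul_assoc]
    exact mul_inv_eq_iff_eq_mul.mp e
  by_cases hsQ : s ∈ pCoreOf 2 P
  · exact (hQc s hsQ).eq.symm
  · have hq : k⁻¹ * s ∈ pCoreOf 2 P :=
      (a.two.par (inv_mem b.kS) hs).mpr (iff_of_false (fun e => b.hkQ (inv_mem_iff.mp e)) hsQ)
    have := hkc.mul_left (hQc _ hq)
    rw [mul_inv_cancel_left] at this
    exact this.eq.symm

theorem V_card_le : Nat.card (amalV S x1) ≤ 4 := by
  have a := b.amal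
  have hZ : Nat.card (centralInvol S) ≤ 2 := by
    refine (Nat.card_le_card_of_injective (fun v : centralInvol S => (v : G) = z) ?_).trans
      (by simp [Nat.card_eq_fintype_card])
    intro v w hvw
    simp only [eq_iff_iff] at hvw
    refine Subtype.ext ?_
    rcases b.zcases v v.2 with hv | hv <;> rcases b.zcases w w.2 with hw | hw
    · rw [hv, hw]
    · exact absurd (hvw.mpr hw) (by rw [hv]; exact b.z1.symm)
    · exact absurd (hvw.mp hv) (by rw [hw]; exact b.z1.symm)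
    · rw [hv, hw]
  refine (Nat.card_le_card_of_surjective (fun p : centralInvol S × centralInvol S =>
    (⟨(p.1 : G) * (x1 * p.2 * x1⁻¹), mul_mem (a.zV p.1.2) (a.zaV p.2.2)⟩ : amalV S x1)) ?_).trans ?_
  · rintro ⟨v, hv⟩
    obtain ⟨p, hp, r, hr, e⟩ := a.memV.mp hv
    exact ⟨(⟨p, hp⟩, ⟨r, hr⟩), Subtype.ext e⟩
  · rw [Nat.card_prod]; exact Nat.mul_le_mul hZ hZ

theorem W_le : amalW S x1 x ≤ amalV S x1 ⊔ Subgroup.zpowers (x * (x1 * z * x1⁻¹) * x⁻¹) := by
  have a := b.amal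
  have hy := b.y_mem
  set u := x1 * z * x1⁻¹
  set u1 := x * u * x⁻¹
  set H := amalV S x1 ⊔ Subgroup.zpowers u1 with hH
  have hV : ∀ v ∈ amalV S x1, v ∈ H := fun v hv => Subgroup.mem_sup_left hv
  have h1 : u1 ∈ H := Subgroup.mem_sup_right (Subgroup.mem_zpowers u1)
  have h2 : x⁻¹ * u * x ∈ H := by
    have e : x⁻¹ * u * x = (u * u1)⁻¹ * (u * u1 * (x⁻¹ * u * x)) := by group
    rw [e]; exact H.mul_mem (H.inv_mem (H.mul_mem (hV _ b.uV) h1)) (hV _ (a.zV hy))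
  refine a.w_le hV (fun v hv => ?_) (fun v hv => ?_)
  · obtain ⟨p, hp, r, hr, rfl⟩ := a.memV.mp hv
    rw [show x * (p * (x1 * r * x1⁻¹)) * x⁻¹ = (x * p * x⁻¹) * (x * (x1 * r * x1⁻¹) * x⁻¹) by group, a.zx hp]
    refine H.mul_mem (hV _ (a.zV hp)) ?_
    rcases b.zcases r hr with rfl | rfl
    · simp
    · exact h1
  · obtain ⟨p, hp, r, hr, rfl⟩ := a.memV.mp hv
    have hfx : x⁻¹ * p * x = p := by
      calc x⁻¹ * p * x = x⁻¹ * (x * p * x⁻¹) * x := by rw [a.zx hp]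
        _ = p := by group
    rw [show x⁻¹ * (p * (x1 * r * x1⁻¹)) * x = (x⁻¹ * p * x) * (x⁻¹ * (x1 * r * x1⁻¹) * x) by group, hfx]
    refine H.mul_mem (hV _ (a.zV hp)) ?_
    rcases b.zcases r hr with rfl | rfl
    · simp
    · exact h2

theorem u1_sq : x * (x1 * z * x1⁻¹) * x⁻¹ * (x * (x1 * z * x1⁻¹) * x⁻¹) = 1 :=
  b.amal.w_sq (b.amal.vxW b.uV)

theorem card_W : Nat.card (amalW S x1 x) = 8 ∧ Nat.card (amalV S x1) = 4 := by
  have a := b.amal
  obtain ⟨-, h8, -⟩ := a.small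
  have hle := Subgroup.card_le_of_le b.W_le
  set u1 := x * (x1 * z * x1⁻¹) * x⁻¹ with hu1
  have hn : Subgroup.zpowers u1 ≤ Subgroup.normalizer (amalV S x1 : Set G) :=
    Subgroup.zpowers_le.mpr (mem_normalizer_of_cj_le fun v hv => by
      rwa [a.w_comm (a.vxW b.uV) (a.vW hv), mul_inv_cancel_right])
  have hcard := CfsgLib.JComp.card_sup_mul_card_inf hn
  rw [sup_comm] at hcard
  have h2 : Nat.card (Subgroup.zpowers u1) ≤ 2 := by
    rw [Nat.card_zpowers]
    exact Nat.le_of_dvd two_pos (orderOf_dvd_of_pow_eq_one (by rw [pow_two]; exact b.u1_sq))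
  have hsup : Nat.card ↥(amalV S x1 ⊔ Subgroup.zpowers u1) ≤ 2 * Nat.card (amalV S x1) := by
    refine le_trans (Nat.le_mul_of_pos_right _
      (Nat.card_pos : 0 < Nat.card ↥(Subgroup.zpowers u1 ⊓ amalV S x1))) ?_
    rw [hcard]; exact Nat.mul_le_mul_right _ h2
  have h4 := b.V_card_le
  constructor <;> omega

theorem mem_W_cases {w : G} (hw : w ∈ amalW S x1 x) :
    w ∈ amalV S x1 ∨ w * (x * (x1 * z * x1⁻¹) * x⁻¹) ∈ amalV S x1 := by
  have a := b.amal
  by_cases hwV : w ∈ amalV S x1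
  · exact Or.inl hwV
  refine Or.inr ?_
  obtain ⟨hW, hV⟩ := b.card_W
  have h1 : x * (x1 * z * x1⁻¹) * x⁻¹ ∉ amalV S x1 := fun hm =>
    a.V_ne_W (le_antisymm (fun v hv => a.vW hv) fun v hv => by
      have := b.W_le hv
      rwa [sup_eq_left.mpr (Subgroup.zpowers_le.mpr hm)] at this)
  have := diff_mem_of_card (H := amalV S x1) (fun v hv => a.vW hv) (by omega) hw (a.vxW b.uV) hwV h1
  rwa [inv_eq_of_mul_eq_one_left (a.w_sq hw)] at this

/-- Elements of the module fixed by `x` are central. -/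
theorem fixed_W {w : G} (hw : w ∈ amalW S x1 x) (hf : x * w * x⁻¹ = w) : w ∈ centralInvol S := by
  have a := b.amal
  have hy := b.y_mem
  obtain ⟨r1, r2, -, -⟩ := a.rot_eq (x1 * z * x1⁻¹)
  have huV := b.uV
  have huZ := b.u_notZ
  set u := x1 * z * x1⁻¹ with hu
  set u1 := x * u * x⁻¹ with hu1
  set u2 := x⁻¹ * u * x with hu2
  have h0W : u ∈ amalW S x1 x := a.vW huV
  have h1W : u1 ∈ amalW S x1 x := a.vxW huV
  have h2W : u2 ∈ amalW S x1 x := a.vxxW huV
  have ne12 : u1 * u2 ∉ centralInvol S := fun hm => huZ (by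
    have := mul_mem hy (inv_mem hm)
    rwa [mul_assoc u, mul_inv_cancel_right] at this)
  have ne01 : u * u1 ∉ centralInvol S := fun hm => ne12 (by
    have h' := a.zx hm
    rw [show x * (u * u1) * x⁻¹ = (x * u * x⁻¹) * (x * u1 * x⁻¹) by group, r1] at h'
    rw [← hu1] at h'
    rw [h']; exact hm)
  have hV : ∀ v ∈ amalV S x1, ∃ r : G, (r = 1 ∨ r = u) ∧ v * r ∈ centralInvol S := by
    intro v hv
    obtain ⟨p, hp, r, hr, rfl⟩ := a.memV.mp hv
    rcases b.zcases r hr with rfl | rfl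
    · exact ⟨1, Or.inl rfl, by simpa using hp⟩
    · refine ⟨u, Or.inr rfl, ?_⟩
      rw [← hu, mul_assoc, a.w_sq h0W, mul_one]; exact hp
  rcases b.mem_W_cases hw with hm | hm
  · obtain ⟨r, hr | hr, hZ⟩ := hV w hm <;> subst hr
    · simpa using hZ
    · exfalso
      have h' := a.zx hZ
      rw [show x * (w * u) * x⁻¹ = (x * w * x⁻¹) * u1 by rw [hu1]; group, hf] at h'
      have e : u1 = u := mul_left_cancel h'
      refine ne01 ?_
      rw [e, a.w_sq h0W]; exact one_mem _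
  · obtain ⟨r, hr | hr, hZ⟩ := hV _ hm <;> subst hr
    · exfalso
      rw [mul_one] at hZ
      have h' := a.zx hZ
      rw [← hu1] at h'
      rw [show x * (w * u1) * x⁻¹ = (x * w * x⁻¹) * (x * u1 * x⁻¹) by group, hf, r1] at h'
      refine ne12 ?_
      rw [mul_left_cancel h', a.w_sq h1W]; exact one_mem _
    · exfalso
      rw [← hu1] at hZ
      have h' := a.zx hZ
      rw [show x * (w * u1 * u) * x⁻¹ = (x * w * x⁻¹) * (x * u1 * x⁻¹) * (x * u * x⁻¹) by group, hf, r1,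
        ← hu1, mul_assoc w u2 u1, a.w_comm h2W h1W, mul_assoc w u1 u] at h'
      have e : u2 = u := mul_left_cancel (mul_left_cancel h')
      refine ne01 ?_
      have h3 : u = u1 := by
        calc u = x * u2 * x⁻¹ := r2.symm
          _ = u1 := by rw [e, hu1]
      rw [← h3, a.w_sq h0W]; exact one_mem _

/-- An element of the core centralising two generators centralises the module. -/
theorem mem_D_of_gens {q : G} (hq : q ∈ pCoreOf 2 P) (h0 : pair q (x1 * z * x1⁻¹) = 1)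
    (h1 : pair q (x * (x1 * z * x1⁻¹) * x⁻¹) = 1) : q ∈ amalD S P x1 x := by
  have a := b.amal
  refine a.mem_D_of_pair hq fun w hw => ?_
  have hV : ∀ v ∈ amalV S x1, pair q v = 1 := by
    intro v hv
    obtain ⟨p, hp, r, hr, rfl⟩ := a.memV.mp hv
    rw [a.pair_mul_right hq (a.vW (a.zV hp)) (a.vW (a.zaV hr)), a.pair_z hq hp, one_mul]
    rcases b.zcases r hr with rfl | rfl
    · simp [pair]
    · exact h0
  rcases b.mem_W_cases hw with hm | hm
  · exact hV w hm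
  · have h' := hV _ hm
    rwa [a.pair_mul_right hq hw (a.vxW b.uV), h1, mul_one] at h'

theorem pair_u {q : G} (hq : q ∈ pCoreOf 2 P) :
    pair q (x1 * z * x1⁻¹) = 1 ↔ q ∈ pCoreOf 2 P1 := by
  have a := b.amal
  constructor
  · intro h
    exact a.centV (a.two.qle hq) b.uV b.u_notZ (mul_inv_eq_iff_eq_mul.mp (mul_inv_eq_one.mp h))
  · intro h
    have e := (a.za_cI b.hz).2.2 q h
    show q * (x1 * z * x1⁻¹) * q⁻¹ * (x1 * z * x1⁻¹)⁻¹ = 1
    rw [← e]; group

theorem pair_y {q : G} (hq : q ∈ pCoreOf 2 P) :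
    pair q (x1 * z * x1⁻¹) * pair q (x * (x1 * z * x1⁻¹) * x⁻¹) * pair q (x⁻¹ * (x1 * z * x1⁻¹) * x) = 1 := by
  have a := b.amal
  rw [← a.pair_mul_right hq (a.vW b.uV) (a.vxW b.uV),
    ← a.pair_mul_right hq (mul_mem (a.vW b.uV) (a.vxW b.uV)) (a.vxxW b.uV)]
  exact a.pair_z hq b.y_mem

/-- The elements of both cores outside the centraliser of the module act in the same way. -/
theorem diff_I {q r : G} (hq : q ∈ pCoreOf 2 P) (hq1 : q ∈ pCoreOf 2 P1) (hr : r ∈ pCoreOf 2 P)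
    (hr1 : r ∈ pCoreOf 2 P1) (hqD : q ∉ amalD S P x1 x) (hrD : r ∉ amalD S P x1 x) :
    q⁻¹ * r ∈ amalD S P x1 x := by
  have a := b.amal
  have hne : ∀ p : G, p ∈ pCoreOf 2 P → p ∈ pCoreOf 2 P1 → p ∉ amalD S P x1 x →
      pair p (x * (x1 * z * x1⁻¹) * x⁻¹) = z := fun p hp hp1 hpD =>
    (b.pair_cases hp (a.vxW b.uV)).resolve_left fun h => hpD (b.mem_D_of_gens hp ((b.pair_u hp).mpr hp1) h)
  refine b.mem_D_of_gens (mul_mem (inv_mem hq) hr) ((b.pair_u (mul_mem (inv_mem hq) hr)).mpr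
    (mul_mem (inv_mem hq1) hr1)) ?_
  have hqi : q⁻¹ ∉ amalD S P x1 x := fun h => hqD (inv_mem_iff.mp h)
  rw [a.pair_mul_left (inv_mem hq) hr (a.vxW b.uV), hne r hr hr1 hrD, hne _ (inv_mem hq) (inv_mem hq1) hqi, b.zz]

/-- The centraliser of the module lies in the core. -/
theorem cent_W {s : G} (hs : s ∈ S) (hc : ∀ w ∈ amalW S x1 x, s * w = w * s) : s ∈ amalD S P x1 x := by
  have a := b.amal
  refine ⟨?_, fun w hw => (hc w hw).symm⟩
  by_contra hsQ
  obtain ⟨q, hq, e⟩ := a.two.swap hs hsQ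
  have hy := b.y_mem
  have huV := b.uV
  set u := x1 * z * x1⁻¹
  have h2W : x⁻¹ * u * x ∈ amalW S x1 x := a.vxxW huV
  have h1 : s * (x * u * x⁻¹) * s⁻¹ = pair q (x⁻¹ * u * x) * (x⁻¹ * u * x) := by
    have hsu : s * u * s⁻¹ = u := by rw [hc u (a.vW huV), mul_inv_cancel_right]
    calc s * (x * u * x⁻¹) * s⁻¹ = (s * x * s⁻¹) * (s * u * s⁻¹) * (s * x * s⁻¹)⁻¹ := by group
      _ = q * (x⁻¹ * u * x) * q⁻¹ := by rw [e, hsu]; group
      _ = _ := conj_eq_pair_mul q _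
  rw [hc _ (a.vxW huV), mul_inv_cancel_right] at h1
  refine b.u_notZ ?_
  rw [h1, mul_assoc u, mul_assoc (pair q _), a.w_sq h2W, mul_one] at hy
  have := mul_mem hy (inv_mem (a.pair_mem hq h2W))
  rwa [mul_inv_cancel_right] at this

/-- The commutator of elements outside the core and outside the first core is outside the centraliser. -/
theorem comm_out {s q : G} (hs : s ∈ S) (hsQ : s ∉ pCoreOf 2 P) (hq : q ∈ pCoreOf 2 P)
    (hq1 : q ∉ pCoreOf 2 P1) :
    s * q * s⁻¹ * q⁻¹ ∈ pCoreOf 2 P ∧ s * q * s⁻¹ * q⁻¹ ∈ pCoreOf 2 P1 ∧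
      s * q * s⁻¹ * q⁻¹ ∉ amalD S P x1 x := by
  have a := b.amal
  have hq' : s * q * s⁻¹ ∈ pCoreOf 2 P := a.two.conjQ (a.two.le hs) hq
  refine ⟨mul_mem hq' (inv_mem hq), (a.par1 hq' (inv_mem hq)).mpr (iff_of_false
    (fun h => hq1 ((a.one.conjQ_iff (a.one.le hs)).mp h)) fun h => hq1 (inv_mem_iff.mp h)), fun hd => ?_⟩
  have huV := b.uV
  set u := x1 * z * x1⁻¹
  set u1 := x * u * x⁻¹ with hu1
  set u2 := x⁻¹ * u * x with hu2
  have h0W : u ∈ amalW S x1 x := a.vW huV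
  have h1W : u1 ∈ amalW S x1 x := a.vxW huV
  have h2W : u2 ∈ amalW S x1 x := a.vxxW huV
  -- `s` exchanges the two other generators
  obtain ⟨p, hp, e⟩ := a.two.swap hs hsQ
  set ζ := s * u * s⁻¹ * u⁻¹ with hζ
  have hζZ : ζ ∈ centralInvol S := a.commV hs huV
  have hζx : x⁻¹ * ζ * x = ζ := by
    calc x⁻¹ * ζ * x = x⁻¹ * (x * ζ * x⁻¹) * x := by rw [a.zx hζZ]
      _ = ζ := by group
  have e1 : s * u1 * s⁻¹ = pair p (ζ * u2) * (ζ * u2) := by
    calc s * u1 * s⁻¹ = (s * x * s⁻¹) * (s * u * s⁻¹) * (s * x * s⁻¹)⁻¹ := by rw [hu1]; group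
      _ = p * ((x⁻¹ * ζ * x) * u2) * p⁻¹ := by rw [e, hζ, hu2]; group
      _ = _ := by rw [hζx]; exact conj_eq_pair_mul p _
  have hζ' : pair p (ζ * u2) * ζ ∈ centralInvol S :=
    mul_mem (a.pair_mem hp (mul_mem (a.vW (a.zV hζZ)) h2W)) hζZ
  have key : pair q u1 = pair q u2 := by
    have c1 : pair (s * q * s⁻¹) (s * u1 * s⁻¹) = pair q u1 := by
      calc pair (s * q * s⁻¹) (s * u1 * s⁻¹) = s * pair q u1 * s⁻¹ := by simp only [pair]; group
        _ = pair q u1 := a.zfixS hs (a.pair_mem hq h1W)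
    rw [e1, ← mul_assoc, a.pair_mul_right hq' (a.vW (a.zV hζ')) h2W, a.pair_z hq' hζ', one_mul,
      show s * q * s⁻¹ = (s * q * s⁻¹ * q⁻¹) * q by group, a.pair_mul_left hd.1 hq h2W, a.pair_D hd h2W,
      mul_one] at c1
    exact c1.symm
  have h3 := b.pair_y hq
  rw [mul_assoc, key, (a.pair_mem hq h2W).2.1, mul_one] at h3
  exact hq1 ((b.pair_u hq).mp h3)

end AmalZ

end CfsgLib.SpecThirteen
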