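import Mathlib
import Cfsg.Agent.Lib.CharTheory.Burnside

/-!
Finite groups all of whose element orders lie in `{1, 2, 3, 4, 6, 8, 13}`: first consequences.
-/

set_option autoImplicit false
set_option linter.unusedSectionVars false

namespace CfsgLib.SpecThirteen

universe u v

/-- The element orders of `PSL₃(3)`. -/
def orders : Finset ℕ := {1, 2, 3, 4, 6, 8, 13}

/-- Every element order is an element order of `PSL₃(3)`. -/
def Thirteen (G : Type u) [Group G] : Prop := ∀ g : G, orderOf g ∈ orders

theorem orders_dvd {n m : ℕ} (hn : n ∈ orders) (h : m ∣ n) : m ∈ orders := by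
  have h13 : ∀ a < 14, ∀ b < 14, a ∈ orders → b ∣ a → b ∈ orders := by decide
  have hn' : n < 14 ∧ 0 < n := by
    simp only [orders, Finset.mem_insert, Finset.mem_singleton] at hn
    omega
  exact h13 n hn'.1 m (lt_of_le_of_lt (Nat.le_of_dvd hn'.2 h) hn'.1) hn h

variable {G : Type u} [Group G] [Finite G]

theorem Thirteen.subgroup (h : Thirteen G) (H : Subgroup G) : Thirteen H := fun g => by
  rw [← Subgroup.orderOf_coe]; exact h g

theorem Thirteen.of_surjective (h : Thirteen G) {K : Type v} [Group K] (f : G →* K) (hf : Function.Surjective f) :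
    Thirteen K := by
  intro k
  obtain ⟨g, rfl⟩ := hf k
  exact orders_dvd (h g) (orderOf_map_dvd f g)

theorem Thirteen.quotient (h : Thirteen G) (N : Subgroup G) [N.Normal] : Thirteen (G ⧸ N) :=
  h.of_surjective _ (QuotientGroup.mk'_surjective N)

theorem Thirteen.prime_cases (h : Thirteen G) {p : ℕ} (hp : p.Prime) (hd : p ∣ Nat.card G) :
    p = 2 ∨ p = 3 ∨ p = 13 := by
  haveI := Fact.mk hp
  obtain ⟨x, hx⟩ := exists_prime_orderOf_dvd_card' (G := G) p hd
  have h' := h x
  rw [hx] at h'
  simp only [orders, Finset.mem_insert, Finset.mem_singleton] at h'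
  rcases h' with e | e | e | e | e | e | e <;> subst e <;> norm_num at hp <;> simp

/-- Elements of two-power order have order dividing eight. -/
theorem Thirteen.two_pow (h : Thirteen G) {g : G} {k : ℕ} (hg : g ^ 2 ^ k = 1) : g ^ 8 = 1 := by
  obtain ⟨i, -, hi⟩ := (Nat.dvd_prime_pow Nat.prime_two).mp (orderOf_dvd_of_pow_eq_one hg)
  have h' := h g
  rw [hi] at h'
  have hi3 : i ≤ 3 := by
    by_contra hlt
    have hd : 2 ^ 4 ∣ 2 ^ i := pow_dvd_pow 2 (by omega)
    exact absurd (orders_dvd h' hd) (by decide)
  rw [← orderOf_dvd_iff_pow_eq_one, hi]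
  exact pow_dvd_pow 2 hi3

theorem Thirteen.pgroup_pow_eight (h : Thirteen G) {P : Subgroup G} (hP : IsPGroup 2 P) {g : G} (hg : g ∈ P) :
    g ^ 8 = 1 := by
  obtain ⟨k, hk⟩ := hP ⟨g, hg⟩
  exact h.two_pow (congrArg Subtype.val hk)

theorem Thirteen.pow_eq_one (h : Thirteen G) {p : ℕ} (hp : p = 3 ∨ p = 13) {g : G} {k : ℕ} (hg : g ^ p ^ k = 1) :
    g ^ p = 1 := by
  have hpp : p.Prime := by rcases hp with e | e <;> subst e <;> norm_num
  obtain ⟨i, -, hi⟩ := (Nat.dvd_prime_pow hpp).mp (orderOf_dvd_of_pow_eq_one hg)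
  have h' := h g
  rw [hi] at h'
  have h2 : i ≤ 1 := by
    by_contra hlt
    have hd : p ^ 2 ∣ p ^ i := pow_dvd_pow p (by omega)
    have := orders_dvd h' hd
    rcases hp with e | e <;> subst e <;> simp [orders] at this
  rw [← orderOf_dvd_iff_pow_eq_one, hi]
  exact (pow_dvd_pow p h2).trans (pow_one p).dvd

/-- Commuting elements of coprime orders whose product of orders is not allowed. -/
theorem Thirteen.not_commute (h : Thirteen G) {a b : G} (hc : Commute a b) {m n : ℕ} (ha : orderOf a = m)
    (hb : orderOf b = n) (hcop : Nat.Coprime m n) (hno : m * n ∉ orders) : False := by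
  have h' := h (a * b)
  rw [hc.orderOf_mul_eq_mul_orderOf_of_coprime (by rwa [ha, hb]), ha, hb] at h'
  exact hno h'

/-- A two-element commuting with an element of order three is an involution or trivial. -/
theorem Thirteen.commute_three (h : Thirteen G) {x a : G} (hx : orderOf x = 3) (hc : Commute x a) {k : ℕ}
    (ha : a ^ 2 ^ k = 1) : a * a = 1 := by
  obtain ⟨i, -, hi⟩ := (Nat.dvd_prime_pow Nat.prime_two).mp (orderOf_dvd_of_pow_eq_one ha)
  rcases Nat.lt_or_ge i 2 with hlt | hge
  · rw [← pow_two, ← orderOf_dvd_iff_pow_eq_one, hi]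
    exact (pow_dvd_pow 2 (by omega : i ≤ 1)).trans (pow_one 2).dvd
  · exfalso
    refine h.not_commute hc hx hi (Nat.Coprime.pow_right i (by norm_num)) fun hmem => ?_
    have hd : 3 * 2 ^ 2 ∣ 3 * 2 ^ i := Nat.mul_dvd_mul_left 3 (pow_dvd_pow 2 hge)
    exact absurd (orders_dvd hmem hd) (by decide)

/-- Two-elements centralising an element of order three commute. -/
theorem Thirteen.three_abelian (h : Thirteen G) {x : G} (hx : orderOf x = 3) {P : Subgroup G} (hP : IsPGroup 2 P)
    (hc : ∀ a ∈ P, Commute x a) : ∀ a ∈ P, ∀ b ∈ P, a * b = b * a := by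
  have sq : ∀ a ∈ P, a * a = 1 := fun a ha => by
    obtain ⟨k, hk⟩ := hP ⟨a, ha⟩
    exact h.commute_three hx (hc a ha) (congrArg Subtype.val hk)
  intro a ha b hb
  calc a * b = (a * b)⁻¹ := eq_inv_of_mul_eq_one_left (sq _ (mul_mem ha hb))
    _ = b * a := by
      rw [mul_inv_rev, inv_eq_of_mul_eq_one_left (sq b hb), inv_eq_of_mul_eq_one_left (sq a ha)]

/-- An element of order thirteen only commutes with elements of order dividing thirteen. -/
theorem Thirteen.commute_thirteen (h : Thirteen G) {u a : G} (hu : orderOf u = 13) (hc : Commute u a) :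
    a ^ 13 = 1 := by
  by_contra ha
  obtain ⟨p, hp, hpd⟩ := Nat.exists_prime_and_dvd
    (show orderOf (a ^ 13) ≠ 1 from fun e => ha (orderOf_eq_one_iff.mp e))
  have hb : orderOf ((a ^ 13) ^ (orderOf (a ^ 13) / p)) = p :=
    orderOf_pow_orderOf_div (orderOf_pos _).ne' hpd
  rcases h.prime_cases hp (hpd.trans (orderOf_dvd_natCard _)) with e | e | e
  · subst e; exact h.not_commute ((hc.pow_right 13).pow_right _) hu hb (by norm_num) (by decide)
  · subst e; exact h.not_commute ((hc.pow_right 13).pow_right _) hu hb (by norm_num) (by decide)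
  · subst e
    have h13 : 13 ∣ orderOf a := hpd.trans (orderOf_pow_dvd 13)
    refine ha (orderOf_dvd_iff_pow_eq_one.mp ?_)
    have h' := h a
    simp only [orders, Finset.mem_insert, Finset.mem_singleton] at h'
    rcases h' with e | e | e | e | e | e | e <;> rw [e] at h13 ⊢ <;> norm_num at h13

/-- An element of two- or three-power order centralising an element of order thirteen is trivial. -/
theorem Thirteen.thirteen_fixes (h : Thirteen G) {u a : G} (hu : orderOf u = 13) (hc : Commute u a) {p : ℕ}
    (hp : Nat.Coprime p 13) {k : ℕ} (ha : a ^ p ^ k = 1) : a = 1 := by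
  have h13 := h.commute_thirteen hu hc
  have hg : Nat.gcd (p ^ k) 13 = 1 := Nat.Coprime.pow_left k hp
  have := pow_gcd_eq_one.mpr ⟨ha, h13⟩
  rwa [hg, pow_one] at this

/-- A group of order prime to thirteen is solvable. -/
theorem Thirteen.solvable_of_not_thirteen (h : Thirteen G) (h13 : ¬ 13 ∣ Nat.card G) : Group.IsSolvable G := by
  have hf : Nat.card G = 2 ^ (Nat.card G).factorization 2 * 3 ^ (Nat.card G).factorization 3 := by
    have hsub : (Nat.card G).primeFactors ⊆ {2, 3} := fun p hp => by
      have h1 := Nat.prime_of_mem_primeFactors hp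
      have h2 := Nat.dvd_of_mem_primeFactors hp
      rcases h.prime_cases h1 h2 with e | e | e
      · simp [e]
      · simp [e]
      · exact absurd (e ▸ h2) h13
    calc Nat.card G = (Nat.card G).factorization.prod fun p k => p ^ k :=
          (Nat.prod_factorization_pow_eq_self Nat.card_pos.ne').symm
      _ = ∏ p ∈ ({2, 3} : Finset ℕ), p ^ (Nat.card G).factorization p := by
          rw [Finsupp.prod_of_support_subset _ (by simpa using hsub) _ (fun i _ => pow_zero i)]
      _ = _ := by rw [Finset.prod_pair (by norm_num)]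
  exact CfsgLib.CharTheory.isSolvable_of_card_two_primes Nat.prime_two Nat.prime_three hf

/-- The centraliser of an involution is solvable. -/
theorem Thirteen.solvable_centralizer (h : Thirteen G) {t : G} (ht : orderOf t = 2) :
    Group.IsSolvable (Subgroup.centralizer ({t} : Set G)) := by
  refine (h.subgroup _).solvable_of_not_thirteen fun hd => ?_
  haveI : Fact (Nat.Prime 13) := ⟨by norm_num⟩
  obtain ⟨c, hc⟩ := exists_prime_orderOf_dvd_card' (G := Subgroup.centralizer ({t} : Set G)) 13 hd
  rw [← Subgroup.orderOf_coe] at hc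
  exact h.not_commute (Subgroup.mem_centralizer_singleton_iff.mp c.2) hc ht (by norm_num) (by decide)

end CfsgLib.SpecThirteen
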