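import Cfsg.Agent.Lib.SpecThirteen.Graded
import Cfsg.Agent.Lib.Coprime

/-!
A normal 2-subgroup acted on by a Frobenius group `13 : 3`, freely by the element of order thirteen and with
elementary fixed points of the element of order three, has class at most two and exponent at most four.
-/

set_option autoImplicit false
set_option linter.unusedSectionVars false
set_option linter.style.haveILetI false

namespace CfsgLib.SpecThirteen

open Finset
open scoped commutatorElement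

universe u

variable {G : Type u} [Group G] [Finite G]

/-- An element of prime order fixing a coset of a subgroup of order prime to it that it normalises fixes an element
of the coset. -/
theorem exists_fixed_coset {A : Subgroup G} {p : ℕ} [Fact p.Prime] {x : G} (hx : x ^ p = 1)
    (hA : ¬ p ∣ Nat.card A) (hn : ∀ a ∈ A, x * a * x⁻¹ ∈ A) {q : G} (hq : q⁻¹ * (x * q * x⁻¹) ∈ A) :
    ∃ a ∈ A, Commute x (q * a) := by
  classical
  set c := q⁻¹ * (x * q * x⁻¹) with hc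
  let f : A → A := fun a => ⟨c * (x * (a : G) * x⁻¹), mul_mem hq (hn a a.2)⟩
  have hit : ∀ (n : ℕ) (a : A), q * ((f^[n] a : A) : G) = x ^ n * (q * a) * (x ^ n)⁻¹ := by
    intro n
    induction n with
    | zero => intro a; simp
    | succ n ih =>
      intro a
      rw [Function.iterate_succ_apply', show ((f (f^[n] a) : A) : G) = c * (x * ((f^[n] a : A) : G) * x⁻¹) from rfl,
        show q * (c * (x * ((f^[n] a : A) : G) * x⁻¹)) = x * (q * ((f^[n] a : A) : G)) * x⁻¹ by rw [hc]; group, ih,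
        pow_succ']
      group
  have hf : ∀ a, f^[p] a = a := fun a => by
    refine Subtype.ext (mul_left_cancel (a := q) ?_)
    rw [hit, hx, one_mul, inv_one, mul_one]
  have hinj : Function.Injective f := fun a b e => by
    have h := congrArg Subtype.val e
    simp only [f] at h
    exact Subtype.ext (mul_left_cancel (mul_right_cancel (mul_left_cancel h)))
  haveI : Fintype A := Fintype.ofFinite _
  set σ : Equiv.Perm A := Equiv.ofBijective f (Finite.injective_iff_bijective.mp hinj) with hσd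
  have hσ : σ ^ p ^ 1 = 1 := Equiv.ext fun a => by
    rw [pow_one, Equiv.Perm.coe_one, id_eq, ← Equiv.Perm.iterate_eq_pow]
    exact hf a
  obtain ⟨a, ha⟩ := Equiv.Perm.exists_fixed_point_of_prime (by rwa [← Nat.card_eq_fintype_card]) hσ
  refine ⟨a, a.2, ?_⟩
  have e := hit 1 a
  rw [Function.iterate_one, pow_one, show f a = a from ha] at e
  exact (mul_inv_eq_iff_eq_mul.mp e.symm)

/-- A normal 2-subgroup with an action of `13 : 3`. -/
structure Frob39 (Q : Subgroup G) (r y : G) : Prop where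
  normal : Q.Normal
  two : IsPGroup 2 Q
  r13 : r ^ 13 = 1
  y3 : y ^ 3 = 1
  conj : y * r * y⁻¹ = r ^ 3
  free : ∀ q ∈ Q, Commute r q → q = 1
  fixed : ∀ q ∈ Q, Commute y q → q * q = 1

namespace Frob39

variable {Q : Subgroup G} {r y : G} (h : Frob39 Q r y)

/-- The powers of the element of order thirteen. -/
def pw (r : G) (a : ZMod 13) : G := r ^ a.val

theorem pw_zero : pw r 0 = 1 := by simp [pw]

include h

theorem pw_add (a b : ZMod 13) : pw r (a + b) = pw r a * pw r b := by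
  rw [pw, pw, pw, ← pow_add, ZMod.val_add, ← pow_eq_pow_mod _ h.r13]

theorem pw_natCast (n : ℕ) : pw r (n : ZMod 13) = r ^ n := by
  rw [pw, ZMod.val_natCast, ← pow_eq_pow_mod _ h.r13]

theorem tri_pw (k : ℕ) (a : ZMod 13) : y ^ k * pw r a * (y ^ k)⁻¹ = pw r (3 ^ k * a) := by
  have hk : ∀ n, y ^ k * r ^ n * (y ^ k)⁻¹ = r ^ (3 ^ k * n) := by
    induction k with
    | zero => intro n; simp
    | succ k ih =>
      intro n
      calc y ^ (k + 1) * r ^ n * (y ^ (k + 1))⁻¹ = y ^ k * (y * r ^ n * y⁻¹) * (y ^ k)⁻¹ := by rw [pow_succ]; group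
        _ = r ^ (3 ^ (k + 1) * n) := by rw [← conj_pow, h.conj, ← pow_mul, ih]; congr 1; ring
  conv_lhs => rw [pw, hk, ← h.pw_natCast]
  congr 1
  push_cast [ZMod.natCast_zmod_val]
  ring

/-- The action on a normal subgroup. -/
def frame (L : Subgroup G) [L.Normal] : Frame39 L where
  rot a v := ⟨pw r a * v * (pw r a)⁻¹, (inferInstance : L.Normal).conj_mem _ v.2 _⟩
  tri k v := ⟨y ^ (k : ℕ) * v * (y ^ (k : ℕ))⁻¹, (inferInstance : L.Normal).conj_mem _ v.2 _⟩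
  rot_zero v := Subtype.ext (by simp [pw])
  rot_add a b v := Subtype.ext (by
    show pw r (a + b) * (v : G) * (pw r (a + b))⁻¹ = pw r a * (pw r b * v * (pw r b)⁻¹) * (pw r a)⁻¹
    rw [h.pw_add]; group)
  tri_zero v := Subtype.ext (by simp)
  tri_rot k a v := Subtype.ext (by
    show y ^ (k : ℕ) * (pw r a * (v : G) * (pw r a)⁻¹) * (y ^ (k : ℕ))⁻¹ =
      pw r (3 ^ (k : ℕ) * a) * (y ^ (k : ℕ) * v * (y ^ (k : ℕ))⁻¹) * (pw r (3 ^ (k : ℕ) * a))⁻¹
    rw [← h.tri_pw]; group)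

/-- The fixed points of the element of order three commute. -/
theorem fixed_comm {a b : G} (ha : a ∈ Q) (hb : b ∈ Q) (hya : Commute y a) (hyb : Commute y b) : a * b = b * a := by
  calc a * b = (a * b)⁻¹ := eq_inv_of_mul_eq_one_left (h.fixed _ (mul_mem ha hb) (hya.mul_right hyb))
    _ = b * a := by
      rw [mul_inv_rev, inv_eq_of_mul_eq_one_left (h.fixed b hb hyb), inv_eq_of_mul_eq_one_left (h.fixed a ha hya)]

omit h [Finite G] in
/-- An additive function of the conjugates of an element. -/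
theorem sum_prod {K : Type*} [AddCommMonoid K] {L : Subgroup G} [L.Normal] {g : G → K} (hg1 : g 1 = 0)
    (hg : ∀ a ∈ L, ∀ b ∈ L, g (a * b) = g a + g b) (x : G) {v : G} (hv : v ∈ L) (n : ℕ) :
    (v * x) ^ n * (x ^ n)⁻¹ ∈ L ∧ g ((v * x) ^ n * (x ^ n)⁻¹) = ∑ i ∈ range n, g (x ^ i * v * (x ^ i)⁻¹) := by
  induction n with
  | zero => simp [hg1]
  | succ n ih =>
    have e : (v * x) ^ (n + 1) * (x ^ (n + 1))⁻¹ = (v * x) ^ n * (x ^ n)⁻¹ * (x ^ n * v * (x ^ n)⁻¹) := by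
      rw [pow_succ, pow_succ]; group
    have hm : x ^ n * v * (x ^ n)⁻¹ ∈ L := (inferInstance : L.Normal).conj_mem v hv _
    rw [e]
    exact ⟨mul_mem ih.1 hm, by rw [hg _ ih.1 _ hm, ih.2, sum_range_succ]⟩

/-- The sum of an additive function over an orbit is its value at a fixed element. -/
theorem orbit_fixed {K : Type*} [AddCommGroup K] {L L' : Subgroup G} [L.Normal] [L'.Normal] (hL : L ≤ Q)
    (hL' : L' ≤ L) (hcomm : ∀ a ∈ L, ∀ b ∈ L, ⁅a, b⁆ ∈ L') {g : G → K}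
    (hg : ∀ a ∈ L, ∀ b ∈ L, g (a * b) = g a + g b) (hg' : ∀ a ∈ L', g a = 0) {x : G} {p : ℕ} [Fact p.Prime]
    (hp2 : p ≠ 2) (hx : x ^ p = 1) {v : G} (hv : v ∈ L) :
    ∃ w ∈ L, Commute x w ∧ g w = ∑ i ∈ range p, g (x ^ i * v * (x ^ i)⁻¹) := by
  have hg1 : g 1 = 0 := hg' 1 (one_mem _)
  obtain ⟨hPL, hPg⟩ := sum_prod hg1 hg x hv p
  rw [hx, inv_one, mul_one] at hPL hPg
  set P := (v * x) ^ p with hP
  have hPc : P⁻¹ * (x * P * x⁻¹) ∈ L' := by
    have e : x * P * x⁻¹ = v⁻¹ * P * v := by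
      calc x * P * x⁻¹ = v⁻¹ * ((v * x) * P) * (v * x)⁻¹ * v := by group
        _ = v⁻¹ * (P * (v * x)) * (v * x)⁻¹ * v := by rw [(Commute.self_pow (v * x) p).eq]
        _ = v⁻¹ * P * v := by group
    rw [e, show P⁻¹ * (v⁻¹ * P * v) = ⁅P⁻¹, v⁻¹⁆ by rw [commutatorElement_def]; group]
    exact hcomm _ (inv_mem hPL) _ (inv_mem hv)
  have hA : ¬ p ∣ Nat.card L' := by
    obtain ⟨n, hn⟩ := IsPGroup.iff_card.mp (h.two.to_le (hL'.trans hL))
    rw [hn]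
    exact fun hd => hp2 ((Nat.prime_dvd_prime_iff_eq Fact.out Nat.prime_two).mp
      ((Fact.out : p.Prime).dvd_of_dvd_pow hd))
  obtain ⟨a, ha, hc⟩ := exists_fixed_coset hx hA (fun a ha => (inferInstance : L'.Normal).conj_mem a ha x) hPc
  exact ⟨P * a, mul_mem hPL (hL' ha), hc, by rw [hg _ hPL _ (hL' ha), hg' a ha, add_zero, hPg]⟩

/-- The sum of an additive function over an orbit of the element of order thirteen vanishes. -/
theorem orbit_zero {K : Type*} [AddCommGroup K] {L L' : Subgroup G} [L.Normal] [L'.Normal] (hL : L ≤ Q)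
    (hL' : L' ≤ L) (hcomm : ∀ a ∈ L, ∀ b ∈ L, ⁅a, b⁆ ∈ L') {g : G → K}
    (hg : ∀ a ∈ L, ∀ b ∈ L, g (a * b) = g a + g b) (hg' : ∀ a ∈ L', g a = 0) {v : G} (hv : v ∈ L) :
    ∑ a : ZMod 13, g (pw r a * v * (pw r a)⁻¹) = 0 := by
  haveI : Fact (Nat.Prime 13) := ⟨by norm_num⟩
  obtain ⟨w, hw, hc, hgw⟩ := h.orbit_fixed hL hL' hcomm hg hg' (p := 13) (by norm_num) h.r13 hv
  rw [h.free w (hL hw) hc, hg' 1 (one_mem _)] at hgw
  rw [hgw, ← Fin.sum_univ_eq_sum_range (fun i => g (r ^ i * v * (r ^ i)⁻¹)) 13]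
  rfl

end Frob39

/-! ### The commutator form -/

/-- An additive function on a subgroup into a commutative group kills its commutators. -/
theorem kill_commutator {K : Type*} [AddCommGroup K] {L : Subgroup G} {g : G → K}
    (hg : ∀ a ∈ L, ∀ b ∈ L, g (a * b) = g a + g b) : ∀ a ∈ ⁅L, L⁆, g a = 0 := by
  have h1 : g 1 = 0 := by simpa using hg 1 (one_mem _) 1 (one_mem _)
  have hinv : ∀ a ∈ L, g a⁻¹ = - g a := fun a ha => eq_neg_of_add_eq_zero_right (by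
    rw [← hg a ha _ (inv_mem ha), mul_inv_cancel, h1])
  let ker : Subgroup G :=
    { carrier := {a | a ∈ L ∧ g a = 0}
      one_mem' := ⟨one_mem _, h1⟩
      mul_mem' := fun {a b} ha hb => ⟨mul_mem ha.1 hb.1, by rw [hg a ha.1 b hb.1, ha.2, hb.2, add_zero]⟩
      inv_mem' := fun {a} ha => ⟨inv_mem ha.1, by rw [hinv a ha.1, ha.2, neg_zero]⟩ }
  have hle : ⁅L, L⁆ ≤ ker := by
    rw [Subgroup.commutator_le]
    intro a ha b hb
    rw [commutatorElement_def]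
    refine ⟨mul_mem (mul_mem (mul_mem ha hb) (inv_mem ha)) (inv_mem hb), ?_⟩
    rw [hg _ (mul_mem (mul_mem ha hb) (inv_mem ha)) _ (inv_mem hb), hg _ (mul_mem ha hb) _ (inv_mem ha),
      hg a ha b hb, hinv a ha, hinv b hb]
    abel
  exact fun a ha => (hle ha).2

omit [Finite G] in
theorem hall_witt (a b c : G) :
    ⁅⁅a, b⁆, b * c * b⁻¹⁆ * ⁅⁅b, c⁆, c * a * c⁻¹⁆ * ⁅⁅c, a⁆, a * b * a⁻¹⁆ = 1 := by
  simp only [commutatorElement_def]
  group

/-- An additive function on the third term of the lower central series vanishing on the fourth. -/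
structure Cube (Q : Subgroup G) (f : G → CycRing) : Prop where
  add : ∀ a ∈ ⁅⁅Q, Q⁆, Q⁆, ∀ b ∈ ⁅⁅Q, Q⁆, Q⁆, f (a * b) = f a + f b
  zero : ∀ a ∈ ⁅⁅⁅Q, Q⁆, Q⁆, Q⁆, f a = 0

namespace Cube

variable {Q : Subgroup G} [Q.Normal] {f : G → CycRing} (hf : Cube Q f)
include hf

theorem conj {n c : G} (hn : n ∈ ⁅⁅Q, Q⁆, Q⁆) (hc : c ∈ Q) : f (c * n * c⁻¹) = f n := by
  have h1 : ⁅c, n⁆ ∈ ⁅⁅⁅Q, Q⁆, Q⁆, Q⁆ := by
    rw [← commutatorElement_inv]
    exact inv_mem (Subgroup.commutator_mem_commutator hn hc)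
  rw [show c * n * c⁻¹ = ⁅c, n⁆ * n by rw [commutatorElement_def]; group,
    hf.add _ (Subgroup.commutator_le_left _ _ h1) _ hn, hf.zero _ h1, zero_add]

theorem add_right {m c c' : G} (hm : m ∈ ⁅Q, Q⁆) (hc : c ∈ Q) (hc' : c' ∈ Q) :
    f ⁅m, c * c'⁆ = f ⁅m, c⁆ + f ⁅m, c'⁆ := by
  have h1 := Subgroup.commutator_mem_commutator hm hc
  have h2 := Subgroup.commutator_mem_commutator hm hc'
  rw [show ⁅m, c * c'⁆ = ⁅m, c⁆ * (c * ⁅m, c'⁆ * c⁻¹) by simp only [commutatorElement_def]; group,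
    hf.add _ h1 _ ((inferInstance : (⁅⁅Q, Q⁆, Q⁆).Normal).conj_mem _ h2 c), hf.conj h2 hc]

theorem add_left {m m' c : G} (hm : m ∈ ⁅Q, Q⁆) (hm' : m' ∈ ⁅Q, Q⁆) (hc : c ∈ Q) :
    f ⁅m * m', c⁆ = f ⁅m, c⁆ + f ⁅m', c⁆ := by
  have h1 := Subgroup.commutator_mem_commutator hm hc
  have h2 := Subgroup.commutator_mem_commutator hm' hc
  rw [show ⁅m * m', c⁆ = (m * ⁅m', c⁆ * m⁻¹) * ⁅m, c⁆ by simp only [commutatorElement_def]; group,
    hf.add _ ((inferInstance : (⁅⁅Q, Q⁆, Q⁆).Normal).conj_mem _ h2 m) _ h1,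
    hf.conj h2 (Subgroup.commutator_le_right _ _ hm), add_comm]

theorem low_left {m c : G} (hm : m ∈ ⁅⁅Q, Q⁆, Q⁆) (hc : c ∈ Q) : f ⁅m, c⁆ = 0 :=
  hf.zero _ (Subgroup.commutator_mem_commutator hm hc)

theorem low_right {m c : G} (hm : m ∈ ⁅Q, Q⁆) (hc : c ∈ ⁅Q, Q⁆) : f ⁅m, c⁆ = 0 :=
  kill_commutator (L := Q) (g := fun c => f ⁅m, c⁆) (fun _ ha _ hb => hf.add_right hm ha hb) c hc

theorem conj_right {m b c : G} (hm : m ∈ ⁅Q, Q⁆) (hb : b ∈ Q) (hc : c ∈ Q) :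
    f ⁅m, b * c * b⁻¹⁆ = f ⁅m, c⁆ := by
  rw [show b * c * b⁻¹ = ⁅b, c⁆ * c by rw [commutatorElement_def]; group,
    hf.add_right hm (Subgroup.commutator_le_right _ _ (Subgroup.commutator_mem_commutator hb hc)) hc,
    hf.low_right hm (Subgroup.commutator_mem_commutator hb hc), zero_add]

theorem triple_left {a a' b c : G} (ha : a ∈ Q) (ha' : a' ∈ Q) (hb : b ∈ Q) (hc : c ∈ Q) :
    f ⁅⁅a * a', b⁆, c⁆ = f ⁅⁅a, b⁆, c⁆ + f ⁅⁅a', b⁆, c⁆ := by
  have h1 := Subgroup.commutator_mem_commutator ha hb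
  have h2 := Subgroup.commutator_mem_commutator ha' hb
  have h3 : ⁅a, ⁅a', b⁆⁆ ∈ ⁅⁅Q, Q⁆, Q⁆ := by
    rw [← commutatorElement_inv]
    exact inv_mem (Subgroup.commutator_mem_commutator h2 ha)
  rw [show ⁅a * a', b⁆ = ⁅a, ⁅a', b⁆⁆ * ⁅a', b⁆ * ⁅a, b⁆ by simp only [commutatorElement_def]; group,
    hf.add_left (mul_mem (Subgroup.commutator_le_left _ _ h3) h2) h1 hc,
    hf.add_left (Subgroup.commutator_le_left _ _ h3) h2 hc, hf.low_left h3 hc, zero_add, add_comm]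

theorem triple_mid {a b b' c : G} (ha : a ∈ Q) (hb : b ∈ Q) (hb' : b' ∈ Q) (hc : c ∈ Q) :
    f ⁅⁅a, b * b'⁆, c⁆ = f ⁅⁅a, b⁆, c⁆ + f ⁅⁅a, b'⁆, c⁆ := by
  have h1 := Subgroup.commutator_mem_commutator ha hb
  have h2 := Subgroup.commutator_mem_commutator ha hb'
  have h3 : ⁅b, ⁅a, b'⁆⁆ ∈ ⁅⁅Q, Q⁆, Q⁆ := by
    rw [← commutatorElement_inv]
    exact inv_mem (Subgroup.commutator_mem_commutator h2 hb)
  rw [show ⁅a, b * b'⁆ = ⁅a, b⁆ * (⁅b, ⁅a, b'⁆⁆ * ⁅a, b'⁆) by simp only [commutatorElement_def]; group,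
    hf.add_left h1 (mul_mem (Subgroup.commutator_le_left _ _ h3) h2) hc,
    hf.add_left (Subgroup.commutator_le_left _ _ h3) h2 hc, hf.low_left h3 hc, zero_add]

theorem jacobi {a b c : G} (ha : a ∈ Q) (hb : b ∈ Q) (hc : c ∈ Q) :
    f ⁅⁅a, b⁆, c⁆ + f ⁅⁅b, c⁆, a⁆ + f ⁅⁅c, a⁆, b⁆ = 0 := by
  have hab := Subgroup.commutator_mem_commutator ha hb
  have hbc := Subgroup.commutator_mem_commutator hb hc
  have hca := Subgroup.commutator_mem_commutator hc ha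
  rw [← hf.conj_right hab hb hc, ← hf.conj_right hbc hc ha, ← hf.conj_right hca ha hb]
  have e1 := Subgroup.commutator_mem_commutator hab (mul_mem (mul_mem hb hc) (inv_mem hb))
  have e2 := Subgroup.commutator_mem_commutator hbc (mul_mem (mul_mem hc ha) (inv_mem hc))
  have e3 := Subgroup.commutator_mem_commutator hca (mul_mem (mul_mem ha hb) (inv_mem ha))
  rw [← hf.add _ e1 _ e2, ← hf.add _ (mul_mem e1 e2) _ e3, hall_witt, hf.zero 1 (one_mem _)]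

/-- A component of the triple form. -/
noncomputable def comp (_hf : Cube Q f) (r : G) (i j k : ZMod 13) (v w z : G) : CycRing :=
  ∑ a : ZMod 13, ∑ b : ZMod 13, ∑ c : ZMod 13, cycChi (-(i * a + j * b + k * c)) *
    f ⁅⁅Frob39.pw r a * v * (Frob39.pw r a)⁻¹, Frob39.pw r b * w * (Frob39.pw r b)⁻¹⁆,
      Frob39.pw r c * z * (Frob39.pw r c)⁻¹⁆

variable {r y : G} (h : Frob39 Q r y)
include h

theorem comp_first {i j : ZMod 13} (hij : ¬ orbitPair i j) (k : ZMod 13) {v w z : G} (hv : v ∈ Q) (hw : w ∈ Q)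
    (hz : z ∈ Q) : hf.comp r i j k v w z = 0 := by
  haveI : Fact (Nat.Prime 3) := ⟨Nat.prime_three⟩
  have hcomm : ∀ a ∈ Q, ∀ b ∈ Q, ⁅a, b⁆ ∈ ⁅Q, Q⁆ := fun a ha b hb => Subgroup.commutator_mem_commutator ha hb
  have hQ' : ⁅Q, Q⁆ ≤ Q := Subgroup.commutator_le_left _ _
  have hcj : ∀ g : G, ∀ v ∈ Q, g * v * g⁻¹ ∈ Q := fun g v hv => (inferInstance : Q.Normal).conj_mem v hv g
  have key : ∀ c ∈ Q, ∀ v w : Q,
      eigPair cycChi (h.frame Q) (h.frame Q) (fun a b : Q => f ⁅⁅(a : G), (b : G)⁆, c⁆) i j v w = 0 := by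
    intro c hc v w
    have kill : ∀ {g : G → CycRing}, (∀ a ∈ Q, ∀ b ∈ Q, g (a * b) = g a + g b) → ∀ a ∈ ⁅Q, Q⁆, g a = 0 :=
      fun hg => kill_commutator hg
    refine eigPair_eq_zero _ _ _ _ cycChi_add cycChi_sum (fun t v w => ?_) (fun v w => ?_) (fun v w => ?_)
      (fun v w => ?_) hij v w
    · set U := Frob39.pw r t with hU
      have hg : ∀ d ∈ Q, ∀ a ∈ Q, ∀ b ∈ Q, f ⁅⁅U * (a * b) * U⁻¹, d⁆, c⁆ =
          f ⁅⁅U * a * U⁻¹, d⁆, c⁆ + f ⁅⁅U * b * U⁻¹, d⁆, c⁆ := fun d hd a ha b hb => by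
        rw [← hf.triple_left (hcj U a ha) (hcj U b hb) hd hc, ← conj_mul]
      have hg' : ∀ d ∈ Q, ∀ a ∈ Q, ∀ b ∈ Q, f ⁅⁅d, U * (a * b) * U⁻¹⁆, c⁆ =
          f ⁅⁅d, U * a * U⁻¹⁆, c⁆ + f ⁅⁅d, U * b * U⁻¹⁆, c⁆ := fun d hd a ha b hb => by
        rw [← hf.triple_mid hd (hcj U a ha) (hcj U b hb) hc, ← conj_mul]
      obtain ⟨v', hv', hyv, hgv⟩ : ∃ v' ∈ Q, Commute y v' ∧ ∀ d ∈ Q, f ⁅⁅U * v' * U⁻¹, d⁆, c⁆ =
          ∑ i ∈ range 3, f ⁅⁅U * (y ^ i * v * (y ^ i)⁻¹) * U⁻¹, d⁆, c⁆ := by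
        obtain ⟨v', hv', hyv, hgv⟩ := h.orbit_fixed (K := Q → CycRing) (L := Q) (L' := ⁅Q, Q⁆) le_rfl hQ' hcomm
          (g := fun a d => f ⁅⁅U * a * U⁻¹, (d : G)⁆, c⁆) (fun a ha b hb => funext fun d => hg d d.2 a ha b hb)
          (fun a ha => funext fun d => kill (g := fun a => f ⁅⁅U * a * U⁻¹, (d : G)⁆, c⁆) (hg d d.2) a ha) (p := 3) (by norm_num) h.y3 v.2
        refine ⟨v', hv', hyv, fun d hd => ?_⟩
        have := congrFun hgv ⟨d, hd⟩
        simpa [Finset.sum_apply] using this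
      obtain ⟨w', hw', hyw, hgw⟩ : ∃ w' ∈ Q, Commute y w' ∧ ∀ d ∈ Q, f ⁅⁅d, U * w' * U⁻¹⁆, c⁆ =
          ∑ i ∈ range 3, f ⁅⁅d, U * (y ^ i * w * (y ^ i)⁻¹) * U⁻¹⁆, c⁆ := by
        obtain ⟨w', hw', hyw, hgw⟩ := h.orbit_fixed (K := Q → CycRing) (L := Q) (L' := ⁅Q, Q⁆) le_rfl hQ' hcomm
          (g := fun b d => f ⁅⁅(d : G), U * b * U⁻¹⁆, c⁆) (fun a ha b hb => funext fun d => hg' d d.2 a ha b hb)
          (fun a ha => funext fun d => kill (g := fun b => f ⁅⁅(d : G), U * b * U⁻¹⁆, c⁆) (hg' d d.2) a ha) (p := 3) (by norm_num) h.y3 w.2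
        refine ⟨w', hw', hyw, fun d hd => ?_⟩
        have := congrFun hgw ⟨d, hd⟩
        simpa [Finset.sum_apply] using this
      have e1 : f ⁅⁅U * v' * U⁻¹, U * w' * U⁻¹⁆, c⁆ = 0 := by
        have e : ⁅U * v' * U⁻¹, U * w' * U⁻¹⁆ = 1 := by
          rw [commutatorElement_eq_one_iff_mul_comm, conj_mul, conj_mul, h.fixed_comm hv' hw' hyv hyw]
        rw [e, commutatorElement_one_left, hf.zero 1 (one_mem _)]
      rw [hgv _ (hcj U w' hw'), sum_congr rfl fun i _ => hgw _ (hcj U _ (hcj _ _ v.2))] at e1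
      rw [← e1, ← Fin.sum_univ_eq_sum_range
        (fun i => ∑ l ∈ range 3, f ⁅⁅U * (y ^ i * v * (y ^ i)⁻¹) * U⁻¹, U * (y ^ l * w * (y ^ l)⁻¹) * U⁻¹⁆, c⁆) 3]
      refine sum_congr rfl fun k _ => ?_
      rw [← Fin.sum_univ_eq_sum_range
        (fun l => f ⁅⁅U * (y ^ (k : ℕ) * v * (y ^ (k : ℕ))⁻¹) * U⁻¹, U * (y ^ l * w * (y ^ l)⁻¹) * U⁻¹⁆, c⁆) 3]
      rfl
    · exact h.orbit_zero (L := Q) (L' := ⁅Q, Q⁆) le_rfl hQ' hcomm (g := fun a => f ⁅⁅a, (w : G)⁆, c⁆)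
        (fun a ha b hb => hf.triple_left ha hb w.2 hc) (kill fun a ha b hb => hf.triple_left ha hb w.2 hc) v.2
    · exact h.orbit_zero (L := Q) (L' := ⁅Q, Q⁆) le_rfl hQ' hcomm (g := fun b => f ⁅⁅(v : G), b⁆, c⁆)
        (fun a ha b hb => hf.triple_mid v.2 ha hb hc) (kill fun a ha b hb => hf.triple_mid v.2 ha hb hc) w.2
    · refine Eq.trans (sum_congr rfl fun t _ => ?_) (h.orbit_zero (L := ⁅Q, Q⁆) (L' := ⁅⁅Q, Q⁆, Q⁆) hQ'
        (Subgroup.commutator_le_left _ _) (fun a ha b hb => Subgroup.commutator_mem_commutator ha (hQ' hb))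
        (g := fun m => f ⁅m, c⁆) (fun a ha b hb => hf.add_left ha hb hc) (fun a ha => hf.low_left ha hc)
        (hcomm _ v.2 _ w.2))
      show f ⁅⁅_, _⁆, c⁆ = f ⁅_, c⁆
      congr 2
      simp only [commutatorElement_def, Frob39.frame]
      group
  rw [Cube.comp]
  calc _ = ∑ c : ZMod 13, cycChi (-(k * c)) * eigPair cycChi (h.frame Q) (h.frame Q)
        (fun a b : Q => f ⁅⁅(a : G), (b : G)⁆, Frob39.pw r c * z * (Frob39.pw r c)⁻¹⁆) i j ⟨v, hv⟩ ⟨w, hw⟩ := by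
        simp only [eigPair, mul_sum]
        conv_lhs =>
          enter [2, a]
          rw [sum_comm]
        rw [sum_comm]
        refine sum_congr rfl fun c _ => sum_congr rfl fun a _ => sum_congr rfl fun b _ => ?_
        rw [← mul_assoc, ← cycChi_add]
        congr 2
        ring
    _ = 0 := sum_eq_zero fun c _ => by rw [key _ (hcj _ z hz), mul_zero]

theorem comp_second {i j k : ZMod 13} (hk : ¬ orbitPair (i + j) k) {v w z : G} (hv : v ∈ Q) (hw : w ∈ Q)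
    (hz : z ∈ Q) : hf.comp r i j k v w z = 0 := by
  haveI : Fact (Nat.Prime 3) := ⟨Nat.prime_three⟩
  have hQ' : ⁅Q, Q⁆ ≤ Q := Subgroup.commutator_le_left _ _
  have hcj : ∀ g : G, ∀ v ∈ Q, g * v * g⁻¹ ∈ Q := fun g v hv => (inferInstance : Q.Normal).conj_mem v hv g
  have hcj' : ∀ g : G, ∀ v ∈ ⁅Q, Q⁆, g * v * g⁻¹ ∈ ⁅Q, Q⁆ := fun g v hv =>
    (inferInstance : (⁅Q, Q⁆).Normal).conj_mem v hv g
  have hcomm : ∀ a ∈ Q, ∀ b ∈ Q, ⁅a, b⁆ ∈ ⁅Q, Q⁆ := fun a ha b hb => Subgroup.commutator_mem_commutator ha hb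
  have hcomm' : ∀ a ∈ ⁅Q, Q⁆, ∀ b ∈ ⁅Q, Q⁆, ⁅a, b⁆ ∈ ⁅⁅Q, Q⁆, Q⁆ := fun a ha b hb =>
    Subgroup.commutator_mem_commutator ha (hQ' hb)
  have hL3 : ⁅⁅Q, Q⁆, Q⁆ ≤ ⁅Q, Q⁆ := Subgroup.commutator_le_left _ _
  have key : ∀ (m : ↥⁅Q, Q⁆) (c : Q), eigPair cycChi (h.frame ⁅Q, Q⁆) (h.frame Q)
      (fun (m : ↥⁅Q, Q⁆) (c : Q) => f ⁅(m : G), (c : G)⁆) (i + j) k m c = 0 := by
    intro m c
    refine eigPair_eq_zero _ _ _ _ cycChi_add cycChi_sum (fun t m c => ?_) (fun m c => ?_) (fun m c => ?_)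
      (fun m c => ?_) hk m c
    · set U := Frob39.pw r t with hU
      have hg : ∀ d ∈ Q, ∀ a ∈ ⁅Q, Q⁆, ∀ b ∈ ⁅Q, Q⁆, f ⁅U * (a * b) * U⁻¹, d⁆ =
          f ⁅U * a * U⁻¹, d⁆ + f ⁅U * b * U⁻¹, d⁆ := fun d hd a ha b hb => by
        rw [← hf.add_left (hcj' U a ha) (hcj' U b hb) hd, ← conj_mul]
      have hg' : ∀ d ∈ ⁅Q, Q⁆, ∀ a ∈ Q, ∀ b ∈ Q, f ⁅d, U * (a * b) * U⁻¹⁆ =
          f ⁅d, U * a * U⁻¹⁆ + f ⁅d, U * b * U⁻¹⁆ := fun d hd a ha b hb => by
        rw [← hf.add_right hd (hcj U a ha) (hcj U b hb), ← conj_mul]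
      obtain ⟨m', hm', hym, hgm⟩ := h.orbit_fixed (K := Q → CycRing) (L := ⁅Q, Q⁆) (L' := ⁅⁅Q, Q⁆, Q⁆) hQ' hL3 hcomm'
        (g := fun a d => f ⁅U * a * U⁻¹, (d : G)⁆) (fun a ha b hb => funext fun d => hg d d.2 a ha b hb)
        (fun a ha => funext fun d => hf.low_left ((inferInstance : (⁅⁅Q, Q⁆, Q⁆).Normal).conj_mem a ha U) d.2)
        (p := 3) (by norm_num) h.y3 m.2
      obtain ⟨c', hc', hyc, hgc⟩ := h.orbit_fixed (K := ↥⁅Q, Q⁆ → CycRing) (L := Q) (L' := ⁅Q, Q⁆) le_rfl hQ' hcomm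
        (g := fun b d => f ⁅(d : G), U * b * U⁻¹⁆) (fun a ha b hb => funext fun d => hg' d d.2 a ha b hb)
        (fun a ha => funext fun d => hf.low_right d.2 (hcj' U a ha))
        (p := 3) (by norm_num) h.y3 c.2
      have e1 : f ⁅U * m' * U⁻¹, U * c' * U⁻¹⁆ = 0 := by
        have e : ⁅U * m' * U⁻¹, U * c' * U⁻¹⁆ = 1 := by
          rw [commutatorElement_eq_one_iff_mul_comm, conj_mul, conj_mul, h.fixed_comm (hQ' hm') hc' hym hyc]
        rw [e, hf.zero 1 (one_mem _)]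
      have em := congrFun hgm ⟨U * c' * U⁻¹, hcj U c' hc'⟩
      simp only [Finset.sum_apply] at em
      rw [em, sum_congr rfl fun i _ => (congrFun hgc ⟨U * (y ^ i * (m : G) * (y ^ i)⁻¹) * U⁻¹,
        hcj' U _ (hcj' _ _ m.2)⟩).trans (Finset.sum_apply _ _ _)] at e1
      rw [← e1, ← Fin.sum_univ_eq_sum_range
        (fun i => ∑ l ∈ range 3, f ⁅U * (y ^ i * m * (y ^ i)⁻¹) * U⁻¹, U * (y ^ l * c * (y ^ l)⁻¹) * U⁻¹⁆) 3]
      refine sum_congr rfl fun k _ => ?_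
      rw [← Fin.sum_univ_eq_sum_range
        (fun l => f ⁅U * (y ^ (k : ℕ) * m * (y ^ (k : ℕ))⁻¹) * U⁻¹, U * (y ^ l * c * (y ^ l)⁻¹) * U⁻¹⁆) 3]
      rfl
    · exact h.orbit_zero hQ' hL3 hcomm' (g := fun a => f ⁅a, (c : G)⁆)
        (fun a ha b hb => hf.add_left ha hb c.2) (fun a ha => hf.low_left ha c.2) m.2
    · exact h.orbit_zero (L := Q) (L' := ⁅Q, Q⁆) le_rfl hQ' hcomm (g := fun b => f ⁅(m : G), b⁆)
        (fun a ha b hb => hf.add_right m.2 ha hb) (fun a ha => hf.low_right m.2 ha) c.2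
    · refine Eq.trans (sum_congr rfl fun t _ => ?_) (h.orbit_zero (L := ⁅⁅Q, Q⁆, Q⁆) (L' := ⁅⁅⁅Q, Q⁆, Q⁆, Q⁆)
        (hL3.trans hQ') (Subgroup.commutator_le_left _ _)
        (fun a ha b hb => Subgroup.commutator_mem_commutator ha (hQ' (hL3 hb))) (g := f) hf.add hf.zero
        (Subgroup.commutator_mem_commutator m.2 c.2))
      show f ⁅_, _⁆ = f _
      congr 1
      simp only [commutatorElement_def, Frob39.frame]
      group
  rw [Cube.comp]
  calc _ = ∑ d : ZMod 13, cycChi (-(j * d)) * eigPair cycChi (h.frame ⁅Q, Q⁆) (h.frame Q)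
        (fun (m : ↥⁅Q, Q⁆) (c : Q) => f ⁅(m : G), (c : G)⁆) (i + j) k
        ⟨⁅v, Frob39.pw r d * w * (Frob39.pw r d)⁻¹⁆, hcomm v hv _ (hcj _ w hw)⟩ ⟨z, hz⟩ := by
        simp only [eigPair, mul_sum]
        conv_rhs => rw [sum_comm]
        refine sum_congr rfl fun a _ => ?_
        refine (Fintype.sum_equiv (Equiv.addLeft a) _ _ fun d => ?_).symm
        refine sum_congr rfl fun c _ => ?_
        rw [← mul_assoc, ← cycChi_add]
        congr 1
        · congr 1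
          simp only [Equiv.coe_addLeft]
          ring
        · simp only [Equiv.coe_addLeft, Frob39.frame]
          congr 2
          rw [h.pw_add]
          simp only [commutatorElement_def]
          group
    _ = 0 := sum_eq_zero fun d _ => by rw [key, mul_zero]

/-- **The triple form vanishes.** -/
theorem triple_zero {v w z : G} (hv : v ∈ Q) (hw : w ∈ Q) (hz : z ∈ Q) : f ⁅⁅v, w⁆, z⁆ = 0 := by
  have hcyc : ∀ i j k : ZMod 13,
      hf.comp r i j k v w z + hf.comp r j k i w z v + hf.comp r k i j z v w = 0 := by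
    intro i j k
    have hcj : ∀ g : G, ∀ v ∈ Q, g * v * g⁻¹ ∈ Q := fun g v hv => (inferInstance : Q.Normal).conj_mem v hv g
    have e2 : hf.comp r j k i w z v = ∑ a : ZMod 13, ∑ b : ZMod 13, ∑ c : ZMod 13, cycChi (-(i * a + j * b + k * c)) *
        f ⁅⁅Frob39.pw r b * w * (Frob39.pw r b)⁻¹, Frob39.pw r c * z * (Frob39.pw r c)⁻¹⁆,
          Frob39.pw r a * v * (Frob39.pw r a)⁻¹⁆ := by
      rw [Cube.comp]
      conv_rhs => rw [sum_comm]
      refine sum_congr rfl fun b _ => ?_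
      rw [sum_comm]
      exact sum_congr rfl fun c _ => sum_congr rfl fun a _ => by congr 2; ring
    have e3 : hf.comp r k i j z v w = ∑ a : ZMod 13, ∑ b : ZMod 13, ∑ c : ZMod 13, cycChi (-(i * a + j * b + k * c)) *
        f ⁅⁅Frob39.pw r c * z * (Frob39.pw r c)⁻¹, Frob39.pw r a * v * (Frob39.pw r a)⁻¹⁆,
          Frob39.pw r b * w * (Frob39.pw r b)⁻¹⁆ := by
      rw [Cube.comp, sum_comm]
      refine sum_congr rfl fun a _ => ?_
      rw [sum_comm]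
      exact sum_congr rfl fun b _ => sum_congr rfl fun c _ => by congr 2; ring
    rw [e2, e3, Cube.comp, ← sum_add_distrib, ← sum_add_distrib]
    refine sum_eq_zero fun a _ => ?_
    rw [← sum_add_distrib, ← sum_add_distrib]
    refine sum_eq_zero fun b _ => ?_
    rw [← sum_add_distrib, ← sum_add_distrib]
    refine sum_eq_zero fun c _ => ?_
    rw [← mul_add, ← mul_add, hf.jacobi (hcj _ v hv) (hcj _ w hw) (hcj _ z hz), mul_zero]
  have hall : ∀ i j k : ZMod 13, hf.comp r i j k v w z = 0 := by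
    intro i j k
    by_cases h1 : orbitPair i j
    · by_cases h2 : orbitPair (i + j) k
      · have h3 := hcyc i j k
        obtain ⟨a1, a2⟩ := orbitPair_triple i j k h1 h2
        rwa [hf.comp_first h a1 _ hw hz hv, hf.comp_first h a2 _ hz hv hw, add_zero, add_zero] at h3
      · exact hf.comp_second h h2 hv hw hz
    · exact hf.comp_first h h1 k hv hw hz
  set F : ZMod 13 → ZMod 13 → ZMod 13 → CycRing := fun a b c =>
    f ⁅⁅Frob39.pw r a * v * (Frob39.pw r a)⁻¹, Frob39.pw r b * w * (Frob39.pw r b)⁻¹⁆,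
      Frob39.pw r c * z * (Frob39.pw r c)⁻¹⁆ with hF
  have h1 : ∀ i j a b, ∑ k : ZMod 13, ∑ c : ZMod 13, cycChi (-(i * a + j * b + k * c)) * F a b c =
      cycChi (-(i * a + j * b)) * F a b 0 := fun i j a b => by
    rw [← sum_chi_mul cycChi cycChi_sum (F a b), mul_sum]
    refine sum_congr rfl fun k _ => ?_
    rw [mul_sum]
    exact sum_congr rfl fun c _ => by rw [← mul_assoc, ← cycChi_add]; congr 2; ring
  have h2 : ∀ i j, ∑ k : ZMod 13, hf.comp r i j k v w z =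
      ∑ a : ZMod 13, ∑ b : ZMod 13, cycChi (-(i * a + j * b)) * F a b 0 := fun i j => by
    simp only [Cube.comp]
    rw [sum_comm]
    refine sum_congr rfl fun a _ => ?_
    rw [sum_comm]
    exact sum_congr rfl fun b _ => h1 i j a b
  have h3 : ∀ i, ∑ j : ZMod 13, ∑ a : ZMod 13, ∑ b : ZMod 13, cycChi (-(i * a + j * b)) * F a b 0 =
      ∑ a : ZMod 13, cycChi (-(i * a)) * F a 0 0 := fun i => by
    rw [sum_comm]
    refine sum_congr rfl fun a _ => ?_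
    rw [← sum_chi_mul cycChi cycChi_sum (fun b => F a b 0), mul_sum]
    refine sum_congr rfl fun j _ => ?_
    rw [mul_sum]
    exact sum_congr rfl fun b _ => by rw [← mul_assoc, ← cycChi_add]; congr 2; ring
  have h4 : F 0 0 0 = 0 := by
    rw [← sum_chi_mul cycChi cycChi_sum (fun a => F a 0 0)]
    refine sum_eq_zero fun i _ => ?_
    rw [← h3]
    exact sum_eq_zero fun j _ => by rw [← h2]; exact sum_eq_zero fun k _ => hall i j k
  simpa [hF, Frob39.pw] using h4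

end Cube

end CfsgLib.SpecThirteen
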