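import Cfsg.Agent.Lib.SpecThirteen.Mixed
import Cfsg.Agent.Lib.SpecThirteen.AmalRank
import Cfsg.Agent.Lib.SpecSix.MoversPair
import Cfsg.Agent.Lib.SpecSix.Cover
import Cfsg.Agent.Lib.SixteenRank.Reduce

/-!
Element orders in `{1, 2, 3, 4, 6, 8, 13}`, the simple case of characteristic 2 type with solvable 2-local subgroups
and large sectional 2-rank: two parabolics over a Sylow 2-subgroup with different cores have a common nontrivial
normal 2-subgroup.
-/

set_option autoImplicit false
set_option linter.unusedSectionVars false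
set_option linter.style.haveILetI false

namespace CfsgLib.SpecThirteen

open Cfsg
open CfsgLib.SpecSix (Frame Parab Half centralInvol centralInvol_ne_bot core_le core_isPGroup core_card_mul
  le_normalizer_core omegaCenterOf_eq sylow_odd mem_normalizer_of_cj_le top_subgroupOf)

universe u

/-- The simple case: element orders in `{1, 2, 3, 4, 6, 8, 13}`, characteristic 2 type, solvable 2-local
subgroups and sectional 2-rank more than four. -/
structure Hyp (G : Type u) [Group G] [Finite G] : Prop where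
  thirteen : Thirteen G
  simple : IsSimpleGroup G
  nonsolvable : ¬ Group.IsSolvable G
  char2 : Cfsg.IsCharacteristicTwoType G
  local_solvable : ∀ N : Subgroup G, Cfsg.IsTwoLocal N → Group.IsSolvable N
  rank : ¬ Cfsg.SectionalPRankLE 2 4 G

variable {G : Type u} [Group G] [Finite G]

/-- A group of order at most sixteen has sectional rank at most four. -/
theorem sectional_of_card_le {S : Subgroup G} (h : Nat.card S ≤ 16) : SectionalPRankLE 2 4 S := by
  intro H N _ E _ _
  refine le_trans (Subgroup.card_le_card_group E) ?_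
  exact le_trans (N.card_quotient_dvd_card.trans (Subgroup.card_subgroup_dvd_card H) |> Nat.le_of_dvd Nat.card_pos) h

/-- Two parabolics with top `S₃` and trivial common core moving the central involutions: the Sylow 2-subgroup has
order at most sixteen. -/
theorem movers_card {S P1 P : Subgroup G} {x1 x : G} (h1 : Half S P1 x1) (h2 : Half S P x) (hinf : P1 ⊓ P = S)
    (hcore : ∀ N : Subgroup G, N ≤ S → P1 ≤ Subgroup.normalizer (N : Set G) →
      P ≤ Subgroup.normalizer (N : Set G) → N = ⊥)
    (hm1 : ¬ P1 ≤ Subgroup.centralizer (omegaCenterOf S : Set G))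
    (hm : ¬ P ≤ Subgroup.centralizer (omegaCenterOf S : Set G)) : Nat.card S ≤ 16 := by
  haveI : Fact (Nat.Prime 2) := ⟨Nat.prime_two⟩
  set L := P1 ⊔ P with hL
  set T := S.subgroupOf L with hT
  have hP1L : P1 ≤ L := le_sup_left
  have hPL : P ≤ L := le_sup_right
  have hSL : S ≤ L := h1.le.trans hP1L
  have key : ∀ {R : Subgroup G} {y : G}, Half S R y → R ≤ L →
      ¬ R ≤ Subgroup.centralizer (omegaCenterOf S : Set G) →
      (R.subgroupOf L ⊓ Subgroup.centralizer (pCoreOf 2 (R.subgroupOf L) : Set L) ≤ pCoreOf 2 (R.subgroupOf L)) ∧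
      (∃ Y : Sylow 2 ↥(R.subgroupOf L), (Y : Subgroup ↥(R.subgroupOf L)) = T.subgroupOf (R.subgroupOf L)) ∧
      Nonempty (↥(R.subgroupOf L) ⧸ pCore 2 ↥(R.subgroupOf L) ≃* Equiv.Perm (Fin 3)) ∧
      ¬ R.subgroupOf L ≤ Subgroup.centralizer (omegaOne 2 (T ⊓ Subgroup.centralizer (T : Set L)) : Set L) := by
    intro R y hR hRL hmove
    have hmap : (R.subgroupOf L).map L.subtype = R := Subgroup.map_subgroupOf_eq_of_le hRL
    have hcoreR : pCoreOf 2 R = (pCoreOf 2 (R.subgroupOf L)).map L.subtype := by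
      conv_lhs => rw [← hmap]
      exact JComp.pCoreOf_map L.subtype L.subtype_injective _
    refine ⟨?_, ?_, ?_, ?_⟩
    · rintro c ⟨-, hc⟩
      have hc' : (c : G) ∈ pCoreOf 2 R := hR.frame.cent (by
        rw [hcoreR]
        rintro _ ⟨q, hq, rfl⟩
        exact congrArg Subtype.val (hc q hq))
      rw [hcoreR] at hc'
      obtain ⟨d, hd, e⟩ := hc'
      rwa [L.subtype_injective e] at hd
    · have hT2 : IsPGroup 2 (T.subgroupOf (R.subgroupOf L)) :=
        (h1.frame.two.comap_of_injective L.subtype L.subtype_injective).comap_of_injective _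
          (R.subgroupOf L).subtype_injective
      refine ⟨hT2.toSylow ?_, rfl⟩
      intro hd
      have e : (T.subgroupOf (R.subgroupOf L)).index = S.relIndex R := by
        show T.relIndex (R.subgroupOf L) = _
        rw [hT, ← Subgroup.relIndex_map_map_of_injective _ _ L.subtype_injective,
          Subgroup.map_subgroupOf_eq_of_le hSL, hmap]
      rw [e] at hd
      exact Nat.not_even_iff_odd.mpr hR.frame.odd (even_iff_two_dvd.mpr hd)
    · obtain ⟨e⟩ := hR.top
      exact top_subgroupOf hRL e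
    · intro hle
      refine hmove fun g hg => ?_
      have e : omegaCenterOf S = (omegaCenterOf T).map L.subtype := by
        conv_lhs => rw [← Subgroup.map_subgroupOf_eq_of_le hSL]
        exact JComp.omegaCenterOf_map L.subtype L.subtype_injective _
      rw [e]
      rintro _ ⟨v, hv, rfl⟩
      exact congrArg Subtype.val (hle (show (⟨g, hRL hg⟩ : L) ∈ R.subgroupOf L from hg) v hv)
  obtain ⟨a1, a2, a3, a4⟩ := key h1 hP1L hm1
  obtain ⟨b1, b2, b3, b4⟩ := key h2 hPL hm
  have two : ∀ {p : Subgroup L → Prop}, p (P1.subgroupOf L) → p (P.subgroupOf L) →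
      ∀ R ∈ ({P1.subgroupOf L, P.subgroupOf L} : Set (Subgroup L)), p R := by
    intro p hp1 hp2 R hR
    rcases hR with rfl | rfl
    · exact hp1
    · exact hp2
  have hTT : T = P1.subgroupOf L ⊓ P.subgroupOf L := by
    rw [hT, ← hinf]; rfl
  have hgen : P1.subgroupOf L ⊔ P.subgroupOf L = ⊤ := by
    rw [← Subgroup.subgroupOf_sup hP1L hPL, ← hL, Subgroup.subgroupOf_self]
  have hnorm : ∀ N : Subgroup L, N.Normal → N ≤ T → N = ⊥ := by
    intro N hN hNT
    have hle : L ≤ Subgroup.normalizer ((N.map L.subtype : Subgroup G) : Set G) := fun g hg => by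
      refine mem_normalizer_of_cj_le ?_
      rintro _ ⟨v, hv, rfl⟩
      exact ⟨⟨g, hg⟩ * v * (⟨g, hg⟩ : L)⁻¹, hN.conj_mem v hv _, rfl⟩
    have hNS : N.map L.subtype ≤ S := by
      rintro _ ⟨v, hv, rfl⟩
      exact hNT hv
    exact (Subgroup.map_eq_bot_iff_of_injective _ L.subtype_injective).mp
      (hcore _ hNS (hP1L.trans hle) (hPL.trans hle))
  have hcases := Cfsg.Agent.S2858.result (P1.subgroupOf L) (P.subgroupOf L) hgen T hTT
    (two a1 b1) (two a2 b2) hnorm (two a3 b3) (two a4 b4)
  have hmul : Nat.card S * 3 = Nat.card P1 := by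
    have := h1.frame.relIndex_eq
    rw [h1.idx, h1.index] at this
    rw [← CfsgLib.Products.card_mul_relIndex_of_le h1.le]
    congr 1
    omega
  have hcard : Nat.card ↥(P1.subgroupOf L) = Nat.card P1 :=
    Nat.card_congr (Subgroup.subgroupOfEquivOfLe hP1L).toEquiv
  rcases hcases with ⟨⟨e⟩, -⟩ | ⟨⟨e⟩, -⟩
  · rw [Nat.card_congr e.toEquiv, Nat.card_perm, Nat.card_fin] at hcard
    norm_num [Nat.factorial] at hcard; omega
  · rw [Nat.card_congr e.toEquiv, Nat.card_prod, Nat.card_perm, Nat.card_fin] at hcard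
    norm_num [Nat.factorial] at hcard; omega

namespace Hyp

variable (H : Hyp G)
include H

theorem nontrivial : Nontrivial G :=
  not_subsingleton_iff_nontrivial.mp fun _ => H.nonsolvable
    (Group.isSolvable_of_comm fun _ _ => Subsingleton.elim _ _)

theorem not_commutative : ¬ IsMulCommutative G := fun hc =>
  H.nonsolvable (Group.isSolvable_of_comm fun a b => hc.is_comm.comm a b)

theorem not_two_group : ¬ IsPGroup 2 (⊤ : Subgroup G) := fun h => by
  haveI : Fact (Nat.Prime 2) := ⟨Nat.prime_two⟩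
  haveI := SpecSix.solvable_of_isPGroup h
  exact H.nonsolvable (Group.isSolvable_of_isSolvable_injective (G' := (⊤ : Subgroup G))
    (f := (Subgroup.topEquiv (G := G)).symm.toMonoidHom) (MulEquiv.injective _))

/-- The normalizer of a nontrivial 2-subgroup is proper. -/
theorem normalizer_ne_top {R : Subgroup G} (hR : IsPGroup 2 R) (hR1 : R ≠ ⊥) :
    Subgroup.normalizer (R : Set G) ≠ ⊤ := fun e => by
  haveI : R.Normal := Subgroup.normalizer_eq_top_iff.mp e
  haveI := H.simple
  rcases IsSimpleGroup.eq_bot_or_eq_top_of_normal R inferInstance with h | h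
  · exact hR1 h
  · exact H.not_two_group (h ▸ hR)

theorem sylow_rank (S : Sylow 2 G) : ¬ SectionalPRankLE 2 4 (S : Subgroup G) := fun h =>
  H.rank (CfsgLib.SixteenRank.sectional_of_sylow S h)

theorem sylow_card (S : Sylow 2 G) : 16 < Nat.card (S : Subgroup G) :=
  not_le.mp fun h => H.sylow_rank S (sectional_of_card_le h)

theorem sylow_ne_bot (S : Sylow 2 G) : (S : Subgroup G) ≠ ⊥ := fun e => by
  have := H.sylow_card S
  rw [e, Subgroup.card_bot] at this
  omega

/-- An overgroup of a Sylow 2-subgroup inside a 2-local has a frame. -/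
theorem frame_over (S : Sylow 2 G) {R P : Subgroup G} (hR : IsPGroup 2 R) (hR1 : R ≠ ⊥)
    (hSP : (S : Subgroup G) ≤ P) (hP : P ≤ Subgroup.normalizer (R : Set G)) :
    Frame (S : Subgroup G) P :=
  Frame.of_char2 H.char2 hR hR1 hP hSP S.isPGroup' (sylow_odd S (hSP.trans hP))

theorem solvable_le {R P : Subgroup G} (hR : IsPGroup 2 R) (hR1 : R ≠ ⊥)
    (hP : P ≤ Subgroup.normalizer (R : Set G)) : Group.IsSolvable P := by
  haveI := H.local_solvable _ ⟨R, hR, hR1, rfl⟩
  exact Group.isSolvable_of_isSolvable_injective (f := Subgroup.inclusion hP)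
    (Subgroup.inclusion_injective hP)

theorem parab_solvable {T P : Subgroup G} (hP : Frame T P) : Group.IsSolvable P := by
  haveI := H.nontrivial
  exact H.solvable_le (core_isPGroup P) hP.core_ne_bot (le_normalizer_core P)

/-- The two kinds of parabolics. -/
theorem cases {T P : Subgroup G} (hP : Parab T P) :
    (∃ x, Half T P x) ∨ ∃ A e, FreePar T P A e := by
  haveI := H.parab_solvable hP.toFrame
  exact (top_cases H.thirteen hP).imp id fun ⟨A, e, h⟩ => ⟨A, e, H.thirteen, hP, h⟩

theorem common_mixed (S : Sylow 2 G) {P1 P2 : Subgroup G} {x : G} {A : Subgroup (P2 ⧸ pCore 2 P2)}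
    {e : P2 ⧸ pCore 2 P2} (h1 : Half (S : Subgroup G) P1 x) (h2 : FreePar (S : Subgroup G) P2 A e) :
    ∃ N : Subgroup G, N ≠ ⊥ ∧ N ≤ (S : Subgroup G) ∧ P1 ≤ Subgroup.normalizer (N : Set G) ∧
      P2 ≤ Subgroup.normalizer (N : Set G) := by
  haveI := H.nontrivial
  by_cases hJ : P1 ≤ Subgroup.normalizer (jFull (S : Subgroup G) : Set G)
  · exact ⟨_, jFull_ne_bot S.isPGroup' (H.sylow_ne_bot S), jFull_le, hJ, h2.le_normalizer_jFull⟩
  by_cases hV : P1 ≤ Subgroup.normalizer (centralInvol (pCoreOf 2 P2) : Set G)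
  · refine ⟨_, centralInvol_ne_bot (core_isPGroup P2) h2.parab.toFrame.core_ne_bot,
      fun v hv => h2.parab.core_le_T hv.1, hV, fun g hg => ?_⟩
    refine mem_normalizer_of_cj_le fun v hv => ?_
    have hn := le_normalizer_core P2 hg
    refine ⟨(Subgroup.mem_normalizer_iff.mp hn v).mp hv.1, ?_, fun q hq => ?_⟩
    · calc g * v * g⁻¹ * (g * v * g⁻¹) = g * (v * v) * g⁻¹ := by group
        _ = 1 := by rw [hv.2.1]; group
    · have hq' : g⁻¹ * q * g ∈ pCoreOf 2 P2 :=
        (Subgroup.mem_normalizer_iff.mp hn (g⁻¹ * q * g)).mpr (by simpa [mul_assoc] using hq)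
      calc g * v * g⁻¹ * q = g * (v * (g⁻¹ * q * g)) * g⁻¹ := by group
        _ = g * ((g⁻¹ * q * g) * v) * g⁻¹ := by rw [hv.2.2 _ hq']
        _ = q * (g * v * g⁻¹) := by group
  exact (h2.mixed h1 hJ hV).elim

/-- **Two parabolics with different cores have a common nontrivial normal 2-subgroup.** -/
theorem common (S : Sylow 2 G) {P P' : Subgroup G} (hP : Parab (S : Subgroup G) P)
    (hP' : Parab (S : Subgroup G) P') (hne : pCoreOf 2 P' ≠ pCoreOf 2 P) :
    ∃ N : Subgroup G, N ≠ ⊥ ∧ N ≤ (S : Subgroup G) ∧ P ≤ Subgroup.normalizer (N : Set G) ∧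
      P' ≤ Subgroup.normalizer (N : Set G) := by
  haveI := H.nontrivial
  rcases H.cases hP with ⟨x, hx⟩ | ⟨A, e, hf⟩ <;> rcases H.cases hP' with ⟨x', hx'⟩ | ⟨A', e', hf'⟩
  rotate_left
  · exact H.common_mixed S hx hf'
  · obtain ⟨N, a, b, c, d⟩ := H.common_mixed S hx' hf
    exact ⟨N, a, b, d, c⟩
  · exact ⟨_, jFull_ne_bot S.isPGroup' (H.sylow_ne_bot S), jFull_le, hf.le_normalizer_jFull,
      hf'.le_normalizer_jFull⟩
  by_contra hno
  have hcore : ∀ N : Subgroup G, N ≤ (S : Subgroup G) → P ≤ Subgroup.normalizer (N : Set G) →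
      P' ≤ Subgroup.normalizer (N : Set G) → N = ⊥ := fun N h1 h2 h3 =>
    by_contra fun hN => hno ⟨N, hN, h1, h2, h3⟩
  have hinf : P ⊓ P' = (S : Subgroup G) := by
    have hle : (S : Subgroup G) ≤ P ⊓ P' := le_inf hP.le hP'.le
    have h1 := Subgroup.relIndex_mul_relIndex (S : Subgroup G) (P ⊓ P') P hle inf_le_left
    have h2 := hP.toFrame.relIndex_eq
    rw [hx.index, hx.idx] at h2
    have h3 : (S : Subgroup G).relIndex P = 3 := by omega
    rw [h3] at h1
    rcases (Nat.dvd_prime Nat.prime_three).mp (Dvd.intro _ h1) with e | e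
    · exact le_antisymm (Subgroup.relIndex_eq_one.mp e) hle
    · exfalso
      rw [e] at h1
      have hPP' : P ≤ P' := (Subgroup.relIndex_eq_one.mp (by omega : (P ⊓ P').relIndex P = 1)).trans inf_le_right
      have hcard : Nat.card P' ≤ Nat.card P := by
        rw [← core_card_mul P, ← core_card_mul P', hx.index, hx'.index]
        have h4 := hx.card_two
        have h5 := hx'.card_two
        omega
      exact hne (by rw [Subgroup.eq_of_le_of_card_ge hPP' hcard])
  set Z := omegaCenterOf (S : Subgroup G) with hZ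
  have hZn : ∀ P0 : Subgroup G, P0 ≤ Subgroup.centralizer (Z : Set G) →
      P0 ≤ Subgroup.normalizer (Z : Set G) := fun P0 h0 g hg =>
    CfsgLib.JComp.mem_normalizer_of_conj_mem fun v hv => by
      rw [← Subgroup.mem_centralizer_iff.mp (h0 hg) v hv, mul_inv_cancel_right]
      exact hv
  by_cases hf : P ≤ Subgroup.centralizer (Z : Set G) <;> by_cases hf' : P' ≤ Subgroup.centralizer (Z : Set G)
  · refine hno ⟨Z, ?_, ?_, hZn P hf, hZn P' hf'⟩
    · rw [hZ, omegaCenterOf_eq]; exact centralInvol_ne_bot S.isPGroup' (H.sylow_ne_bot S)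
    · rw [hZ, omegaCenterOf_eq]; exact fun v hv => hv.1
  · exact H.sylow_rank S (sectional_of_center_amalgam H.thirteen hx' hx (by rw [inf_comm]; exact hinf)
      (fun N h1 h2 h3 => hcore N h1 h3 h2) hf)
  · exact H.sylow_rank S (sectional_of_center_amalgam H.thirteen hx hx' hinf hcore hf')
  · exact (H.sylow_card S).not_ge (movers_card hx hx' hinf hcore hf hf')

end Hyp

end CfsgLib.SpecThirteen
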