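import Cfsg.Agent.Lib.SpecThirteen.Basic
import Cfsg.Agent.S0482
import Cfsg.Agent.S0222
import Cfsg.Agent.S0280
import Cfsg.Agent.S0517
import Cfsg.Agent.S0205
import Cfsg.Agent.Lib.MaxSub.SLThree.Tools

/-!
Element orders in `{1, 2, 3, 4, 6, 8, 13}`: the lists of simple groups, cut down to `PSL₃(3)`.
-/

set_option autoImplicit false
set_option linter.unusedSectionVars false
set_option linter.style.haveILetI false

namespace CfsgLib.SpecThirteen

universe u

/-- A number with a single allowed prime factor is a power of it. -/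
theorem pow_of_only {n r : ℕ} (hn : n ≠ 0) (h : ∀ s : ℕ, s.Prime → s ∣ n → s = r) : ∃ k, n = r ^ k :=
  ⟨_, Nat.eq_prime_pow_of_unique_prime_dvd hn fun {s} hs hd => h s hs hd⟩

theorem four_pow_seven (n : ℕ) (h : 4 ^ n % 13 = 1) : 4 ^ n % 7 = 1 := by
  have e : 4 ^ n = (4 ^ 6) ^ (n / 6) * 4 ^ (n % 6) := by rw [← pow_mul, ← pow_add, Nat.div_add_mod]
  have hm := Nat.mod_lt n (show 0 < 6 by norm_num)
  rw [e, Nat.mul_mod, Nat.pow_mod] at h
  rw [e, Nat.mul_mod, Nat.pow_mod]
  generalize n % 6 = j at h hm ⊢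
  generalize n / 6 = i at h ⊢
  interval_cases j <;> simp [Nat.pow_mod] at h ⊢

theorem three_pow_mod_thirteen : ∀ n : ℕ, 3 ^ n % 13 = 1 ∨ 3 ^ n % 13 = 3 ∨ 3 ^ n % 13 = 9
  | 0 => Or.inl rfl
  | n + 1 => by
    rw [pow_succ, Nat.mul_mod]
    rcases three_pow_mod_thirteen n with r | r | r <;> rw [r] <;> simp

theorem three_pow_mod_eight : ∀ n : ℕ, 3 ^ n % 8 = 1 ∨ 3 ^ n % 8 = 3
  | 0 => Or.inl rfl
  | n + 1 => by
    rw [pow_succ, Nat.mul_mod]
    rcases three_pow_mod_eight n with r | r <;> rw [r] <;> simp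

/-- A prime power `q` with `q (q² - 1)` free of primes other than `2`, `3`, `13` is two or three. -/
theorem two_or_three {p n : ℕ} (hp : p.Prime) (hn : 1 ≤ n)
    (h : ∀ r : ℕ, r.Prime → r ∣ p ^ n * ((p ^ n) ^ 2 - 1) → r = 2 ∨ r = 3 ∨ r = 13) :
    p ^ n = 2 ∨ p ^ n = 3 := by
  have hp' := h p hp (dvd_mul_of_dvd_left (dvd_pow_self p (by omega)) _)
  have hsq : (p ^ n) ^ 2 - 1 = (p ^ n + 1) * (p ^ n - 1) := by
    simpa using Nat.sq_sub_sq (p ^ n) 1
  have h1 : 2 ≤ p ^ n := le_trans hp.two_le (Nat.le_self_pow (by omega) p)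
  have hdiv : ∀ r : ℕ, r.Prime → (r ∣ p ^ n + 1 ∨ r ∣ p ^ n - 1) → r = 2 ∨ r = 3 ∨ r = 13 := fun r hr hd =>
    h r hr (by rw [hsq]; exact dvd_mul_of_dvd_right (hd.elim (fun d => d.mul_right _) fun d => d.mul_left _) _)
  rcases hp' with rfl | rfl | rfl
  · left
    have h2 : 2 ∣ 2 ^ n := dvd_pow_self 2 (by omega)
    by_cases h13 : 4 ^ n % 13 = 1
    · exfalso
      have h7 := four_pow_seven n h13
      have := h 7 (by norm_num) (dvd_mul_of_dvd_right (Nat.dvd_of_mod_eq_zero (by
        rw [← pow_mul, mul_comm, pow_mul, show (2 : ℕ) ^ 2 = 4 from rfl]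
        have : 1 ≤ 4 ^ n := Nat.one_le_pow _ _ (by norm_num)
        omega)) _)
      omega
    have key : ∀ m, (m = 2 ^ n + 1 ∨ m = 2 ^ n - 1) → ∃ k, m = 3 ^ k := fun m hm => by
      refine pow_of_only (by omega) fun r hr hd => ?_
      rcases hdiv r hr (hm.imp (fun (e : m = 2 ^ n + 1) => e ▸ hd) fun (e : m = 2 ^ n - 1) => e ▸ hd) with e | e | e
      · subst e; omega
      · exact e
      · subst e
        exfalso
        refine h13 ?_
        have hd' : 13 ∣ (2 ^ n) ^ 2 - 1 := by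
          rw [hsq]; rcases hm with e | e <;> rw [e] at hd
          · exact hd.mul_right _
          · exact hd.mul_left _
        rw [← pow_mul, mul_comm, pow_mul, show (2 : ℕ) ^ 2 = 4 from rfl] at hd'
        have : 1 ≤ 4 ^ n := Nat.one_le_pow _ _ (by norm_num)
        omega
    obtain ⟨i, hi⟩ := key _ (Or.inl rfl)
    obtain ⟨j, hj⟩ := key _ (Or.inr rfl)
    rcases j with _ | j
    · omega
    rcases i with _ | i
    · omega
    rw [pow_succ] at hi hj
    omega
  · right
    by_contra hne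
    have hn2 : 2 ≤ n := by
      rcases n with _ | _ | n
      · omega
      · exact absurd (pow_one 3) hne
      · omega
    have h9 : 3 ^ 2 ≤ 3 ^ n := Nat.pow_le_pow_right (by norm_num) hn2
    obtain ⟨k, hk⟩ := pow_of_only (n := 3 ^ n + 1) (r := 2) (by omega) fun r hr hd => by
      rcases hdiv r hr (Or.inl hd) with e | e | e
      · exact e
      · subst e
        have : 3 ∣ 3 ^ n := dvd_pow_self 3 (by omega)
        omega
      · subst e
        rcases three_pow_mod_thirteen n with r | r | r <;> omega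
    rcases k with _ | _ | _ | k
    · omega
    · omega
    · omega
    rw [show 2 ^ (k + 1 + 1 + 1) = 8 * 2 ^ k by ring] at hk
    rcases three_pow_mod_eight n with r | r <;> omega
  · exfalso
    have h7 : 169 ^ n % 7 = 1 := by rw [Nat.pow_mod]; norm_num
    have := h 7 (by norm_num) (dvd_mul_of_dvd_right (Nat.dvd_of_mod_eq_zero (by
      rw [← pow_mul, mul_comm, pow_mul, show (13 : ℕ) ^ 2 = 169 from rfl]
      have : 1 ≤ 169 ^ n := Nat.one_le_pow _ _ (by norm_num)
      omega)) _)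
    omega

variable {G : Type u} [Group G] [Finite G]

/-- The only primes. -/
theorem Thirteen.no_prime (h : Thirteen G) {r : ℕ} (hr : r.Prime) (hne : r ≠ 2 ∧ r ≠ 3 ∧ r ≠ 13) :
    ¬ r ∣ Nat.card G := fun hd => by
  rcases h.prime_cases hr hd with e | e | e
  · exact hne.1 e
  · exact hne.2.1 e
  · exact hne.2.2 e

/-- A prime dividing a small multiple of the order. -/
theorem Thirteen.prime_of_mul (h : Thirteen G) {r d m : ℕ} (hr : r.Prime) (hd : d * Nat.card G = m)
    (hrm : r ∣ m) (hd3 : 0 < d ∧ d ≤ 3) : r = 2 ∨ r = 3 ∨ r = 13 := by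
  rcases (Nat.Prime.dvd_mul hr).mp (hd ▸ hrm) with hh | hh
  · have := Nat.le_of_dvd hd3.1 hh
    have := hr.two_le
    omega
  · exact h.prime_cases hr hh

/-- A field whose order `q` gives no other prime has two or three elements. -/
theorem field_two_or_three {F : Type} [Field F] [Fintype F]
    (h : ∀ r : ℕ, r.Prime → r ∣ Fintype.card F * (Fintype.card F ^ 2 - 1) → r = 2 ∨ r = 3 ∨ r = 13) :
    Fintype.card F = 2 ∨ Fintype.card F = 3 := by
  obtain ⟨p, hp⟩ := CharP.exists F
  obtain ⟨f, hpp, hq⟩ := FiniteField.card F p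
  rw [hq] at h ⊢
  exact two_or_three hpp f.pos h

theorem Thirteen.not_psl_two (h : Thirteen G) {F : Type} [Field F] [Fintype F] (hq : 4 ≤ Fintype.card F)
    (e : G ≃* Matrix.ProjectiveSpecialLinearGroup (Fin 2) F) : False := by
  have hc := SLCard.gcd_mul_card_PSL (F := F) (n := 2) (by norm_num)
  rw [SLCard.card_SL_two, ← Nat.card_congr e.toEquiv] at hc
  have := field_two_or_three (F := F) fun r hr hd => h.prime_of_mul hr hc hd
    ⟨Nat.gcd_pos_of_pos_left _ (by norm_num), (Nat.le_of_dvd (by norm_num) (Nat.gcd_dvd_left _ _)).trans (by norm_num)⟩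
  omega

theorem Thirteen.psl_three (h : Thirteen G) {F : Type} [Field F] [Fintype F] (hodd : Odd (Fintype.card F))
    (e : G ≃* Matrix.ProjectiveSpecialLinearGroup (Fin 3) F) : Fintype.card F = 3 := by
  have hc := SLCard.gcd_mul_card_PSL (F := F) (n := 3) (by norm_num)
  rw [MaxSub.SLThree.card_SL_three, ← Nat.card_congr e.toEquiv] at hc
  refine (field_two_or_three (F := F) fun r hr hd => h.prime_of_mul hr hc (hd.trans ?_)
    ⟨Nat.gcd_pos_of_pos_left _ (by norm_num), Nat.le_of_dvd (by norm_num) (Nat.gcd_dvd_left _ _)⟩).resolve_left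
    fun e2 => by rw [e2] at hodd; exact absurd hodd (by decide)
  exact (mul_dvd_mul (dvd_pow_self _ (by norm_num : 3 ≠ 0)) dvd_rfl).mul_right _

/-- Three times three and the unitary groups. -/
theorem Thirteen.not_psu_three (h : Thirteen G) {F : Type} [Field F] [Fintype F] {q : ℕ}
    (hF : Fintype.card F = q ^ 2) (hq : 3 ≤ q) (e : G ≃* Cfsg.PSU 3 F q) : False := by
  have hc := Cfsg.Agent.S0280.result hF 3 (by norm_num)
  rw [Finset.prod_range_succ, Finset.prod_range_succ, Finset.prod_range_succ, Finset.prod_range_zero] at hc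
  rw [if_pos (by decide), if_neg (by decide), if_pos (by decide), ← Nat.card_congr e.toEquiv] at hc
  have hc' : Nat.gcd 3 (q + 1) * Nat.card G = q ^ 3 * (q ^ 2 - 1) * (q ^ 3 + 1) := by
    refine Nat.eq_of_mul_eq_mul_left (by omega : 0 < q + 1) ?_
    simp only [Nat.reduceAdd, Nat.reduceMul, Nat.reduceSub, Nat.reduceDiv, zero_add, pow_one, one_mul] at hc
    calc (q + 1) * (Nat.gcd 3 (q + 1) * Nat.card G) = Nat.gcd 3 (q + 1) * ((q + 1) * Nat.card G) := by ring
      _ = _ := by rw [hc]; ring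
  have hd3 : 0 < Nat.gcd 3 (q + 1) ∧ Nat.gcd 3 (q + 1) ≤ 3 :=
    ⟨Nat.gcd_pos_of_pos_left _ (by norm_num), Nat.le_of_dvd (by norm_num) (Nat.gcd_dvd_left _ _)⟩
  obtain ⟨p, hp⟩ := CharP.exists F
  obtain ⟨f, hpp, hf⟩ := FiniteField.card F p
  rw [hF] at hf
  obtain ⟨k, -, rfl⟩ := (Nat.dvd_prime_pow hpp).mp (hf ▸ dvd_pow_self q (by norm_num) : q ∣ p ^ (f : ℕ))
  have hk : 1 ≤ k := by
    rcases k with _ | k
    · simp at hq
    · omega
  have hq3 : p ^ k = 3 := (two_or_three hpp hk fun r hr hd => h.prime_of_mul hr hc'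
    ((hd.trans (mul_dvd_mul (dvd_pow_self _ (by norm_num : 3 ≠ 0)) dvd_rfl)).mul_right _) hd3).resolve_left (by omega)
  rw [hq3] at hc'
  have := h.prime_of_mul (r := 7) (by norm_num) hc' (by norm_num) (by norm_num)
  omega

theorem Thirteen.not_suzuki (h : Thirteen G) (hS : Cfsg.IsSuzuki G) : False := by
  obtain ⟨-, m, -, hc⟩ := hS
  refine h.no_prime (r := 5) (by norm_num) (by norm_num) (hc ▸ ((Dvd.dvd.mul_left ?_ _).mul_right _))
  have e : (2 ^ (2 * m + 1)) ^ 2 = 4 * 16 ^ m := by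
    rw [← pow_mul, show (2 * m + 1) * 2 = 4 * m + 2 by ring, pow_add, pow_mul]; ring
  rw [e]
  have : 16 ^ m % 5 = 1 := by rw [Nat.pow_mod]; norm_num
  omega

theorem Thirteen.no_rank_list (h : Thirteen G) [IsSimpleGroup G] (hG : ¬ IsMulCommutative G)
    (hr : Cfsg.PRankLE 2 2 G) :
    ∃ (F : Type) (_ : Field F) (_ : Fintype F), Fintype.card F = 3 ∧
      Nonempty (G ≃* Matrix.ProjectiveSpecialLinearGroup (Fin 3) F) := by
  rcases Cfsg.Agent.S0482.result hG hr with ⟨F, _, _, -, h5, ⟨e⟩⟩ | ⟨F, iF, iT, ho, ⟨e⟩⟩ |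
    ⟨F, _, _, q, hq, ho, ⟨e⟩⟩ | ⟨F, _, _, hq, ⟨e⟩⟩ | ⟨⟨e⟩⟩ | hM
  · exact (h.not_psl_two (by omega) e).elim
  · exact ⟨F, iF, iT, h.psl_three ho e, ⟨e⟩⟩
  · refine (h.not_psu_three hq ?_ e).elim
    have := Fintype.one_lt_card (α := F)
    obtain ⟨k, hk⟩ := ho
    rcases k with _ | k
    · rw [hk] at hq; norm_num at hq; omega
    · omega
  · exact (h.not_psu_three (q := 4) (by rw [hq]; rfl) (by norm_num) e).elim
  · refine (h.no_prime (r := 7) (by norm_num) (by norm_num) ?_).elim
    rw [Nat.card_congr e.toEquiv, nat_card_alternatingGroup, Nat.card_fin]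
    decide
  · exact (h.no_prime (r := 11) (by norm_num) (by norm_num) (hM.2 ▸ by norm_num)).elim

theorem Thirteen.no_strongly_embedded (h : Thirteen G) [IsSimpleGroup G] (hG : ¬ IsMulCommutative G)
    {H : Subgroup G} (hH : Cfsg.IsStronglyEmbedded H) : False := by
  have hna : ∃ a b : G, a * b ≠ b * a := by
    by_contra hc
    push Not at hc
    exact hG ⟨⟨hc⟩⟩
  rcases Cfsg.Agent.S0222.result hna H hH with ⟨F, _, _, -, h4, ⟨e⟩⟩ | hS | ⟨F, _, _, q, hq, -, h4, ⟨e⟩⟩
  · exact h.not_psl_two h4 e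
  · exact h.not_suzuki hS
  · exact h.not_psu_three hq (by omega) e

/-- A simple group of sectional 2-rank at most four with solvable 2-local subgroups is `PSL₃(3)`. -/
theorem Thirteen.sectional_list (h : Thirteen G) [IsSimpleGroup G] (hG : ¬ IsMulCommutative G)
    (h4 : Cfsg.SectionalPRankLE 2 4 G) (hL : ∀ N : Subgroup G, Cfsg.IsTwoLocal N → Group.IsSolvable N) :
    ∃ (F : Type) (_ : Field F) (_ : Fintype F), Fintype.card F = 3 ∧
      Nonempty (G ≃* Matrix.ProjectiveSpecialLinearGroup (Fin 3) F) := by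
  have hns : ¬ Group.IsSolvable G := fun hs => hG ⟨⟨IsSimpleGroup.comm_iff_isSolvable.mpr hs⟩⟩
  have hD : commutator G = ⊤ := (IsSimpleGroup.eq_bot_or_eq_top_of_normal _ inferInstance).resolve_left fun e =>
    hns (Group.isSolvable_of_comm fun a b => (commutatorElement_eq_one_iff_mul_comm).mp (Subgroup.mem_bot.mp
      (e ▸ (commutator_def G).ge (Subgroup.commutator_mem_commutator (Subgroup.mem_top a) (Subgroup.mem_top b)))))
  have hO : Cfsg.oddCore ↥(commutator G) = ⊥ := by
    let i : ↥(commutator G) ≃* G := (MulEquiv.subgroupCongr hD).trans Subgroup.topEquiv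
    haveI : IsSimpleGroup ↥(commutator G) :=
      { exists_pair_ne := i.toEquiv.nontrivial.exists_pair_ne
        eq_bot_or_eq_top_of_normal := fun H hH => by
          rcases IsSimpleGroup.eq_bot_or_eq_top_of_normal (H.map i.toMonoidHom)
              (hH.map _ i.surjective) with e | e
          · exact Or.inl ((Subgroup.map_eq_bot_iff_of_injective _ i.injective).mp e)
          · exact Or.inr (Subgroup.map_injective i.injective
              (e.trans (Subgroup.map_top_of_surjective _ i.surjective).symm)) }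
    refine (IsSimpleGroup.eq_bot_or_eq_top_of_normal _ inferInstance).resolve_right fun e => hns ?_
    haveI : Group.IsSolvable ↥(commutator G) := by
      refine Cfsg.Agent.S0205.result ?_
      have := CfsgLib.odd_card_oddCore (G := ↥(commutator G))
      rwa [e, Subgroup.card_top] at this
    exact Group.isSolvable_of_isSolvable_injective (f := i.symm.toMonoidHom) i.symm.injective
  let j : G ≃* ↥(commutator G) ⧸ Cfsg.oddCore ↥(commutator G) :=
    ((MulEquiv.subgroupCongr hD).trans Subgroup.topEquiv).symm.trans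
      (((QuotientGroup.quotientMulEquivOfEq hO).trans QuotientGroup.quotientBot).symm)
  rcases Cfsg.Agent.S0517.result hns h4 hL with ⟨F, _, _, hF, ⟨e⟩⟩ | ⟨F, iF, iT, hF, ⟨e⟩⟩ |
    ⟨F, _, _, q, hq, hq34, ⟨e⟩⟩ | ⟨⟨e⟩⟩ | ⟨-, hc⟩
  · refine (h.not_psl_two ?_ (j.trans e)).elim
    by_contra hlt
    have h1 := Fintype.one_lt_card (α := F)
    have hodd : Odd (Fintype.card F) := hF.resolve_right (by omega)
    have h3 : Fintype.card F = 3 := by
      obtain ⟨k, hk⟩ := hodd
      omega
    have hc := SLCard.gcd_mul_card_PSL (F := F) (n := 2) (by norm_num)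
    rw [SLCard.card_SL_two, ← Nat.card_congr (j.trans e).toEquiv, h3] at hc
    norm_num at hc
    refine hns (CfsgLib.CharTheory.isSolvable_of_card_two_primes Nat.prime_two Nat.prime_three
      (a := 2) (b := 1) ?_)
    omega
  · exact ⟨F, iF, iT, hF, ⟨j.trans e⟩⟩
  · exact (h.not_psu_three hq (by omega) (j.trans e)).elim
  · refine (h.no_prime (r := 7) (by norm_num) (by norm_num) ?_).elim
    rw [Nat.card_congr (j.trans e).toEquiv, nat_card_alternatingGroup, Nat.card_fin]
    decide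
  · refine (h.no_prime (r := 5) (by norm_num) (by norm_num) ?_).elim
    rw [Nat.card_congr j.toEquiv]
    rcases hc with hc | hc <;> rw [hc] <;> norm_num

end CfsgLib.SpecThirteen
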