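import Cfsg.Agent.Lib.SpecThirteen.TopShape
import Cfsg.Agent.Lib.SpecSix.Local
import Cfsg.Agent.Lib.SpecSix.Parabolic

/-!
Element orders in `{1, 2, 3, 4, 6, 8, 13}`: the top of a solvable minimal parabolic is `S₃`, or has a unique
involution, which acts fixed point freely on its odd core.
-/

set_option autoImplicit false
set_option linter.unusedSectionVars false
set_option linter.style.haveILetI false

namespace CfsgLib.SpecThirteen

open Finset Cfsg
open scoped Pointwise

universe u w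

/-- A Sylow 2-subgroup `T` with a single involution `e`, normalising an abelian subgroup `A` of odd order in which
`e` fixes nothing; either `A` contains an element of order thirteen, or `A` has exponent three and `T` an element
squaring to `e`. -/
structure Free {X : Type u} [Group X] (T A : Subgroup X) (e : X) : Prop where
  ab : ∀ x ∈ A, ∀ y ∈ A, x * y = y * x
  ne : A ≠ ⊥
  odd : Odd (Nat.card A)
  norm : A.Normal
  gen : A ⊔ T = ⊤
  mem : e ∈ T
  sq : e * e = 1
  ne_one : e ≠ 1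
  unique : ∀ t ∈ T, t * t = 1 → t = 1 ∨ t = e
  free : ∀ x ∈ A, Commute x e → x = 1
  pow_four : ∀ t ∈ T, t ^ 4 = 1
  kind : (∃ u ∈ A, orderOf u = 13) ∨ (ThreeCore A ∧ ∃ s ∈ T, s * s = e)

variable {X : Type u} [Group X] [Finite X] {V : Type w} [AddCommGroup V] (a : Act X V)
include a

omit a in
/-- A nontrivial 2-group has a central involution. -/
theorem exists_central_invol {T : Subgroup X} (hT : IsPGroup 2 T) (hT1 : T ≠ ⊥) :
    ∃ e ∈ T, e * e = 1 ∧ e ≠ 1 ∧ ∀ t ∈ T, Commute t e := by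
  haveI : Fact (Nat.Prime 2) := ⟨Nat.prime_two⟩
  haveI : Nontrivial T := T.nontrivial_iff_ne_bot.mpr hT1
  haveI := hT.center_nontrivial
  obtain ⟨n, hn, hc⟩ := (hT.to_subgroup (Subgroup.center T)).nontrivial_iff_card.mp inferInstance
  obtain ⟨e, he⟩ := exists_prime_orderOf_dvd_card' (G := Subgroup.center T) 2 (hc ▸ dvd_pow_self 2 hn.ne')
  have he2 : e ^ 2 = 1 := he ▸ pow_orderOf_eq_one e
  refine ⟨((e : T) : X), (e : T).2, ?_, fun h1 => ?_, fun t ht => ?_⟩
  · rw [← pow_two]; exact congrArg (fun z : Subgroup.center T => ((z : T) : X)) he2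
  · rw [show e = 1 from Subtype.ext (Subtype.ext h1), orderOf_one] at he; omega
  · exact congrArg Subtype.val (Subgroup.mem_center_iff.mp e.2 ⟨t, ht⟩)

variable {T : Subgroup X} {M : Subgroup X}

omit a in
/-- A normal subgroup whose product with the Sylow subgroup is normal is a complement to it. -/
theorem sup_top_of_normal (hT2 : IsPGroup 2 T) (hodd : ¬ 2 ∣ T.index) (hM : M ≠ ⊤)
    (hMu : ∀ H : Subgroup X, T ≤ H → H ≠ ⊤ → H ≤ M) (hTn : ¬ T.Normal) {A : Subgroup X}
    (hN : (A ⊔ T).Normal) : A ⊔ T = ⊤ := by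
  haveI : Fact (Nat.Prime 2) := ⟨Nat.prime_two⟩
  by_contra hne
  set N := A ⊔ T with hNd
  haveI := hN
  have hTN : T ≤ N := le_sup_right
  have hrel : ¬ 2 ∣ T.relIndex N := fun hd => hodd (hd.trans (Dvd.intro _ (Subgroup.relIndex_mul_index hTN)))
  let P : Sylow 2 N :=
    (hT2.comap_of_injective N.subtype N.subtype_injective : IsPGroup 2 (T.subgroupOf N)).toSylow hrel
  have hPmap : (P : Subgroup N).map N.subtype = T := Subgroup.map_subgroupOf_eq_of_le hTN
  have hfr := Sylow.normalizer_sup_eq_top P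
  rw [hPmap] at hfr
  have hNT : Subgroup.normalizer (T : Set X) ≠ ⊤ := fun e => hTn (Subgroup.normalizer_eq_top_iff.mp e)
  exact hM (top_le_iff.mp (hfr ▸ sup_le (hMu _ Subgroup.le_normalizer hNT) (hMu _ hTN hne)))

/-- With a 3-core containing its centraliser, the top is the 3-core times the Sylow 2-subgroup. -/
theorem Act.sup_top_three [Group.IsSolvable X] (hR : ThreeCore (pCore 3 X)) (h13 : ¬ 13 ∣ Nat.card X)
    (hO : pCore 2 X = ⊥) (hT2 : IsPGroup 2 T) (hodd : ¬ 2 ∣ T.index) (hM : M ≠ ⊤)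
    (hMu : ∀ H : Subgroup X, T ≤ H → H ≠ ⊤ → H ≤ M) : pCore 3 X ⊔ T = ⊤ := by
  haveI : Fact (Nat.Prime 2) := ⟨Nat.prime_two⟩
  haveI : Fact (Nat.Prime 3) := ⟨Nat.prime_three⟩
  set R := pCore 3 X with hRd
  haveI : R.Normal := hR.normal
  by_contra hne
  set N := (pCore 2 (X ⧸ R)).comap (QuotientGroup.mk' R) with hN
  haveI : N.Normal := by rw [hN]; infer_instance
  have hrel : ¬ 2 ∣ T.relIndex N := fun hd => hodd (hd.trans (by
    have h1 := CfsgLib.JComp.card_sup_mul_card_inf (A := T) (B := N)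
      (by rw [Subgroup.normalizer_eq_top]; exact le_top)
    have h2 := CfsgLib.Products.card_mul_relIndex_of_le (le_sup_left : T ≤ T ⊔ N)
    have h3 := CfsgLib.Products.card_inf_mul_relIndex T N
    have e : T.relIndex N = T.relIndex (T ⊔ N) := by
      rw [← h2, ← h3, mul_assoc] at h1
      have h1' := Nat.eq_of_mul_eq_mul_left Nat.card_pos h1
      rw [mul_comm] at h1'
      exact (Nat.eq_of_mul_eq_mul_left Nat.card_pos h1').symm
    rw [e]
    exact Dvd.intro _ (Subgroup.relIndex_mul_index le_sup_left)))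
  let P : Sylow 2 N :=
    (hT2.comap_of_injective N.subtype N.subtype_injective : IsPGroup 2 (T.subgroupOf N)).toSylow hrel
  have hPmap : (P : Subgroup N).map N.subtype = T ⊓ N := Subgroup.subgroupOf_map_subtype T N
  have hfr := Sylow.normalizer_sup_eq_top P
  rw [hPmap] at hfr
  have hTn : T ≤ Subgroup.normalizer ((T ⊓ N : Subgroup X) : Set X) := fun s hs =>
    CfsgLib.JComp.mem_normalizer_of_conj_mem fun x hx =>
      ⟨T.mul_mem (T.mul_mem hs hx.1) (T.inv_mem hs), (inferInstance : N.Normal).conj_mem x hx.2 s⟩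
  have hRN : R ≤ N := fun r hr => by
    rw [hN, Subgroup.mem_comap, QuotientGroup.mk'_apply, (QuotientGroup.eq_one_iff r).mpr hr]; exact one_mem _
  have hNS : N ≤ R ⊔ T := by
    intro n hn
    have hd : ¬ 2 ∣ (R ⊔ T ⊓ N).relIndex N := fun hd => hrel (hd.trans (by
      rw [← Subgroup.inf_relIndex_right T N]
      exact Subgroup.relIndex_dvd_of_le_left N le_sup_right))
    obtain ⟨j, hj⟩ : ∃ j, (R ⊔ T ⊓ N).relIndex N = 2 ^ j := by
      have hdv : (R ⊔ T ⊓ N).relIndex N ∣ R.relIndex N := Subgroup.relIndex_dvd_of_le_left N le_sup_left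
      obtain ⟨i, hi⟩ := IsPGroup.iff_card.mp (CfsgLib.isPGroup_pCore (G := X ⧸ R) 2)
      have hcard : R.relIndex N = 2 ^ i := by
        have h1 := CfsgLib.Products.card_mul_relIndex_of_le hRN
        rw [hN, CfsgLib.card_comap_mk, hi] at h1
        exact Nat.eq_of_mul_eq_mul_left Nat.card_pos h1
      obtain ⟨j, -, hj⟩ := (Nat.dvd_prime_pow Nat.prime_two).mp (hcard ▸ hdv)
      exact ⟨j, hj⟩
    have hj0 : j = 0 := by
      by_contra hj0
      exact hd (hj ▸ dvd_pow_self 2 hj0)
    rw [hj0, pow_zero] at hj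
    exact (sup_le_sup_left inf_le_left R) (Subgroup.relIndex_eq_one.mp hj hn)
  have hNtop : Subgroup.normalizer ((T ⊓ N : Subgroup X) : Set X) = ⊤ := by
    by_contra hne'
    exact hM (top_le_iff.mp (hfr ▸ sup_le (hMu _ hTn hne') (hNS.trans (hMu _ le_sup_right hne))))
  haveI : (T ⊓ N).Normal := Subgroup.normalizer_eq_top_iff.mp hNtop
  have hTN : T ⊓ N = ⊥ := le_bot_iff.mp (hO ▸ CfsgLib.le_pCore (hT2.to_le inf_le_left))
  have hK2 : pCore 2 (X ⧸ R) = ⊥ := by
    obtain ⟨i, hi⟩ := IsPGroup.iff_card.mp (CfsgLib.isPGroup_pCore (G := X ⧸ R) 2)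
    have hd : ¬ 2 ∣ Nat.card N := by
      rw [← Subgroup.relIndex_bot_left, ← hTN, Subgroup.inf_relIndex_right]; exact hrel
    refine Subgroup.card_eq_one.mp ?_
    rw [hi]
    rcases Nat.eq_zero_or_pos i with rfl | hi0
    · rfl
    · refine absurd ?_ hd
      rw [hN, CfsgLib.card_comap_mk, hi]
      exact (dvd_pow_self 2 hi0.ne').mul_left _
  have hK3 : pCore 3 (X ⧸ R) = ⊥ := by
    have hp : IsPGroup 3 ((pCore 3 (X ⧸ R)).comap (QuotientGroup.mk' R)) := by
      refine (CfsgLib.isPGroup_pCore (G := X ⧸ R) 3).comap_of_ker_isPGroup _ ?_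
      rw [QuotientGroup.ker_mk']; exact hR.isPGroup
    have hle := CfsgLib.le_pCore hp
    refine (Subgroup.eq_bot_iff_forall _).mpr fun x hx => ?_
    obtain ⟨y, rfl⟩ := QuotientGroup.mk'_surjective R x
    exact (QuotientGroup.eq_one_iff y).mpr (hle hx)
  have hF : fittingSubgroup (X ⧸ R) = ⊥ := by
    rw [CfsgLib.fittingSubgroup_eq_iSup_pCore, eq_bot_iff]
    refine iSup_le fun q => ?_
    by_contra hne'
    rw [le_bot_iff] at hne'
    haveI := Fact.mk q.2
    obtain ⟨n, hn⟩ := IsPGroup.iff_card.mp (CfsgLib.isPGroup_pCore (G := X ⧸ R) (q : ℕ))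
    have hn0 : n ≠ 0 := fun e => hne' (Subgroup.card_eq_one.mp (by rw [hn, e, pow_zero]))
    have hqd : (q : ℕ) ∣ Nat.card (X ⧸ R) := (hn ▸ dvd_pow_self _ hn0).trans (Subgroup.card_subgroup_dvd_card _)
    rcases a.orders.prime_cases q.2 (hqd.trans (Subgroup.card_quotient_dvd_card R)) with e | e | e
    · exact hne' (e ▸ hK2)
    · exact hne' (e ▸ hK3)
    · exact h13 (e ▸ hqd.trans (Subgroup.card_quotient_dvd_card R))
  have htop : (⊤ : Subgroup (X ⧸ R)) ≤ ⊥ := by
    refine le_trans ?_ ((CfsgLib.centralizer_fitting_le (G := X ⧸ R)).trans hF.le)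
    rw [hF]
    intro x _ b hb
    rw [Subgroup.coe_bot, Set.mem_singleton_iff] at hb
    simp [hb]
  exact hne (top_le_iff.mp (le_trans (fun x _ => (QuotientGroup.eq_one_iff x).mp
    (Subgroup.mem_bot.mp (htop (Subgroup.mem_top _)))) le_sup_left))

/-- The top with a normal subgroup of order thirteen. -/
theorem Act.free_thirteen (hO : pCore 2 X = ⊥) {u : X} (hu : orderOf u = 13) (hn : (Subgroup.zpowers u).Normal)
    (hc : Subgroup.centralizer ({u} : Set X) ≤ Subgroup.zpowers u) (hT2 : IsPGroup 2 T) (hodd : ¬ 2 ∣ T.index)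
    (hM : M ≠ ⊤) (hMu : ∀ H : Subgroup X, T ≤ H → H ≠ ⊤ → H ≤ M) (hTn : ¬ T.Normal) :
    ∃ A e, Free T A e := by
  haveI : Fact (Nat.Prime 13) := ⟨by norm_num⟩
  set F := Subgroup.zpowers u with hF
  have hmem : ∀ {x : X}, Commute u x → x ∈ F := fun h => hc (Subgroup.mem_centralizer_singleton_iff.mpr h.eq.symm)
  have hu13 : u ^ 13 = 1 := hu ▸ pow_orderOf_eq_one u
  have hpow : ∀ x : X, ∃ k < 13, x * u * x⁻¹ = u ^ k := fun x => by
    classical
    obtain ⟨i, hi, hi'⟩ := Finset.mem_image.mp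
      (mem_zpowers_iff_mem_range_orderOf.mp (hn.conj_mem u (Subgroup.mem_zpowers u) x))
    exact ⟨i, by simpa [hu] using Finset.mem_range.mp hi, hi'.symm⟩
  -- the top modulo the subgroup of order thirteen is abelian
  have habel : ∀ x y : X, x * y * x⁻¹ * y⁻¹ ∈ F := fun x y => hmem (by
    obtain ⟨k, -, hk⟩ := hpow x
    obtain ⟨l, -, hl⟩ := hpow y
    have e1 : (x * y) * u * (x * y)⁻¹ = u ^ (k * l) := by
      calc (x * y) * u * (x * y)⁻¹ = x * (y * u * y⁻¹) * x⁻¹ := by group
        _ = _ := by rw [hl, ← conj_pow, hk, ← pow_mul]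
    have e2 : (y * x) * u * (y * x)⁻¹ = u ^ (k * l) := by
      calc (y * x) * u * (y * x)⁻¹ = y * (x * u * x⁻¹) * y⁻¹ := by group
        _ = _ := by rw [hk, ← conj_pow, hl, ← pow_mul, mul_comm]
    refine (mul_inv_eq_iff_eq_mul.mp ?_).symm
    calc x * y * x⁻¹ * y⁻¹ * u * (x * y * x⁻¹ * y⁻¹)⁻¹
        = (x * y) * ((y * x)⁻¹ * u * (y * x)) * (x * y)⁻¹ := by group
      _ = u := by
        obtain ⟨m, hm⟩ : ∃ m : ℕ, (y * x)⁻¹ * u * (y * x) = u ^ m := by
          obtain ⟨i, -, hi⟩ := hpow (y * x)⁻¹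
          exact ⟨i, by rw [← hi, inv_inv]⟩
        rw [hm, ← conj_pow, e1]
        calc (u ^ (k * l)) ^ m = ((y * x) * u * (y * x)⁻¹) ^ m := by rw [e2]
          _ = (y * x) * u ^ m * (y * x)⁻¹ := conj_pow
          _ = u := by rw [← hm]; group)
  haveI : F.Normal := hn
  have hN : (F ⊔ T).Normal := ⟨fun x hx g => by
    have e : g * x * g⁻¹ = (g * x * g⁻¹ * x⁻¹) * x := by group
    rw [e]; exact mul_mem (Subgroup.mem_sup_left (habel g x)) hx⟩
  have hgen := sup_top_of_normal hT2 hodd hM hMu hTn hN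
  have hT1 : T ≠ ⊥ := fun e => hTn (e ▸ inferInstance)
  obtain ⟨e, heT, hee, he1, -⟩ := exists_central_invol hT2 hT1
  have hfix : ∀ x ∈ F, ∀ t : X, t ^ 8 = 1 → Commute x t → x ≠ 1 → t = 1 := by
    intro x hx t ht hxt hx1
    have hxo : orderOf x = 13 := by
      obtain ⟨i, rfl⟩ := hx
      exact orderOf_eq_prime (by rw [← zpow_natCast (u ^ i), ← zpow_mul, mul_comm, zpow_mul, zpow_natCast, hu13, one_zpow]) hx1
    exact a.orders.thirteen_fixes hxo hxt (p := 2) (by norm_num) (k := 3) ht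
  -- an involution inverts, and a two-element has order dividing four
  have hpow8 : ∀ t ∈ T, t ^ 8 = 1 := fun t ht => a.orders.pgroup_pow_eight hT2 ht
  have hcent : ∀ t ∈ T, Commute u t → t = 1 := fun t ht hut =>
    hfix u (Subgroup.mem_zpowers u) t (hpow8 t ht) hut fun e' => by rw [e', orderOf_one] at hu; omega
  have hinv : ∀ t ∈ T, t * t = 1 → t ≠ 1 → t * u * t⁻¹ = u⁻¹ := by
    intro t ht htt ht1
    obtain ⟨k, hk, hku⟩ := hpow t
    have h2 : u ^ (k * k) = u ^ 1 := by
      rw [pow_mul, ← hku, conj_pow, ← hku, pow_one]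
      calc t * (t * u * t⁻¹) * t⁻¹ = (t * t) * u * (t * t)⁻¹ := by group
        _ = u := by rw [htt]; group
    rw [pow_eq_pow_iff_modEq, hu] at h2
    have hk2 : k = 1 ∨ k = 12 := by
      have : ∀ j < 13, j * j % 13 = 1 % 13 → j = 1 ∨ j = 12 := by decide
      exact this k hk h2
    rcases hk2 with rfl | rfl
    · exact absurd (hcent t ht (by rw [pow_one] at hku; exact (mul_inv_eq_iff_eq_mul.mp hku).symm)) ht1
    · rw [hku]
      exact eq_inv_of_mul_eq_one_left (by rw [← pow_succ, hu13])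
  refine ⟨F, e, ⟨?_, ?_, ?_, hn, hgen, heT, hee, he1, ?_, ?_, ?_, Or.inl ⟨u, Subgroup.mem_zpowers u, hu⟩⟩⟩
  · rintro _ ⟨i, rfl⟩ _ ⟨j, rfl⟩
    exact ((Commute.refl u).zpow_zpow i j).eq
  · intro e'
    have h1 := Subgroup.mem_zpowers u
    rw [← hF, e', Subgroup.mem_bot] at h1
    rw [h1, orderOf_one] at hu; omega
  · rw [hF, Nat.card_zpowers, hu]; decide
  · intro t ht htt
    by_contra hno
    push Not at hno
    have h1 := hinv t ht htt hno.1
    have h2 := hinv e heT hee he1
    have h3 : t * e = 1 := hcent _ (mul_mem ht heT) (by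
      refine (mul_inv_eq_iff_eq_mul.mp ?_).symm
      calc t * e * u * (t * e)⁻¹ = t * (e * u * e⁻¹) * t⁻¹ := by group
        _ = u := by rw [h2, ← conj_inv, h1, inv_inv])
    exact hno.2 ((eq_inv_of_mul_eq_one_left h3).trans (inv_eq_of_mul_eq_one_left hee))
  · intro x hx hxe
    by_contra hx1
    exact he1 (hfix x hx e (pow_eight_of_sq hee) hxe hx1)
  · intro t ht
    obtain ⟨k, hk, hku⟩ := hpow t
    have hj : ∀ j : ℕ, t ^ j * u * (t ^ j)⁻¹ = u ^ k ^ j := fun j => by
      induction j with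
      | zero => simp
      | succ j ih =>
        calc t ^ (j + 1) * u * (t ^ (j + 1))⁻¹ = t * (t ^ j * u * (t ^ j)⁻¹) * t⁻¹ := by rw [pow_succ']; group
          _ = u ^ k ^ (j + 1) := by rw [ih, ← conj_pow, hku, ← pow_mul, pow_succ']
    have h8 := hj 8
    rw [hpow8 t ht, one_mul, inv_one, mul_one] at h8
    nth_rewrite 1 [← pow_one u] at h8
    rw [pow_eq_pow_iff_modEq, hu] at h8
    have h4 : k ^ 4 % 13 = 1 % 13 := by
      have : ∀ j < 13, 1 % 13 = j ^ 8 % 13 → j ^ 4 % 13 = 1 % 13 := by decide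
      exact this k hk h8
    refine hcent _ (pow_mem ht 4) ((mul_inv_eq_iff_eq_mul.mp ?_).symm)
    rw [hj 4]
    nth_rewrite 2 [← pow_one u]
    rw [pow_eq_pow_iff_modEq, hu]
    exact h4

/-- The top with a self-centralising 3-core. -/
theorem Act.free_three {R : Subgroup X} (hR : ThreeCore R) (hgen : R ⊔ T = ⊤) (hT2 : IsPGroup 2 T) (hM : M ≠ ⊤)
    (hMu : ∀ H : Subgroup X, T ≤ H → H ≠ ⊤ → H ≤ M) (hT1 : T ≠ ⊥) (hTtop : T ≠ ⊤) :
    (Nat.card X = 6 ∧ ∃ y : X, ∃ e ∈ T, orderOf y = 3 ∧ e * e = 1 ∧ e ≠ 1 ∧ e * y * e⁻¹ = y⁻¹) ∨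
      ∃ A e, Free T A e := by
  haveI : Fact (Nat.Prime 3) := ⟨Nat.prime_three⟩
  haveI : Fact (Nat.Prime 2) := ⟨Nat.prime_two⟩
  haveI : R.Normal := hR.normal
  have hTM : T ≤ M := hMu T le_rfl hTtop
  have hRM : ¬ R ≤ M := fun hle => hM (top_le_iff.mp (hgen ▸ sup_le hle hTM))
  have hpow8 : ∀ t ∈ T, t ^ 8 = 1 := fun t ht => a.orders.pgroup_pow_eight hT2 ht
  have hcop : ∀ B : Subgroup X, B ≤ R → Disjoint B T := fun B hB =>
    IsPGroup.disjoint_of_coprime (hR.isPGroup.to_le hB) hT2 (by norm_num)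
  -- a subgroup normalised by the Sylow subgroup lies in the maximal subgroup or is the 3-core
  have hprop : ∀ B : Subgroup X, B ≤ R → (∀ t ∈ T, ∀ b ∈ B, t * b * t⁻¹ ∈ B) → B ≤ M ∨ B = R := by
    intro B hB hn
    by_cases htop : B ⊔ T = ⊤
    · refine Or.inr (le_antisymm hB fun r hr => ?_)
      have hTn : T ≤ Subgroup.normalizer (B : Set X) := fun t ht =>
        CfsgLib.JComp.mem_normalizer_of_conj_mem fun b hb => hn t ht b hb
      have hr' : r ∈ (B : Set X) * (T : Set X) := by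
        rw [← Subgroup.coe_mul_of_right_le_normalizer_left _ _ hTn, htop]; exact Subgroup.mem_top r
      obtain ⟨b, hb, t, ht, rfl⟩ := Set.mem_mul.mp hr'
      have htR : t ∈ R := by
        have := mul_mem (inv_mem (hB hb)) hr
        rwa [inv_mul_cancel_left] at this
      rwa [Subgroup.mem_bot.mp (disjoint_iff.mp (hcop R le_rfl) ▸ ⟨htR, ht⟩ : t ∈ (⊥ : Subgroup X)), mul_one]
    · exact Or.inl (le_sup_left.trans (hMu _ le_sup_right htop))
  obtain ⟨e, heT, hee, he1, hec⟩ := exists_central_invol hT2 hT1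
  have he8 := pow_eight_of_sq hee
  -- an element inverted by the central involution outside the maximal subgroup
  obtain ⟨f, hfR, hfe, hfM⟩ : ∃ f ∈ R, e * f * e⁻¹ = f⁻¹ ∧ f ∉ M := by
    by_contra hno
    push Not at hno
    rcases hprop (R ⊓ Subgroup.centralizer ({e} : Set X)) inf_le_left (fun t ht b hb => ⟨hR.conj t hb.1,
        Subgroup.mem_centralizer_singleton_iff.mpr (((hec t ht).mul_left
          (Subgroup.mem_centralizer_singleton_iff.mp hb.2)).mul_left (hec t ht).inv_left).eq⟩) with hle | heq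
    · refine hRM fun r hr => ?_
      obtain ⟨c, hc, i, hi, hce, hie, rfl⟩ := hR.split hee hr
      exact mul_mem (hle ⟨hc, Subgroup.mem_centralizer_singleton_iff.mpr hce.eq⟩) (hno i hi hie)
    · exact he1 (a.eq_one_of_central hR hee fun r hr =>
        Subgroup.mem_centralizer_singleton_iff.mp ((heq.ge hr).2))
  -- abelian subgroups inverted by the involution
  have hinvgen : ∀ B : Subgroup X, B ≤ R → (∀ t ∈ T, ∀ b ∈ B, t * b * t⁻¹ ∈ B) → f ∈ B →
      (∀ b ∈ B, e * b * e⁻¹ = b⁻¹) → ∀ c ∈ R, Commute c e → c = 1 := by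
    intro B hB hn hfB hinv c hc hce
    rcases hprop B hB hn with hle | heq
    · exact absurd (hle hfB) hfM
    · have h1 : e * c * e⁻¹ = c := by rw [← hce.eq, mul_inv_cancel_right]
      have h2 := hinv c (heq.ge hc)
      rw [h1] at h2
      have h3 := hR.three hc
      rwa [mul_eq_one_iff_eq_inv.mpr h2, one_mul] at h3
  have hinvab : (∀ x ∈ R, ∀ y ∈ R, x * y = y * x) → ∀ c ∈ R, Commute c e → c = 1 := by
    intro hab
    let B : Subgroup X :=
      { carrier := {b | b ∈ R ∧ e * b * e⁻¹ = b⁻¹}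
        one_mem' := ⟨one_mem _, by group⟩
        mul_mem' := fun {x y} hx hy => ⟨mul_mem hx.1 hy.1, by
          rw [show e * (x * y) * e⁻¹ = (e * x * e⁻¹) * (e * y * e⁻¹) by group, hx.2, hy.2,
            hab _ (inv_mem hx.1) _ (inv_mem hy.1), mul_inv_rev]⟩
        inv_mem' := fun {x} hx => ⟨inv_mem hx.1, by rw [← conj_inv, hx.2]⟩ }
    refine hinvgen B (fun b hb => hb.1) (fun t ht b hb => ⟨hR.conj t hb.1, ?_⟩) ⟨hfR, hfe⟩ fun b hb => hb.2
    calc e * (t * b * t⁻¹) * e⁻¹ = (e * t) * b * (e * t)⁻¹ := by group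
      _ = (t * e) * b * (t * e)⁻¹ := by rw [(hec t ht).eq]
      _ = t * (e * b * e⁻¹) * t⁻¹ := by group
      _ = _ := by rw [hb.2]; group
  -- there is no other involution
  have huniq : ∀ t ∈ T, t * t = 1 → t = 1 ∨ t = e := by
    intro t ht htt
    by_contra hno
    push Not at hno
    have hte : Commute e t := (hec t ht).symm
    have hab := a.abelian_of_four hR hee he1 htt hno.1 hte (Ne.symm hno.2)
    have hfree := hinvab hab
    have hinv : ∀ r ∈ R, e * r * e⁻¹ = r⁻¹ := by
      intro r hr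
      refine eq_inv_of_mul_eq_one_right (hfree _ (mul_mem hr (hR.conj e hr)) ((mul_inv_eq_iff_eq_mul.mp ?_).symm))
      calc e * (r * (e * r * e⁻¹)) * e⁻¹ = (e * r * e⁻¹) * ((e * e) * r * (e * e)⁻¹) := by group
        _ = (e * r * e⁻¹) * r := by rw [hee]; group
        _ = r * (e * r * e⁻¹) := hab _ (hR.conj e hr) _ hr
    have het2 : e * t * (e * t) = 1 := by rw [hte.symm.mul_mul_mul_comm, hee, htt, one_mul]
    have het1 : e * t ≠ 1 := fun e' =>
      hno.2 ((eq_inv_of_mul_eq_one_right e').trans (inv_eq_of_mul_eq_one_left hee))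
    by_cases hall : ∀ s ∈ T, Commute s t
    · -- both lines are normalised
      have hline : ∀ g ∈ T, g * g = 1 → g ≠ 1 → (∀ s ∈ T, Commute s g) →
          R ⊓ Subgroup.centralizer ({g} : Set X) ≤ M := by
        intro g hg hgg hg1 hgc
        rcases hprop (R ⊓ Subgroup.centralizer ({g} : Set X)) inf_le_left (fun s hs b hb => ⟨hR.conj s hb.1,
            Subgroup.mem_centralizer_singleton_iff.mpr (((hgc s hs).mul_left
              (Subgroup.mem_centralizer_singleton_iff.mp hb.2)).mul_left (hgc s hs).inv_left).eq⟩) with hle | heq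
        · exact hle
        · exact absurd (a.eq_one_of_central hR hgg fun r hr =>
            Subgroup.mem_centralizer_singleton_iff.mp ((heq.ge hr).2)) hg1
      obtain ⟨k, hk, j, hj, hkt, hjt, hkj⟩ := hR.split htt hfR
      refine hfM (hkj ▸ mul_mem (hline t ht htt hno.1 hall ⟨hk, Subgroup.mem_centralizer_singleton_iff.mpr hkt.eq⟩)
        (hline (e * t) (mul_mem heT ht) het2 het1 (fun s hs => (hec s hs).mul_right (hall s hs))
          ⟨hj, Subgroup.mem_centralizer_singleton_iff.mpr ?_⟩))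
      -- an element inverted by both
      have hej := hinv j hj
      refine (mul_inv_eq_iff_eq_mul.mp ?_).symm
      calc e * t * j * (e * t)⁻¹ = e * (t * j * t⁻¹) * e⁻¹ := by group
        _ = j := by rw [hjt, ← conj_inv, hej, inv_inv]
    · push Not at hall
      obtain ⟨s0, hs0, hs0t⟩ := hall
      set C := T ⊓ Subgroup.centralizer ({t} : Set X) with hC
      have hCT : C < T := lt_of_le_of_ne inf_le_left fun e' =>
        hs0t (Subgroup.mem_centralizer_singleton_iff.mp (e'.ge hs0).2)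
      obtain ⟨-, hlt⟩ := CfsgLib.JComp.exists_normalizer_gt hT2 hCT
      obtain ⟨s, ⟨hs, hsN⟩, hsC⟩ := SetLike.not_le_iff_exists.mp hlt
      have hst : ¬ Commute s t := fun h' => hsC ⟨hs, Subgroup.mem_centralizer_singleton_iff.mpr h'.eq⟩
      set t' := s * t * s⁻¹ with ht'
      have ht'C : t' ∈ C := (Subgroup.mem_normalizer_iff.mp hsN t).mp
        ⟨ht, Subgroup.mem_centralizer_singleton_iff.mpr rfl⟩
      have ht'2 : t' * t' = 1 := by
        calc t' * t' = s * (t * t) * s⁻¹ := by rw [ht']; group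
          _ = 1 := by rw [htt]; group
      have ht't : Commute t' t := Subgroup.mem_centralizer_singleton_iff.mp ht'C.2
      have ht'e : Commute t' e := hec t' ht'C.1
      -- the sign of the conjugate on each line
      have hsign : ∀ g : X, g * g = 1 → g ≠ 1 → Commute t' g → (∀ r ∈ R, Commute r g → Commute r t') ∨
          ∀ r ∈ R, Commute r g → t' * r * t'⁻¹ = r⁻¹ := by
        intro g hgg hg1 hgt
        by_cases hp : ∀ r ∈ R, Commute r g → Commute r t'
        · exact Or.inl hp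
        push Not at hp
        obtain ⟨y, hy, hyg, hyt⟩ := hp
        refine Or.inr fun r hr hrg => ?_
        have hy1 : y ≠ 1 := fun e' => hyt (e' ▸ Commute.one_left t')
        have hty : t' * y * t'⁻¹ = y⁻¹ := (a.normal_line hR hgg hg1 hy hy1 hyg hgt).resolve_left
          fun e' => hyt (mul_inv_eq_iff_eq_mul.mp e').symm
        obtain ⟨i, rfl⟩ := Subgroup.mem_zpowers_iff.mp (a.cent_small hR (pow_eight_of_sq hgg) hg1 hy hy1 hyg hr hrg)
        rw [← conj_zpow, hty, inv_zpow]
      -- it acts as an element of the four group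
      have hdec : ∀ x : X, x * x = 1 → Commute t' x → (∀ k ∈ R, Commute k t → Commute k (t' * x)) →
          (∀ j ∈ R, Commute j (e * t) → Commute j (t' * x)) → t' = x := by
        intro x hxx htx h1 h2
        have h3 : t' * x = 1 := by
          refine a.eq_one_of_central hR (by rw [htx.symm.mul_mul_mul_comm, ht'2, hxx, one_mul]) fun r hr => ?_
          obtain ⟨k, hk, j, hj, hkt, hjt, rfl⟩ := hR.split htt hr
          refine (h1 k hk hkt).mul_left (h2 j hj ((mul_inv_eq_iff_eq_mul.mp ?_).symm))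
          calc e * t * j * (e * t)⁻¹ = e * (t * j * t⁻¹) * e⁻¹ := by group
            _ = j := by rw [hjt, ← conj_inv, hinv j hj, inv_inv]
        exact (eq_inv_of_mul_eq_one_left h3).trans (inv_eq_of_mul_eq_one_left hxx)
      have hmulfix : ∀ {r x : X}, t' * r * t'⁻¹ = r⁻¹ → x * r * x⁻¹ = r⁻¹ → Commute r (t' * x) := by
        intro r x h1 h2
        refine (mul_inv_eq_iff_eq_mul.mp ?_).symm
        calc t' * x * r * (t' * x)⁻¹ = t' * (x * r * x⁻¹) * t'⁻¹ := by group
          _ = r := by rw [h2, ← conj_inv, h1, inv_inv]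
      have hti : ∀ j ∈ R, Commute j (e * t) → t * j * t⁻¹ = j⁻¹ := fun j hj hjc => by
        calc t * j * t⁻¹ = e⁻¹ * (e * t * j * (e * t)⁻¹) * e := by group
          _ = e * j * e⁻¹ := by rw [← hjc.eq, mul_inv_cancel_right, inv_eq_of_mul_eq_one_left hee]
          _ = j⁻¹ := hinv j hj
      have heti : ∀ k ∈ R, Commute k t → e * t * k * (e * t)⁻¹ = k⁻¹ := fun k hk hkt => by
        calc e * t * k * (e * t)⁻¹ = e * (t * k * t⁻¹) * e⁻¹ := by group
          _ = k⁻¹ := by rw [← hkt.eq, mul_inv_cancel_right, hinv k hk]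
      rcases hsign t htt hno.1 ht't with hk | hk <;>
        rcases hsign (e * t) het2 het1 (ht'e.mul_right ht't) with hj | hj
      · refine hno.1 (conj_eq_one_iff.mp (?_ : s * t * s⁻¹ = 1))
        rw [← ht']
        refine hdec 1 (one_mul 1) (Commute.one_right t') (fun k hk' hkt => ?_) (fun j hj' hjt => ?_)
        · rw [mul_one]; exact hk k hk' hkt
        · rw [mul_one]; exact hj j hj' hjt
      · refine hst ?_
        have := hdec t htt ht't (fun k hk' hkt => (hk k hk' hkt).mul_right hkt)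
          (fun j hj' hjt => hmulfix (hj j hj' hjt) (hti j hj' hjt))
        exact mul_inv_eq_iff_eq_mul.mp this
      · have := hdec (e * t) het2 (ht'e.mul_right ht't) (fun k hk' hkt => hmulfix (hk k hk' hkt) (heti k hk' hkt))
          (fun j hj' hjt => (hj j hj' hjt).mul_right hjt)
        exact a.no_swap hR hee he1 htt hno.1 hte (Ne.symm hno.2) (hpow8 s hs) (hec s hs) this
      · have h0 := hdec e hee ht'e (fun k hk' hkt => hmulfix (hk k hk' hkt) (hinv k hk'))
          (fun j hj' hjt => hmulfix (hj j hj' hjt) (hinv j hj'))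
        refine hno.2 ?_
        calc t = s⁻¹ * t' * s := by rw [ht']; group
          _ = e := by rw [h0, mul_assoc, ← (hec s hs).eq, inv_mul_cancel_left]
  have hpow4 : ∀ t ∈ T, t ^ 4 = 1 := fun t ht => a.pow_four hR (hpow8 t ht)
  by_cases hall : ∀ t ∈ T, t * t = 1
  · -- the Sylow subgroup has order two
    left
    have hTe : T = Subgroup.zpowers e := by
      refine le_antisymm (fun t ht => ?_) (Subgroup.zpowers_le.mpr heT)
      rcases huniq t ht (hall t ht) with rfl | rfl
      exacts [one_mem _, Subgroup.mem_zpowers _]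
    have hRf : R = Subgroup.zpowers f := by
      rcases hprop (Subgroup.zpowers f) (Subgroup.zpowers_le.mpr hfR) (fun t ht b hb => by
        obtain ⟨i, rfl⟩ := Subgroup.mem_zpowers_iff.mp hb
        rcases huniq t ht (hall t ht) with rfl | rfl
        · simp [Subgroup.zpow_mem_zpowers]
        · rw [← conj_zpow, hfe, inv_zpow]; exact inv_mem (Subgroup.zpow_mem_zpowers f i)) with hle | heq
      · exact absurd (hle (Subgroup.mem_zpowers f)) hfM
      · exact heq.symm
    have hf1 : f ≠ 1 := fun e' => hfM (e' ▸ one_mem M)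
    have hfo : orderOf f = 3 := hR.order hfR hf1
    refine ⟨?_, f, e, heT, hfo, hee, he1, hfe⟩
    have hn : T ≤ Subgroup.normalizer (R : Set X) := by rw [Subgroup.normalizer_eq_top]; exact le_top
    have hcard := CfsgLib.JComp.card_sup_mul_card_inf hn
    rw [sup_comm, hgen, Subgroup.card_top, inf_comm, disjoint_iff.mp (hcop R le_rfl), Subgroup.card_bot, mul_one,
      hTe, hRf, Nat.card_zpowers, Nat.card_zpowers, hfo, orderOf_eq_prime (by rw [pow_two]; exact hee) he1] at hcard
    exact hcard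
  right
  push Not at hall
  obtain ⟨s, hs, hss⟩ := hall
  have hsq : ∀ t ∈ T, t * t ≠ 1 → t * t = e := fun t ht htne =>
    (huniq _ (mul_mem ht ht) (by rw [← hpow4 t ht]; simp only [pow_succ, pow_zero, one_mul, mul_assoc])).resolve_left htne
  have hse : s * s = e := hsq s hs hss
  have hfree : ∀ c ∈ R, Commute c e → c = 1 := by
    intro c hc hce
    by_contra hc1
    -- every element of order four inverts the fixed line
    have hflip : ∀ d ∈ R, Commute d e → d ≠ 1 → ∀ t ∈ T, t * t ≠ 1 → t * d * t⁻¹ = d⁻¹ := by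
      intro d hd hde hd1 t ht htne
      refine (a.normal_line hR hee he1 hd hd1 hde (hec t ht)).resolve_left fun e' => htne ?_
      exact a.orders.commute_three (hR.order hd hd1) (mul_inv_eq_iff_eq_mul.mp e').symm (k := 3) (hpow8 t ht)
    have hTs : T ≤ Subgroup.zpowers s := by
      intro t ht
      by_cases htne : t * t = 1
      · rcases huniq t ht htne with rfl | rfl
        · exact one_mem _
        · rw [← hse, ← pow_two]; exact Subgroup.pow_mem _ (Subgroup.mem_zpowers s) 2
      · have h1 : Commute c (s * t) := by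
          refine (mul_inv_eq_iff_eq_mul.mp ?_).symm
          calc s * t * c * (s * t)⁻¹ = s * (t * c * t⁻¹) * s⁻¹ := by group
            _ = c := by rw [hflip c hc hce hc1 t ht htne, ← conj_inv, hflip c hc hce hc1 s hs hss, inv_inv]
        have h2 := a.orders.commute_three (hR.order hc hc1) h1 (k := 3) (hpow8 _ (mul_mem hs ht))
        have h3 : t = s⁻¹ * (s * t) := by group
        rw [h3]
        refine mul_mem (inv_mem (Subgroup.mem_zpowers s)) ?_
        rcases huniq _ (mul_mem hs ht) h2 with e' | e' <;> rw [e']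
        · exact one_mem _
        · rw [← hse, ← pow_two]; exact Subgroup.pow_mem _ (Subgroup.mem_zpowers s) 2
    set f' := s * f * s⁻¹ with hf'
    have hf'R : f' ∈ R := hR.conj s hfR
    have hsf' : s * f' * s⁻¹ = f⁻¹ := by
      calc s * f' * s⁻¹ = (s * s) * f * (s * s)⁻¹ := by rw [hf']; group
        _ = f⁻¹ := by rw [hse, hfe]
    have hff' : Commute f f' := by
      set d := f * f' * f⁻¹ * f'⁻¹ with hd
      by_contra hne
      have hd1 : d ≠ 1 := fun e' => hne (mul_inv_eq_iff_eq_mul.mp (mul_inv_eq_one.mp e'))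
      have hdR : d ∈ R := mul_mem (hR.conj f hf'R) (inv_mem hf'R)
      have h1 := hflip d hdR (a.commutator_fixed hR hee he1 hfR hf'R) hd1 s hs hss
      have h2 : s * d * s⁻¹ = d := by
        have cf : Commute f (f' * f⁻¹ * f'⁻¹) := by
          have := (SpecSix.commute_conj_of_exp_three hR.exp hfR hf'R).inv_right
          simpa [mul_assoc] using this
        calc s * d * s⁻¹ = (s * f * s⁻¹) * (s * f' * s⁻¹) * (s * f * s⁻¹)⁻¹ * (s * f' * s⁻¹)⁻¹ := by rw [hd]; group
          _ = (f' * f⁻¹ * f'⁻¹) * f := by rw [← hf', hsf', inv_inv]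
          _ = f * (f' * f⁻¹ * f'⁻¹) := cf.eq.symm
          _ = d := by rw [hd]; group
      rw [h2] at h1
      have h3 := hR.three hdR
      rw [mul_eq_one_iff_eq_inv.mpr h1, one_mul] at h3
      exact hd1 h3
    have hef' : e * f' * e⁻¹ = f'⁻¹ := by
      calc e * f' * e⁻¹ = (e * s) * f * (e * s)⁻¹ := by rw [hf']; group
        _ = (s * e) * f * (s * e)⁻¹ := by rw [(hec s hs).eq]
        _ = s * (e * f * e⁻¹) * s⁻¹ := by group
        _ = f'⁻¹ := by rw [hfe, hf']; group
    set B := Subgroup.closure ({f, f'} : Set X) with hB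
    have hBR : B ≤ R := (Subgroup.closure_le _).mpr (by rintro x (rfl | rfl); exacts [hfR, hf'R])
    haveI hBc : IsMulCommutative B := Subgroup.isMulCommutative_closure (by
      rintro x (rfl | rfl) y (rfl | rfl)
      exacts [rfl, hff'.eq, hff'.eq.symm, rfl])
    have hfB : f ∈ B := Subgroup.subset_closure (Set.mem_insert _ _)
    have hf'B : f' ∈ B := Subgroup.subset_closure (Set.mem_insert_of_mem _ rfl)
    have hsB : Subgroup.closure ({f, f'} : Set X) ≤ B.comap (MulAut.conj s).toMonoidHom := by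
      refine (Subgroup.closure_le _).mpr ?_
      rintro x (rfl | rfl)
      · exact hf'B
      · show s * f' * s⁻¹ ∈ B
        rw [hsf']; exact inv_mem hfB
    have hsN : s ∈ Subgroup.normalizer (B : Set X) :=
      CfsgLib.JComp.mem_normalizer_of_conj_mem fun b hb => hsB hb
    refine hc1 (hinvgen B hBR (fun t ht b hb =>
      (Subgroup.mem_normalizer_iff.mp (Subgroup.zpowers_le.mpr hsN (hTs ht)) b).mp hb) hfB ?_ c hc hce)
    intro b hb
    induction hb using Subgroup.closure_induction with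
    | mem x hx => rcases hx with rfl | rfl; exacts [hfe, hef']
    | one => group
    | mul x y hx hy ihx ihy =>
      rw [show e * (x * y) * e⁻¹ = (e * x * e⁻¹) * (e * y * e⁻¹) by group, ihx, ihy, mul_inv_rev]
      exact congrArg Subtype.val (hBc.is_comm.comm ⟨x⁻¹, inv_mem hx⟩ ⟨y⁻¹, inv_mem hy⟩)
    | inv x _ ihx => rw [← conj_inv, ihx]
  refine ⟨R, e, ⟨a.abelian_of_free hR hee he1 hfree, fun e' => hRM (e' ▸ bot_le), hR.odd_card, hR.normal, hgen, heT,
    hee, he1, huniq, hfree, hpow4, Or.inr ⟨hR, s, hs, hse⟩⟩⟩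

/-- **The top of a solvable minimal parabolic.** -/
theorem Act.parab_top [Group.IsSolvable X] (hO : pCore 2 X = ⊥) (hT2 : IsPGroup 2 T) (hodd : ¬ 2 ∣ T.index)
    (hM : M ≠ ⊤) (hMu : ∀ H : Subgroup X, T ≤ H → H ≠ ⊤ → H ≤ M) (hTn : ¬ T.Normal) :
    (Nat.card X = 6 ∧ ∃ y : X, ∃ e ∈ T, orderOf y = 3 ∧ e * e = 1 ∧ e ≠ 1 ∧ e * y * e⁻¹ = y⁻¹) ∨
      ∃ A e, Free T A e := by
  rcases a.top_shape hO with ⟨u, hu, hn, hc⟩ | ⟨hR, h13⟩
  · exact Or.inr (a.free_thirteen hO hu hn hc hT2 hodd hM hMu hTn)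
  · exact a.free_three hR (a.sup_top_three hR h13 hO hT2 hodd hM hMu) hT2 hM hMu
      (fun e => hTn (e ▸ inferInstance)) (fun e => hTn (e ▸ inferInstance))

end CfsgLib.SpecThirteen
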