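import Cfsg.Agent.Lib.SpecThirteen.Module
import Cfsg.Agent.Lib.SpecThirteen.ParabTop
import Cfsg.Agent.Lib.SpecSix.AmalgamBase

/-!
Element orders in `{1, 2, 3, 4, 6, 8, 13}`: the top of a solvable minimal parabolic is `S₃`, or has a single
involution acting freely on its odd core.
-/

set_option autoImplicit false
set_option linter.unusedSectionVars false
set_option linter.style.haveILetI false

namespace CfsgLib.SpecThirteen

open Cfsg
open scoped IsMulCommutative
open CfsgLib.SpecSix (Frame Parab Half frat fratV fratAct fratAct_mk fratV_sq fratAct_faithful actAdd actAdd_apply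
  core_le core_relIndex core_subgroupOf isMulCommutative_of_sq le_normalizer_core)

universe u

variable {G : Type u} [Group G] [Finite G]

/-- The top of a group with self-centralising 2-core acts on the Frattini quotient of the core. -/
theorem Thirteen.frat_act (h : Thirteen G) (Q : Subgroup G) [Q.Normal] (hQ : IsPGroup 2 Q)
    (hC : Subgroup.centralizer (Q : Set G) ≤ Q) (hO : pCore 2 (G ⧸ Q) = ⊥) :
    Nonempty (Σ V : Type u, Σ' (_ : AddCommGroup V) (_ : Finite V), Act (G ⧸ Q) V) := by
  classical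
  haveI : Fact (Nat.Prime 2) := ⟨Nat.prime_two⟩
  set U := fratV Q with hU
  haveI : IsMulCommutative U := isMulCommutative_of_sq (fratV_sq hQ)
  have hle : frat Q ≤ Q := Subgroup.map_subtype_le _
  set f : G ⧸ frat Q →* G ⧸ Q := QuotientGroup.map (frat Q) Q (MonoidHom.id G) hle with hf
  have hfs : Function.Surjective f := fun x => by
    obtain ⟨g, rfl⟩ := QuotientGroup.mk_surjective x
    exact ⟨(g : G ⧸ frat Q), rfl⟩
  have hkerU : f.ker = U := by
    ext x
    obtain ⟨g, rfl⟩ := QuotientGroup.mk_surjective x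
    rw [MonoidHom.mem_ker, show f (g : G ⧸ frat Q) = (g : G ⧸ Q) from rfl, QuotientGroup.eq_one_iff]
    refine ⟨fun hg => ⟨g, hg, rfl⟩, ?_⟩
    rintro ⟨q, hq, e⟩
    have h1 : q⁻¹ * g ∈ frat Q := QuotientGroup.eq.mp e
    have h2 := mul_mem hq (hle h1)
    rwa [mul_inv_cancel_left] at h2
  have hU2 : IsPGroup 2 f.ker := by
    rw [hkerU]; exact hQ.map _
  haveI : (Subgroup.centralizer (U : Set (G ⧸ frat Q))).Normal := by rw [hU]; infer_instance
  have hN : ((Subgroup.centralizer (U : Set (G ⧸ frat Q))).map f).Normal := Subgroup.Normal.map inferInstance f hfs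
  have htriv : (Subgroup.centralizer (U : Set (G ⧸ frat Q))).map f = ⊥ := by
    set N := (Subgroup.centralizer (U : Set (G ⧸ frat Q))).map f with hNd
    haveI := hN
    have h2 : IsPGroup 2 N := by
      rcases Nat.eq_two_pow_or_exists_odd_prime_and_dvd (Nat.card N) with ⟨k, hk⟩ | ⟨p, hp, hpd, hpo⟩
      · exact IsPGroup.of_card hk
      · exfalso
        haveI := Fact.mk hp
        obtain ⟨c, hc⟩ := exists_prime_orderOf_dvd_card' (G := N) p hpd
        rw [← Subgroup.orderOf_coe] at hc
        obtain ⟨k, hk, hkc⟩ := c.2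
        have h1 : (c : G ⧸ Q) = 1 := fratAct_faithful hQ hC (by rw [hc]; exact hpo) fun a => by
          obtain ⟨g, rfl⟩ := QuotientGroup.mk_surjective k
          have e : (c : G ⧸ Q) = (g : G ⧸ Q) := hkc.symm
          rw [e, fratAct_mk hQ]
          refine Additive.toMul.injective (Subtype.ext ?_)
          rw [actAdd_apply, QuotientGroup.mk'_apply, ← Subgroup.mem_centralizer_iff.mp hk _ a.toMul.2,
            mul_inv_cancel_right]
        rw [h1, orderOf_one] at hc
        exact hp.ne_one hc.symm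
    exact le_bot_iff.mp (hO ▸ CfsgLib.le_pCore h2)
  have hker : ∀ k, f k = 1 ↔ ∀ v ∈ U, k * v = v * k := fun k => by
    constructor
    · intro hk v hv
      have hk' : k ∈ U := hkerU ▸ MonoidHom.mem_ker.mpr hk
      exact congrArg Subtype.val (IsMulCommutative.is_comm.comm (⟨k, hk'⟩ : U) ⟨v, hv⟩)
    · intro hk
      have hk' : k ∈ Subgroup.centralizer (U : Set (G ⧸ frat Q)) :=
        Subgroup.mem_centralizer_iff.mpr fun v hv => (hk v hv).symm
      exact (Subgroup.mem_bot).mp (htriv ▸ Subgroup.mem_map_of_mem f hk')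
  exact ⟨⟨Additive U, inferInstance, inferInstance,
    (h.quotient _).moduleAct U (fratV_sq hQ) f hfs hker hU2⟩⟩

variable {T P : Subgroup G}

/-- A solvable minimal parabolic has top `S₃`, or a top with a single involution. -/
theorem top_cases (h : Thirteen G) (hP : Parab T P) [Group.IsSolvable P] :
    (∃ x, Half T P x) ∨ ∃ A e, Free ((T.subgroupOf P).map (QuotientGroup.mk' (pCore 2 P))) A e := by
  classical
  haveI : Fact (Nat.Prime 2) := ⟨Nat.prime_two⟩
  set Q := pCore 2 P with hQ
  haveI : Q.Normal := by rw [hQ]; infer_instance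
  have hQ2 : IsPGroup 2 Q := CfsgLib.isPGroup_pCore 2
  have hP13 : Thirteen P := h.subgroup P
  have hC := hP.cent_group
  have hO : pCore 2 (P ⧸ Q) = ⊥ := CfsgLib.ZJ.pCore_quotient_pCore_eq_bot
  obtain ⟨⟨V, hV1, hV2, a⟩⟩ := hP13.frat_act Q hQ2 hC hO
  set π := QuotientGroup.mk' Q with hπ
  have hπs : Function.Surjective π := QuotientGroup.mk'_surjective Q
  set T0 := T.subgroupOf P with hT0
  have hT02 : IsPGroup 2 T0 := hP.two.comap_of_injective P.subtype P.subtype_injective
  have hodd0 : ¬ 2 ∣ T0.index := fun hd => Nat.not_even_iff_odd.mpr hP.odd (even_iff_two_dvd.mpr hd)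
  have hQT : Q ≤ T0 := by
    rw [hQ, ← core_subgroupOf]; exact Subgroup.comap_mono hP.core_le_T
  set S := T0.map π with hS
  have hSidx : ¬ 2 ∣ S.index := fun hd => hodd0 (hd.trans (Subgroup.index_map_dvd T0 hπs))
  have hcomap : S.comap π = T0 := by
    rw [hS, Subgroup.comap_map_eq, hπ, QuotientGroup.ker_mk']; exact sup_eq_left.mpr hQT
  have hSn : ¬ S.Normal := fun hn => by
    apply hP.not_normal
    rw [← Subgroup.normal_subgroupOf_iff_le_normalizer hP.le, ← hT0, ← hcomap]
    exact hn.comap π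
  obtain ⟨M, hMP, hMu⟩ := hP.unique
  have hTM : T ≤ M := hMu T le_rfl (lt_of_le_of_ne hP.le fun e => hP.not_normal (e ▸ Subgroup.le_normalizer))
  set M' := (M.subgroupOf P).map π with hM'
  have hQM : Q ≤ M.subgroupOf P := hQT.trans (Subgroup.comap_mono hTM)
  have hM'top : M' ≠ ⊤ := fun e => by
    have e' : M'.comap π = M.subgroupOf P := by
      rw [hM', Subgroup.comap_map_eq, hπ, QuotientGroup.ker_mk']; exact sup_eq_left.mpr hQM
    rw [e, Subgroup.comap_top, eq_comm, Subgroup.subgroupOf_eq_top] at e'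
    exact hMP.not_ge e'
  have hMu' : ∀ H : Subgroup (P ⧸ Q), S ≤ H → H ≠ ⊤ → H ≤ M' := by
    intro H hSH hH
    set H0 := (H.comap π).map P.subtype with hH0
    have h1 : T ≤ H0 := by
      rw [← Subgroup.map_subgroupOf_eq_of_le hP.le, ← hT0, ← hcomap]
      exact Subgroup.map_mono (Subgroup.comap_mono hSH)
    have h2 : H0 < P := by
      refine lt_of_le_of_ne (Subgroup.map_subtype_le _) fun e => hH ?_
      have e' : H.comap π = ⊤ := by
        have := congrArg (fun L : Subgroup G => L.subgroupOf P) e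
        rwa [show (H0.subgroupOf P) = H.comap π from Subgroup.comap_map_eq_self_of_injective P.subtype_injective _,
          Subgroup.subgroupOf_self] at this
      rw [← Subgroup.map_comap_eq_self_of_surjective hπs H, e', Subgroup.map_top_of_surjective _ hπs]
    rw [← Subgroup.map_comap_eq_self_of_surjective hπs H, hM']
    refine Subgroup.map_mono fun y hy => ?_
    exact hMu H0 h1 h2 ⟨y, hy, rfl⟩
  rcases a.parab_top hO (hT02.map π) hSidx hM'top hMu' hSn with ⟨h6, y, e, heS, hy, he, he1, hinv⟩ | hfree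
  · left
    obtain ⟨x, hxy, hxo⟩ := hP13.lift_order π hπs (Or.inl rfl) hy
    have hidx : (pCoreOf 2 P).relIndex P = 6 := by rw [core_relIndex]; exact h6
    have heS' : orderOf e = 2 := orderOf_eq_prime (by rw [pow_two]; exact he) he1
    have hS2 : Nat.card S = 2 := by
      have hmul := S.card_mul_index
      rw [h6] at hmul
      obtain ⟨n, hn⟩ := IsPGroup.iff_card.mp (hT02.map π)
      rw [← hS] at hn
      have hd : 2 ∣ Nat.card S := heS' ▸ Subgroup.orderOf_dvd_natCard S heS
      rw [hn] at hd hmul ⊢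
      rcases n with _ | _ | n
      · simp at hd
      · rfl
      · exfalso
        rw [pow_succ, pow_succ, mul_assoc (2 ^ n) 2 2] at hmul
        have h4 : 4 ∣ 6 := ⟨2 ^ n * S.index, by rw [← hmul]; ring⟩
        omega
    have hSe : S = Subgroup.zpowers e := (Subgroup.eq_of_le_of_card_ge (Subgroup.zpowers_le.mpr heS)
      (by rw [hS2, Nat.card_zpowers, heS'])).symm
    obtain ⟨t0, ht0, hte⟩ := heS
    have hTK : ∀ s (hs : s ∈ T), s ∉ pCoreOf 2 P → π ⟨s, hP.le hs⟩ = e := by
      intro s hs hsQ
      have hm : π ⟨s, hP.le hs⟩ ∈ S := Subgroup.mem_map_of_mem π (show (⟨s, hP.le hs⟩ : P) ∈ T0 from hs)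
      rw [hSe] at hm
      obtain ⟨i, hi⟩ := Subgroup.mem_zpowers_iff.mp hm
      rw [← zpow_mod_orderOf, heS'] at hi
      rcases Int.emod_two_eq i with e' | e'
      · exfalso
        simp only [Nat.cast_ofNat, e', zpow_zero] at hi
        refine hsQ ?_
        have h1 := (QuotientGroup.eq_one_iff (⟨s, hP.le hs⟩ : P)).mp hi.symm
        rw [hQ, ← core_subgroupOf] at h1
        exact h1
      · simp only [Nat.cast_ofNat, e', zpow_one] at hi
        exact hi.symm
    have hxT : (x : G) ∉ T := fun hxT => by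
      have h1 : y ∈ S := hxy ▸ Subgroup.mem_map_of_mem π (show x ∈ T0 from hxT)
      have h2 := Subgroup.orderOf_dvd_natCard S h1
      rw [hy, hS2] at h2
      omega
    have hidx2 : (pCoreOf 2 P).relIndex T = 2 := by
      rw [Subgroup.relIndex]
      have e1 : (pCoreOf 2 P).subgroupOf T =
          ((π.comp (Subgroup.inclusion hP.le)).ker) := by
        ext s
        rw [MonoidHom.mem_ker, MonoidHom.comp_apply, hπ, QuotientGroup.mk'_apply, QuotientGroup.eq_one_iff, hQ,
          ← core_subgroupOf]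
        rfl
      rw [e1, Subgroup.index_ker, MonoidHom.range_comp, Subgroup.inclusion_range]
      exact hS2
    have hgen : T ⊔ Subgroup.zpowers (x : G) = P := by
      refine le_antisymm (sup_le hP.le (Subgroup.zpowers_le.mpr x.2)) fun z hz => ?_
      set H := (T ⊔ Subgroup.zpowers (x : G)).subgroupOf P with hH
      have hT0H : T0 ≤ H := Subgroup.comap_mono le_sup_left
      have hHtop : H.map π = ⊤ := by
        refine Subgroup.eq_top_of_le_card _ ?_
        have d2 : 2 ∣ Nat.card (H.map π) := hS2 ▸ Subgroup.card_dvd_of_le (Subgroup.map_mono hT0H)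
        have d3 : 3 ∣ Nat.card (H.map π) := hy ▸ Subgroup.orderOf_dvd_natCard _
          (hxy ▸ Subgroup.mem_map_of_mem π
            (show x ∈ H from (Subgroup.mem_sup_right (Subgroup.mem_zpowers (x : G)) :
              (x : G) ∈ T ⊔ Subgroup.zpowers (x : G))))
        rw [h6]
        exact Nat.le_of_dvd Nat.card_pos (Nat.Coprime.mul_dvd_of_dvd_of_dvd (by norm_num) d2 d3)
      have h1 : (H.map π).comap π = H := by
        rw [Subgroup.comap_map_eq, hπ, QuotientGroup.ker_mk']; exact sup_eq_left.mpr (hQT.trans hT0H)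
      rw [hHtop, Subgroup.comap_top] at h1
      have h2 : (⟨z, hz⟩ : P) ∈ H := h1 ▸ Subgroup.mem_top _
      exact h2
    refine ⟨x, hP.toFrame, hidx, hP, x.2, by rw [Subgroup.orderOf_coe]; exact hxo, hxT, hgen,
      fun s hs hsQ => ?_, hidx2, t0, ht0, fun hQ' => ?_⟩
    · have hmem : (⟨s, hP.le hs⟩ * x * (⟨s, hP.le hs⟩ : P)⁻¹ * x : P) ∈ Q := by
        rw [← QuotientGroup.eq_one_iff, ← QuotientGroup.mk'_apply, ← hπ, map_mul, map_mul, map_mul, map_inv,
          hTK s hs hsQ, hxy, hinv, inv_mul_cancel]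
      rw [hQ, ← core_subgroupOf] at hmem
      exact hmem
    · apply he1
      rw [← hte, hπ, QuotientGroup.mk'_apply, QuotientGroup.eq_one_iff, hQ, ← core_subgroupOf]
      exact hQ'
  · exact Or.inr hfree

end CfsgLib.SpecThirteen
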