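import Cfsg.Agent.Lib.SpecThirteen.Four
import Cfsg.Agent.Lib.SpecThirteen.Parabolic

/-!
Element orders in `{1, 2, 3, 4, 6, 8, 13}`: in a common solvable local the elements of odd order of two parabolics
with different cores commute modulo the core of the local.
-/

set_option autoImplicit false
set_option linter.unusedSectionVars false
set_option linter.style.haveILetI false

namespace CfsgLib.SpecThirteen

open Cfsg
open CfsgLib.SpecSix (Frame Parab core_le core_isPGroup core_subgroupOf le_core le_normalizer_core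
  le_sylow_of_normalized mem_normalizer_of_cj_le)

universe u w

section Top

variable {X : Type u} [Group X] [Finite X] {V : Type w} [AddCommGroup V] (a : Act X V) {T : Subgroup X}
include a

omit a [Finite X] in
/-- An element of odd order with a power of two killing it is trivial. -/
theorem eq_one_of_odd_two {x : X} (ho : Odd (orderOf x)) {k : ℕ} (hk : x ^ 2 ^ k = 1) : x = 1 := by
  obtain ⟨j, -, hj⟩ := (Nat.dvd_prime_pow Nat.prime_two).mp (orderOf_dvd_of_pow_eq_one hk)
  rcases Nat.eq_zero_or_pos j with rfl | hj0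
  · exact orderOf_eq_one_iff.mp (by rw [hj, pow_zero])
  · exfalso
    rw [hj] at ho
    exact Nat.not_even_iff_odd.mpr ho (even_iff_two_dvd.mpr (dvd_pow_self 2 hj0.ne'))

/-- With a 3-core containing its centraliser, the 3-core times the Sylow 2-subgroup is normal. -/
theorem Act.normal_sup_three [Group.IsSolvable X] (hR : ThreeCore (pCore 3 X)) (h13 : ¬ 13 ∣ Nat.card X)
    (hT2 : IsPGroup 2 T) (hodd : ¬ 2 ∣ T.index) : (pCore 3 X ⊔ T).Normal := by
  haveI : Fact (Nat.Prime 2) := ⟨Nat.prime_two⟩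
  haveI : Fact (Nat.Prime 3) := ⟨Nat.prime_three⟩
  set R := pCore 3 X with hRd
  haveI : R.Normal := hR.normal
  set π := QuotientGroup.mk' R with hπ
  have hπs : Function.Surjective π := QuotientGroup.mk'_surjective R
  set D := pCore 2 (X ⧸ R) with hD
  have hD2 : IsPGroup 2 D := CfsgLib.isPGroup_pCore 2
  set S := T.map π with hS
  have hS2 : IsPGroup 2 S := hT2.map π
  have hSodd : Odd (S.relIndex ⊤) := by
    rw [Subgroup.relIndex_top_right, ← Nat.not_even_iff_odd]
    exact fun he => hodd ((even_iff_two_dvd.mp he).trans (Subgroup.index_map_dvd T hπs))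
  have hDS : D ≤ S := le_sylow_of_normalized le_top hS2 hSodd hD2 le_top (by
    rw [Subgroup.normalizer_eq_top]; exact le_top)
  have hK3 : pCore 3 (X ⧸ R) = ⊥ := by
    have hp : IsPGroup 3 ((pCore 3 (X ⧸ R)).comap π) := by
      refine (CfsgLib.isPGroup_pCore (G := X ⧸ R) 3).comap_of_ker_isPGroup _ ?_
      rw [hπ, QuotientGroup.ker_mk']; exact hR.isPGroup
    have hle := CfsgLib.le_pCore hp
    refine (Subgroup.eq_bot_iff_forall _).mpr fun x hx => ?_
    obtain ⟨y, rfl⟩ := hπs x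
    exact (QuotientGroup.eq_one_iff y).mpr (hle hx)
  have hF : fittingSubgroup (X ⧸ R) ≤ D := by
    rw [CfsgLib.fittingSubgroup_eq_iSup_pCore]
    refine iSup_le fun q => ?_
    by_cases hq : pCore (q : ℕ) (X ⧸ R) = ⊥
    · rw [hq]; exact bot_le
    haveI := Fact.mk q.2
    obtain ⟨n, hn⟩ := IsPGroup.iff_card.mp (CfsgLib.isPGroup_pCore (G := X ⧸ R) (q : ℕ))
    have hn0 : n ≠ 0 := fun e => hq (Subgroup.card_eq_one.mp (by rw [hn, e, pow_zero]))
    have hqd : (q : ℕ) ∣ Nat.card (X ⧸ R) := (hn ▸ dvd_pow_self _ hn0).trans (Subgroup.card_subgroup_dvd_card _)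
    rcases a.orders.prime_cases q.2 (hqd.trans (Subgroup.card_quotient_dvd_card R)) with e | e | e
    · rw [hD, ← e]
    · exact absurd (e ▸ hK3) hq
    · exact absurd (e ▸ hqd.trans (Subgroup.card_quotient_dvd_card R)) h13
  have hCD : ∀ x : X ⧸ R, (∀ d ∈ D, Commute d x) → x ∈ D := fun x hx =>
    hF (CfsgLib.centralizer_fitting_le (G := X ⧸ R)
      (Subgroup.mem_centralizer_iff.mpr fun d hd => (hx d (hF hd)).eq))
  -- the image of the Sylow subgroup is the core
  have hTD : S ≤ D := by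
    rcases a.sylow_cases hR hT2 with hab | ⟨e, hee, hT⟩
    · rintro _ ⟨t, ht, rfl⟩
      refine hCD _ fun d hd => ?_
      obtain ⟨t', ht', rfl⟩ := hDS hd
      exact (show π t' * π t = π t * π t' by rw [← map_mul, ← map_mul, hab t' ht' t ht])
    have hinj : ∀ t ∈ T, π t = 1 → t = 1 := fun t ht h1 =>
      Subgroup.mem_bot.mp (disjoint_iff.mp (IsPGroup.disjoint_of_coprime hR.isPGroup hT2 (by norm_num)) ▸
        (⟨(QuotientGroup.eq_one_iff t).mp h1, ht⟩ : t ∈ R ⊓ T))
    have hinj' : ∀ t ∈ T, ∀ t' ∈ T, π t = π t' → t = t' := fun t ht t' ht' h1 => by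
      refine inv_mul_eq_one.mp (hinj (t⁻¹ * t') (mul_mem (inv_mem ht) ht') ?_)
      rw [map_mul, map_inv, h1, inv_mul_cancel]
    by_cases hcom : ∀ x ∈ T, π x ∈ D → ∀ y ∈ T, π y ∈ D → x * y = y * x
    · -- an abelian core forces a 2-group
      have hsq : ∀ y : X ⧸ R, y * y ∈ D := by
        intro y
        refine hCD _ fun d hd => ?_
        have step : ∀ b ∈ T, π b ∈ D → ∃ c ∈ T, π c = y * π b * y⁻¹ ∧ π c ∈ D := fun b hb hbD => by
          have h1 : y * π b * y⁻¹ ∈ D := (inferInstance : D.Normal).conj_mem _ hbD y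
          obtain ⟨c, hc, hce⟩ := hDS h1
          exact ⟨c, hc, hce, hce ▸ h1⟩
        obtain ⟨b, hb, rfl⟩ := hDS hd
        obtain ⟨c, hc, hce, hcD⟩ := step b hb hd
        suffices h2 : y * π c * y⁻¹ = π b from by
          refine (mul_inv_eq_iff_eq_mul.mp ?_).symm
          calc y * y * π b * (y * y)⁻¹ = y * (y * π b * y⁻¹) * y⁻¹ := by group
            _ = π b := by rw [← hce, h2]
        -- the involution is fixed
        have hfix : ∀ x ∈ T, π x ∈ D → x * x = 1 → y * π x * y⁻¹ = π x := by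
          intro x hx hxD hxx
          obtain ⟨x', hx', hxe, -⟩ := step x hx hxD
          have hx'2 : x' * x' = 1 := hinj _ (mul_mem hx' hx') (by
            rw [map_mul, hxe, conj_mul, ← map_mul, hxx, map_one, mul_one, mul_inv_cancel])
          rcases (hT x hx).2 hxx with rfl | rfl
          · rw [map_one, mul_one, mul_inv_cancel]
          · rcases (hT x' hx').2 hx'2 with rfl | rfl
            · rw [map_one] at hxe
              rw [conj_eq_one_iff.mp hxe.symm, mul_one, mul_inv_cancel]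
            · exact hxe.symm
        rcases (hT b hb).1 with hb2 | hb2
        · rw [hfix b hb hd hb2] at hce
          rw [hinj' c hc b hb hce, hfix b hb hd hb2]
        by_cases hee1 : e = 1
        · rw [hee1] at hb2
          rw [hfix b hb hd hb2] at hce
          rw [hinj' c hc b hb hce, hfix b hb hd hb2]
        have hc2 : c * c = e := hinj' _ (mul_mem hc hc) _ (hb2 ▸ mul_mem hb hb) (by
          rw [map_mul, hce, conj_mul, ← map_mul, hb2, hfix e (hb2 ▸ mul_mem hb hb)
            (by rw [← hb2, map_mul]; exact mul_mem hd hd) hee])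
        have hbc : (b⁻¹ * c) * (b⁻¹ * c) = 1 := by
          have e1 : Commute b⁻¹ c := (show Commute b c from hcom b hb hd c hc hcD).inv_left
          rw [e1.symm.mul_mul_mul_comm, hc2, ← mul_inv_rev, hb2, inv_mul_cancel]
        rcases (hT _ (mul_mem (inv_mem hb) hc)).2 hbc with h3 | h3
        · have h4 : b = c := inv_mul_eq_one.mp h3
          rw [← h4] at hce
          rw [← h4, ← hce]
        · have h4 : c = b⁻¹ := by
            calc c = b * (b⁻¹ * c) := by group
              _ = b * (b * b)⁻¹ := by rw [h3, hb2, inv_eq_of_mul_eq_one_left hee]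
              _ = b⁻¹ := by group
          have h5 : y * π b * y⁻¹ = (π b)⁻¹ := by rw [← hce, h4, map_inv]
          rw [h4, map_inv, ← conj_inv, h5, inv_inv]
      have htop : IsPGroup 2 (⊤ : Subgroup (X ⧸ R)) := fun y => by
        obtain ⟨k, hk⟩ := hD2 ⟨(y : X ⧸ R) * y, hsq y⟩
        refine ⟨k + 1, Subtype.ext ?_⟩
        rw [pow_succ', pow_mul, pow_two, Subgroup.coe_pow, Subgroup.coe_mul]
        exact congrArg Subtype.val hk
      exact le_top.trans (CfsgLib.le_pCore htop)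
    -- two elements not commuting generate everything
    push Not at hcom
    obtain ⟨x, hx, hxD, y, hy, hyD, hne⟩ := hcom
    have hZ : ∀ t ∈ T, ∀ z : X, (z = 1 ∨ z = e) → z ∈ T → Commute t z := by
      intro t ht z hz hzT
      rcases hz with rfl | rfl
      · exact Commute.one_right t
      · refine mul_inv_eq_iff_eq_mul.mp ?_
        rcases (hT _ (mul_mem (mul_mem ht hzT) (inv_mem ht))).2 (by rw [conj_mul, hee, mul_one, mul_inv_cancel])
          with h1 | h1
        · rw [h1, conj_eq_one_iff.mp h1]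
        · exact h1
    have hx2 : x * x = e := (hT x hx).1.resolve_left fun h1 => hne (hZ y hy x ((hT x hx).2 h1) hx).symm
    have heT : e ∈ T := hx2 ▸ mul_mem hx hx
    have hxi : x⁻¹ = e * x := by
      rw [← hx2, inv_eq_iff_mul_eq_one.mpr]
      calc x * (x * x * x) = (x * x) * (x * x) := by group
        _ = 1 := by rw [hx2, hee]
    have hflip : ∀ c ∈ T, c * x * c⁻¹ = x ∨ c * x * c⁻¹ = x⁻¹ := by
      intro c hc
      have e1 : c * x * c⁻¹ = (c * x * (c * x)) * x⁻¹ * (c * c)⁻¹ := by group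
      have h1 := (hT _ (mul_mem hc hx)).1
      have h2 := (hT c hc).1
      rcases h1 with h1 | h1 <;> rcases h2 with h2 | h2 <;> rw [e1, h1, h2]
      · exact Or.inr (by group)
      · left
        rw [one_mul, inv_eq_of_mul_eq_one_left hee, hxi, (hZ x hx e (Or.inr rfl) heT).symm.eq, mul_assoc, hee,
          mul_one]
      · left
        rw [inv_one, mul_one, hxi, ← mul_assoc, hee, one_mul]
      · right
        rw [inv_eq_of_mul_eq_one_left hee, mul_assoc, (hZ _ (inv_mem hx) e (Or.inr rfl) heT).eq, ← mul_assoc,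
          hee, one_mul]
    have hself : ∀ c ∈ T, c * x = x * c → π c ∈ D := by
      intro c hc hcx
      have hzD : ∀ z, z = 1 ∨ z = e → π z ∈ D := by
        rintro z (rfl | rfl)
        · rw [map_one]; exact one_mem _
        · rw [← hx2, map_mul]; exact mul_mem hxD hxD
      rcases (hT c hc).1 with h1 | h1
      · exact hzD c ((hT c hc).2 h1)
      have h2 : x⁻¹ * c * (x⁻¹ * c) = 1 := by
        have e1 : Commute x⁻¹ c := (show Commute x c from hcx.symm).inv_left
        rw [e1.symm.mul_mul_mul_comm, h1, ← mul_inv_rev, hx2, inv_mul_cancel]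
      have h3 := hzD _ ((hT _ (mul_mem (inv_mem hx) hc)).2 h2)
      have h4 := mul_mem hxD h3
      rwa [← map_mul, mul_inv_cancel_left] at h4
    have hyx : y * x * y⁻¹ = x⁻¹ := (hflip y hy).resolve_left fun h1 => hne (mul_inv_eq_iff_eq_mul.mp h1).symm
    rintro _ ⟨c, hc, rfl⟩
    rcases hflip c hc with h1 | h1
    · exact hself c hc (mul_inv_eq_iff_eq_mul.mp h1)
    · have h2 := hself (c * y) (mul_mem hc hy) (mul_inv_eq_iff_eq_mul.mp (by
        calc c * y * x * (c * y)⁻¹ = c * (y * x * y⁻¹) * c⁻¹ := by group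
          _ = x := by rw [hyx, ← conj_inv, h1, inv_inv]))
      rw [map_mul] at h2
      have h3 := mul_mem h2 (inv_mem hyD)
      rwa [mul_inv_cancel_right] at h3
  have hSn : S.Normal := le_antisymm hTD hDS ▸ inferInstance
  have e : R ⊔ T = S.comap π := by
    rw [hS, Subgroup.comap_map_eq, hπ, QuotientGroup.ker_mk', sup_comm]
  rw [e]
  exact hSn.comap π

/-- A normal subgroup of odd order whose product with the Sylow 2-subgroup is normal; an element of it fixed by a
nontrivial two-element is central in it. -/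
theorem Act.complement [Group.IsSolvable X] (hO : pCore 2 X = ⊥) (hT2 : IsPGroup 2 T) (hodd : ¬ 2 ∣ T.index) :
    ∃ F : Subgroup X, F.Normal ∧ (F ⊔ T).Normal ∧ F ⊓ T = ⊥ ∧
      ∀ s ∈ T, s ≠ 1 → ∀ y ∈ F, Commute y s → ∀ z ∈ F, Commute y z := by
  haveI : Fact (Nat.Prime 2) := ⟨Nat.prime_two⟩
  rcases a.top_shape hO with ⟨u, hu, hn, hc⟩ | ⟨hR, h13⟩
  · haveI : Fact (Nat.Prime 13) := ⟨by norm_num⟩
    refine ⟨Subgroup.zpowers u, hn, ⟨fun x hx g => ?_⟩, disjoint_iff.mp (IsPGroup.disjoint_of_coprime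
      (IsPGroup.of_card (p := 13) (n := 1) (by rw [Nat.card_zpowers, hu, pow_one])) hT2 (by norm_num)),
      fun _ _ _ y hy _ z hz => ?_⟩
    · have habel : g * x * g⁻¹ * x⁻¹ ∈ Subgroup.zpowers u := by
        have hpow : ∀ x : X, ∃ k : ℤ, x * u * x⁻¹ = u ^ k := fun x => by
          obtain ⟨k, hk⟩ := Subgroup.mem_zpowers_iff.mp (hn.conj_mem u (Subgroup.mem_zpowers u) x)
          exact ⟨k, hk.symm⟩
        obtain ⟨k, hk⟩ := hpow g
        obtain ⟨l, hl⟩ := hpow x
        refine hc (Subgroup.mem_centralizer_singleton_iff.mpr ?_)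
        have e1 : (g * x) * u * (g * x)⁻¹ = (x * g) * u * (x * g)⁻¹ := by
          calc (g * x) * u * (g * x)⁻¹ = g * (x * u * x⁻¹) * g⁻¹ := by group
            _ = u ^ (k * l) := by rw [hl, ← conj_zpow, hk, ← zpow_mul]
            _ = x * (g * u * g⁻¹) * x⁻¹ := by rw [hk, ← conj_zpow, hl, ← zpow_mul, mul_comm]
            _ = _ := by group
        obtain ⟨m, hm⟩ := hpow (x * g)⁻¹
        rw [inv_inv] at hm
        refine mul_inv_eq_iff_eq_mul.mp ?_
        calc g * x * g⁻¹ * x⁻¹ * u * (g * x * g⁻¹ * x⁻¹)⁻¹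
            = (g * x) * ((x * g)⁻¹ * u * (x * g)) * (g * x)⁻¹ := by group
          _ = ((g * x) * u * (g * x)⁻¹) ^ m := by rw [hm, conj_zpow]
          _ = (x * g) * u ^ m * (x * g)⁻¹ := by rw [e1, conj_zpow]
          _ = u := by rw [← hm]; group
      have e : g * x * g⁻¹ = (g * x * g⁻¹ * x⁻¹) * x := by group
      rw [e]; exact mul_mem (Subgroup.mem_sup_left habel) hx
    · obtain ⟨i, rfl⟩ := hy
      obtain ⟨j, rfl⟩ := hz
      exact (Commute.refl u).zpow_zpow i j
  · haveI : Fact (Nat.Prime 3) := ⟨Nat.prime_three⟩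
    refine ⟨pCore 3 X, inferInstance, a.normal_sup_three hR h13 hT2 hodd,
      disjoint_iff.mp (IsPGroup.disjoint_of_coprime hR.isPGroup hT2 (by norm_num)), fun s hs hs1 y hy hys z hz => ?_⟩
    by_cases h2 : s * s = 1
    · exact a.fixed_central hR h2 hs1 hy hys hz
    · refine a.fixed_central hR ?_ h2 hy (hys.mul_right hys) hz
      rw [← a.pow_four hR (a.orders.pgroup_pow_eight hT2 hs)]
      simp only [pow_succ, pow_zero, one_mul, mul_assoc]

end Top

variable {G : Type u} [Group G] [Finite G] {S P : Subgroup G}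

/-- A group is generated by a Sylow 2-subgroup and its elements of odd order. -/
theorem Frame.le_of_odd (hP : Frame S P) {H : Subgroup G} (hS : S ≤ H)
    (ho : ∀ g ∈ P, Odd (orderOf g) → g ∈ H) : P ≤ H := by
  classical
  set K := Subgroup.closure {g : P | Odd (orderOf g)} with hK
  haveI : K.Normal := by
    refine Subgroup.normalizer_eq_top_iff.mp (top_le_iff.mp fun p _ => ?_)
    refine CfsgLib.JComp.mem_normalizer_of_conj_mem fun v hv => ?_
    have hle : K ≤ K.comap (MulAut.conj p).toMonoidHom := by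
      refine (Subgroup.closure_le _).mpr fun g hg => Subgroup.subset_closure ?_
      show Odd (orderOf (MulAut.conj p g))
      rw [MulEquiv.orderOf_eq]
      exact hg
    exact hle hv
  have h2 : IsPGroup 2 (P ⧸ K) := fun x => by
    obtain ⟨g, rfl⟩ := QuotientGroup.mk_surjective x
    obtain ⟨k, m, hm, hkm⟩ := Nat.exists_eq_two_pow_mul_odd (orderOf_pos g).ne'
    refine ⟨k, (QuotientGroup.eq_one_iff (g ^ 2 ^ k)).mpr (Subgroup.subset_closure ?_)⟩
    show Odd (orderOf (g ^ 2 ^ k))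
    rw [orderOf_pow_of_dvd (by positivity) (hkm ▸ dvd_mul_right _ _), hkm, Nat.mul_div_cancel_left _ (by positivity)]
    exact hm
  have hKH : K ≤ H.subgroupOf P := (Subgroup.closure_le _).mpr fun g hg =>
    ho g g.2 (by rwa [Subgroup.orderOf_coe])
  intro p hp
  haveI : Fact (Nat.Prime 2) := ⟨Nat.prime_two⟩
  set H' := H.subgroupOf P with hH'
  have hodd : Odd H'.index := by
    have h1 : H'.index ∣ (S.subgroupOf P).index := Subgroup.index_dvd_of_le (Subgroup.comap_mono hS)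
    exact Odd.of_dvd_nat hP.odd h1
  obtain ⟨n, hn⟩ := IsPGroup.iff_card.mp h2
  have hdvd : H'.index ∣ 2 ^ n := by
    have := Subgroup.index_dvd_of_le hKH
    rwa [Subgroup.index_eq_card K, hn] at this
  obtain ⟨j, -, hj⟩ := (Nat.dvd_prime_pow Nat.prime_two).mp hdvd
  rcases Nat.eq_zero_or_pos j with rfl | hj0
  · have := Subgroup.index_eq_one.mp (by rw [hj, pow_zero] : H'.index = 1)
    exact (this ▸ Subgroup.mem_top (⟨p, hp⟩ : P) : (⟨p, hp⟩ : P) ∈ H')
  · exact absurd (even_iff_two_dvd.mpr (hj ▸ dvd_pow_self 2 hj0.ne')) (Nat.not_even_iff_odd.mpr hodd)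

/-- A minimal parabolic lies in a normal subgroup containing the Sylow 2-subgroup. -/
theorem Parab.le_normal (hP : Parab S P) {N : Subgroup G} (hS : S ≤ N)
    (hn : P ≤ Subgroup.normalizer (N : Set G)) : P ≤ N := by
  by_contra hle
  obtain ⟨M, hMP, hMu⟩ := hP.unique
  have h1 : P ⊓ N ≤ M := hMu _ (le_inf hP.le hS) (lt_of_le_of_ne inf_le_left fun e => hle (e ▸ inf_le_right))
  have h2 : P ⊓ Subgroup.normalizer (S : Set G) ≤ M := hMu _ (le_inf hP.le Subgroup.le_normalizer)
    (lt_of_le_of_ne inf_le_left fun e => hP.not_normal (e ▸ inf_le_right))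
  refine hMP.not_ge fun g hg => ?_
  have hsyl : IsSylowTwoIn S (P ⊓ N) := by
    refine ⟨le_inf hP.le hS, hP.two, ?_⟩
    exact Odd.of_dvd_nat hP.odd
      (Dvd.intro _ (Subgroup.relIndex_mul_relIndex S (P ⊓ N) P (le_inf hP.le hS) inf_le_left))
  obtain ⟨l, hl, hlS⟩ := CfsgLib.JComp.exists_conj_le hsyl (hP.two.map (MulAut.conj g).toMonoidHom) (by
    rintro _ ⟨s, hs, rfl⟩
    exact ⟨P.mul_mem (P.mul_mem hg (hP.le hs)) (P.inv_mem hg),
      (Subgroup.mem_normalizer_iff.mp (hn hg) s).mp (hS hs)⟩)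
  have hlg : l * g ∈ P ⊓ Subgroup.normalizer (S : Set G) := by
    refine ⟨P.mul_mem hl.1 hg, CfsgLib.JComp.mem_normalizer_of_conj_mem fun s hs => hlS ?_⟩
    exact ⟨g * s * g⁻¹, ⟨s, hs, rfl⟩, by simp [mul_assoc]⟩
  have := M.mul_mem (M.inv_mem (h1 hl)) (h2 hlg)
  rwa [inv_mul_cancel_left] at this

/-- **In a common local the elements of odd order of two parabolics permute each other.** -/
theorem swap_odd (h : Thirteen G) {P' L : Subgroup G} (hF : Frame S L) [Group.IsSolvable L] (hP : Parab S P)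
    (hP' : Parab S P') (hPL : P ≤ L) (hP'L : P' ≤ L) (hne : pCoreOf 2 P' ≠ pCoreOf 2 P) :
    ∀ g ∈ P, Odd (orderOf g) → ∀ g' ∈ P', Odd (orderOf g') → g' * g * g'⁻¹ ∈ P := by
  classical
  haveI : Fact (Nat.Prime 2) := ⟨Nat.prime_two⟩
  set K := pCore 2 L with hK
  haveI : K.Normal := by rw [hK]; infer_instance
  have hK2 : IsPGroup 2 K := CfsgLib.isPGroup_pCore 2
  have hC := hF.cent_group
  have hO : pCore 2 (L ⧸ K) = ⊥ := CfsgLib.ZJ.pCore_quotient_pCore_eq_bot
  obtain ⟨⟨V, hV1, hV2, a⟩⟩ := (h.subgroup L).frat_act K hK2 hC hO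
  set π := QuotientGroup.mk' K with hπ
  have hπs : Function.Surjective π := QuotientGroup.mk'_surjective K
  set T0 := S.subgroupOf L with hT0
  have hT02 : IsPGroup 2 T0 := hF.two.comap_of_injective L.subtype L.subtype_injective
  have hodd0 : ¬ 2 ∣ T0.index := fun hd => Nat.not_even_iff_odd.mpr hF.odd (even_iff_two_dvd.mpr hd)
  set T := T0.map π with hT
  have hKT : K ≤ T0 := by
    rw [hK, ← core_subgroupOf]; exact Subgroup.comap_mono hF.core_le_T
  obtain ⟨F, hFn, hFT, hdisj, hcentral⟩ :=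
    a.complement hO (hT02.map π) (fun hd => hodd0 (hd.trans (Subgroup.index_map_dvd T0 hπs)))
  haveI := hFn
  -- odd elements of a parabolic map into the normal subgroup
  have hodd : ∀ {R : Subgroup G}, Parab S R → ∀ (hR : R ≤ L) (g : G) (hg : g ∈ R), Odd (orderOf g) →
      π ⟨g, hR hg⟩ ∈ F := by
    intro R hR hRL g hg hgo
    set N := ((F ⊔ T).comap π).map L.subtype with hN
    have hgN : g ∈ N := by
      refine Parab.le_normal (N := N) hR (fun s hs => ⟨⟨s, hF.le hs⟩, Subgroup.mem_comap.mpr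
        (Subgroup.mem_sup_right (Subgroup.mem_map_of_mem π (show (⟨s, hF.le hs⟩ : L) ∈ T0 from hs))), rfl⟩)
        (fun r hr => ?_) hg
      refine mem_normalizer_of_cj_le ?_
      rintro _ ⟨v, hv, rfl⟩
      exact ⟨⟨r, hRL hr⟩ * v * (⟨r, hRL hr⟩ : L)⁻¹, (hFT.comap π).conj_mem v hv _, rfl⟩
    obtain ⟨v, hv, hve⟩ := hgN
    have hv' : v = ⟨g, hRL hg⟩ := Subtype.ext hve
    subst hv'
    obtain ⟨f, hf, t, ht, hft⟩ := Subgroup.mem_sup_of_normal_left.mp (Subgroup.mem_comap.mp hv)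
    obtain ⟨k, hk⟩ := (hT02.map π) ⟨t, ht⟩
    refine (QuotientGroup.eq_one_iff (N := F) _).mp (eq_one_of_odd_two ?_ (k := k) ?_)
    · refine Odd.of_dvd_nat hgo ?_
      have h1 := orderOf_map_dvd ((QuotientGroup.mk' F).comp π) (⟨g, hRL hg⟩ : L)
      rwa [← Subgroup.orderOf_coe (⟨g, hRL hg⟩ : L)] at h1
    · rw [← hft, QuotientGroup.mk_mul, (QuotientGroup.eq_one_iff f).mpr hf, one_mul, ← QuotientGroup.mk_pow,
        show t ^ 2 ^ k = 1 from congrArg Subtype.val hk, QuotientGroup.mk_one]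
  have hone : ∀ v : L, π v = 1 → (v : G) ∈ S := fun v hv => hKT ((QuotientGroup.eq_one_iff v).mp hv)
  have hFT1 : ∀ v : L, (v : G) ∈ S → π v ∈ F → π v = 1 := fun v hv hvF =>
    Subgroup.mem_bot.mp (hdisj ▸ (⟨hvF, Subgroup.mem_map_of_mem π (show v ∈ T0 from hv)⟩ : π v ∈ F ⊓ T))
  -- the core of a parabolic is what fixes its elements of odd order
  have hcore : ∀ {R : Subgroup G}, Parab S R → ∀ (hR : R ≤ L) (s : G) (hs : s ∈ S),
      s ∈ pCoreOf 2 R ↔ ∀ g (hg : g ∈ R), Odd (orderOf g) →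
        Commute (π ⟨g, hR hg⟩) (π ⟨s, hF.le hs⟩) := by
    intro R hR hRL s hs
    constructor
    · intro hsQ g hg hgo
      refine mul_inv_eq_iff_eq_mul.mp (mul_inv_eq_one.mp ?_)
      rw [← map_inv, ← map_inv, ← map_mul, ← map_mul, ← map_mul]
      refine hFT1 _ (hR.core_le_T ?_) ?_
      · exact mul_mem ((Subgroup.mem_normalizer_iff.mp (le_normalizer_core R hg) s).mp hsQ) (inv_mem hsQ)
      · rw [map_mul, map_mul, map_mul, map_inv, map_inv, mul_assoc, mul_assoc]
        exact mul_mem (hodd hR hRL g hg hgo)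
          (by rw [← mul_assoc]; exact hFn.conj_mem _ (inv_mem (hodd hR hRL g hg hgo)) _)
    · intro hall
      set W := (Subgroup.centralizer (π '' {v : L | (v : G) ∈ R ∧ Odd (orderOf (v : G))})).comap π with hW
      set C := S ⊓ W.map L.subtype with hCd
      have hW' : ∀ {v : L}, v ∈ W ↔
          ∀ g (hg : g ∈ R), Odd (orderOf g) → Commute (π ⟨g, hRL hg⟩) (π v) := fun {v} => by
        rw [hW, Subgroup.mem_comap, Subgroup.mem_centralizer_iff]
        constructor
        · exact fun h1 g hg hgo => h1 _ ⟨⟨g, hRL hg⟩, ⟨hg, hgo⟩, rfl⟩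
        · rintro h1 _ ⟨w, ⟨hw, hwo⟩, rfl⟩
          exact (h1 w hw hwo).eq
      have hsC : s ∈ C := ⟨hs, ⟨s, hF.le hs⟩, hW'.mpr hall, rfl⟩
      refine le_core (inf_le_left.trans hR.le) ?_ (hF.two.to_le inf_le_left) hsC
      refine Frame.le_of_odd hR.toFrame (fun t ht => mem_normalizer_of_cj_le ?_) fun g hg hgo =>
        mem_normalizer_of_cj_le ?_
      · rintro c ⟨hc, ⟨v, hv, rfl⟩⟩
        refine ⟨S.mul_mem (S.mul_mem ht hc) (S.inv_mem ht),
          ⟨⟨t, hF.le ht⟩ * v * (⟨t, hF.le ht⟩ : L)⁻¹, hW'.mpr fun g hg hgo => ?_, rfl⟩⟩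
        have hg' : t⁻¹ * g * t ∈ R := R.mul_mem (R.mul_mem (R.inv_mem (hR.le ht)) hg) (hR.le ht)
        have hgo' : Odd (orderOf (t⁻¹ * g * t)) := by
          have : t⁻¹ * g * t = MulAut.conj t⁻¹ g := by simp
          rw [this, MulEquiv.orderOf_eq]; exact hgo
        have h1 := hW'.mp hv _ hg' hgo'
        have e1 : (⟨t⁻¹ * g * t, hRL hg'⟩ : L) = (⟨t, hF.le ht⟩ : L)⁻¹ * ⟨g, hRL hg⟩ * ⟨t, hF.le ht⟩ := rfl
        rw [e1, map_mul, map_mul, map_inv] at h1
        rw [map_mul, map_mul, map_inv]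
        have h2 := (Commute.map h1 (MulAut.conj (π ⟨t, hF.le ht⟩)).toMonoidHom)
        simpa [mul_assoc] using h2
      · rintro c ⟨hc, ⟨v, hv, rfl⟩⟩
        have h1 : π (⟨g, hRL hg⟩ * v * (⟨g, hRL hg⟩ : L)⁻¹) = π v := by
          rw [map_mul, map_mul, map_inv, (hW'.mp hv g hg hgo).eq, mul_inv_cancel_right]
        refine ⟨?_, ⟨_, hW'.mpr fun g' hg' hgo' => h1.symm ▸ hW'.mp hv g' hg' hgo', rfl⟩⟩
        have h2 : π (⟨g, hRL hg⟩ * v * (⟨g, hRL hg⟩ : L)⁻¹ * v⁻¹) = 1 := by rw [map_mul, h1, map_inv, mul_inv_cancel]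
        have h3 := mul_mem (hone _ h2) hc
        simpa using h3
  intro g hg hgo g' hg' hgo'
  have hc : Commute (π ⟨g', hP'L hg'⟩) (π ⟨g, hPL hg⟩) := by
    have hsep : (∃ s ∈ S, s ∈ pCoreOf 2 P ∧ s ∉ pCoreOf 2 P') ∨ ∃ s ∈ S, s ∈ pCoreOf 2 P' ∧ s ∉ pCoreOf 2 P := by
      by_contra hno
      push Not at hno
      exact hne (le_antisymm (fun s hs => hno.2 s (hP'.core_le_T hs) hs) fun s hs => hno.1 s (hP.core_le_T hs) hs)
    have hne1 : ∀ {R : Subgroup G} (hR : Parab S R) (hRL : R ≤ L) {s : G} (hs : s ∈ S), s ∉ pCoreOf 2 R →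
        π ⟨s, hF.le hs⟩ ≠ 1 := fun hR hRL s hs hsQ h1 =>
      hsQ ((hcore hR hRL s hs).mpr fun g hg hgo => by rw [h1]; exact Commute.one_right _)
    rcases hsep with ⟨s, hs, hsP, hsP'⟩ | ⟨s, hs, hsP', hsP⟩
    · exact (hcentral _ (Subgroup.mem_map_of_mem π (show (⟨s, hF.le hs⟩ : L) ∈ T0 from hs)) (hne1 hP' hP'L hs hsP')
        _ (hodd hP hPL g hg hgo) ((hcore hP hPL s hs).mp hsP g hg hgo) _ (hodd hP' hP'L g' hg' hgo')).symm
    · exact hcentral _ (Subgroup.mem_map_of_mem π (show (⟨s, hF.le hs⟩ : L) ∈ T0 from hs)) (hne1 hP hPL hs hsP)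
        _ (hodd hP' hP'L g' hg' hgo') ((hcore hP' hP'L s hs).mp hsP' g' hg' hgo') _ (hodd hP hPL g hg hgo)
  have h1 : π (⟨g', hP'L hg'⟩ * ⟨g, hPL hg⟩ * (⟨g', hP'L hg'⟩ : L)⁻¹ * (⟨g, hPL hg⟩ : L)⁻¹) = 1 := by
    rw [map_mul, map_mul, map_mul, map_inv, map_inv, hc.eq, mul_inv_cancel_right, mul_inv_cancel]
  have h2 := mul_mem (hP.le (hone _ h1)) hg
  simpa using h2

end CfsgLib.SpecThirteen
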