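import Cfsg.Agent.Lib.SpecThirteen.Common
import Cfsg.Agent.Lib.SpecThirteen.TopLocal
import Cfsg.Agent.Lib.SpecThirteen.CoreThree
import Cfsg.Agent.Lib.SpecThirteen.Orders
import Cfsg.Agent.Lib.SpecSix.Straddle
import Cfsg.Agent.S0112
import Cfsg.Agent.S0113
import Cfsg.Agent.S1232

/-!
Element orders in `{1, 2, 3, 4, 6, 8, 13}`, the simple case: a subgroup containing every 2-local over a Sylow
2-subgroup is strongly embedded, so there is no such subgroup, and no such group.
-/

set_option autoImplicit false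
set_option linter.unusedSectionVars false
set_option linter.style.haveILetI false

namespace CfsgLib.SpecThirteen

open Cfsg
open CfsgLib.SpecSix (Frame Parab Half centralInvol core_le core_isPGroup le_normalizer_core le_of_parab sylow_odd
  isMulCommutative_of_sq)
open scoped Pointwise

universe u

/-- A group with a cyclic subgroup of index two has sectional rank at most four. -/
theorem sectional_of_cyclic {S : Type u} [Group S] [Finite S] (C : Subgroup S) (hC : IsCyclic C)
    (hidx : C.index = 2) : SectionalPRankLE 2 4 S := by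
  intro H N _ E hE hexp
  haveI : Fact (Nat.Prime 2) := ⟨Nat.prime_two⟩
  set π := QuotientGroup.mk' N with hπ
  set C' := (C.subgroupOf H).map π with hC'
  have h1 : Nat.card E ≤ 2 * Nat.card ↥(E ⊓ C') := card_le_two fun b hb c hc hbC hcC => by
    obtain ⟨b', rfl⟩ := QuotientGroup.mk'_surjective N b
    obtain ⟨c', rfl⟩ := QuotientGroup.mk'_surjective N c
    refine ⟨b'⁻¹ * c', ?_, by rw [map_mul, map_inv]⟩
    refine (Subgroup.mul_mem_iff_of_index_two hidx (a := ((b' : S))⁻¹) (b := (c' : S))).mpr (iff_of_false ?_ ?_)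
    · exact fun h => hbC ⟨b', inv_mem_iff.mp h, rfl⟩
    · exact fun h => hcC ⟨c', h, rfl⟩
  haveI := hC
  haveI hcyc : IsCyclic ↥(C.subgroupOf H) :=
    isCyclic_of_injective (H.subtype.subgroupComap C) fun v w e => Subtype.ext (Subtype.ext (congrArg Subtype.val e :))
  have h2 : Nat.card ↥(E ⊓ C') ≤ 2 := by
    haveI : IsCyclic ↥C' := isCyclic_of_surjective (π.subgroupMap _) (π.subgroupMap_surjective _)
    haveI : IsCyclic ↥(E ⊓ C') := isCyclic_of_injective (Subgroup.inclusion inf_le_right)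
      (Subgroup.inclusion_injective _)
    obtain ⟨v, hv⟩ := IsCyclic.exists_generator (α := ↥(E ⊓ C'))
    rw [← orderOf_eq_card_of_forall_mem_zpowers hv]
    exact Nat.le_of_dvd (by norm_num) (orderOf_dvd_of_pow_eq_one
      (Subtype.ext (by simpa using hexp v.1 v.2.1)))
  omega

variable {G : Type u} [Group G] [Finite G]

namespace Hyp

variable (H : Hyp G)
include H

theorem sylow_frame (S : Sylow 2 G) :
    Frame (S : Subgroup G) (Subgroup.normalizer ((S : Subgroup G) : Set G)) :=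
  H.frame_over S S.isPGroup' (H.sylow_ne_bot S) Subgroup.le_normalizer le_rfl

/-- **A subgroup containing all 2-locals over a Sylow 2-subgroup is strongly embedded.** -/
theorem strongly_embedded (S : Sylow 2 G) (M : Subgroup G) (hM : M ≠ ⊤)
    (hU : ∀ L : Subgroup G, IsTwoLocal L → (S : Subgroup G) ≤ L → L ≤ M) : IsStronglyEmbedded M := by
  classical
  by_contra hnse
  haveI : Fact (Nat.Prime 2) := ⟨Nat.prime_two⟩
  haveI := H.nontrivial
  have hS1 : (S : Subgroup G) ≠ ⊥ := H.sylow_ne_bot S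
  have hSM : (S : Subgroup G) ≤ M :=
    Subgroup.le_normalizer.trans (hU _ ⟨S, S.isPGroup', hS1, rfl⟩ Subgroup.le_normalizer)
  have hSylM : IsSylowTwoIn (S : Subgroup G) M := by
    refine ⟨hSM, S.isPGroup', ?_⟩
    rw [← Nat.not_even_iff_odd]
    exact fun hev => S.not_dvd_index ((even_iff_two_dvd.mp hev).trans
      (Dvd.intro _ (Subgroup.relIndex_mul_index hSM)))
  -- some 2-subgroup of `M` has its normalizer outside
  obtain ⟨R0, hR02, hR01, hR0M, hR0N⟩ : ∃ R : Subgroup G, IsPGroup 2 R ∧ R ≠ ⊥ ∧ R ≤ M ∧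
      ¬ Subgroup.normalizer (R : Set G) ≤ M := by
    by_contra hno
    push Not at hno
    have h2M : Even (Nat.card M) := by
      obtain ⟨n, hn⟩ := IsPGroup.iff_card.mp S.isPGroup'
      have hn0 : n ≠ 0 := fun e => hS1 (Subgroup.card_eq_one.mp (by rw [hn, e, pow_zero]))
      exact even_iff_two_dvd.mpr ((hn ▸ dvd_pow_self 2 hn0).trans (Subgroup.card_dvd_of_le hSM))
    refine hnse ⟨hM, h2M, fun g hg => ?_⟩
    rw [← Nat.not_even_iff_odd]
    intro hev
    set D := M ⊓ M.map (MulAut.conj g).toMonoidHom with hD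
    obtain ⟨Q0⟩ : Nonempty (Sylow 2 ↥D) := inferInstance
    set Q := (Q0 : Subgroup ↥D).map D.subtype with hQ
    have hQp : IsPGroup 2 ↥Q := Q0.isPGroup'.map _
    have hQD : Q ≤ D := Subgroup.map_subtype_le _
    have hQ1 : Q ≠ ⊥ := by
      intro e
      have hb : (Q0 : Subgroup ↥D) = ⊥ := (Subgroup.map_eq_bot_iff_of_injective _ D.subtype_injective).mp e
      have := Q0.not_dvd_index
      rw [hb, Subgroup.index_bot] at this
      exact this (even_iff_two_dvd.mp hev)
    set Q' := Q.map (MulAut.conj g⁻¹).toMonoidHom with hQ'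
    have hQ'M : Q' ≤ M := by
      rintro _ ⟨q, hq, rfl⟩
      obtain ⟨m, hm, e⟩ := (hQD hq).2
      rw [← e]
      simpa [mul_assoc] using hm
    have hQ'1 : Q' ≠ ⊥ := fun e => hQ1
      ((Subgroup.map_eq_bot_iff_of_injective _ (MulEquiv.injective (MulAut.conj g⁻¹))).mp e)
    have hND : Subgroup.normalizer (Q : Set G) ≤ D := by
      refine le_inf (hno Q hQp hQ1 (hQD.trans inf_le_left)) fun n hn => ⟨g⁻¹ * n * g, ?_, by simp [mul_assoc]⟩
      refine hno Q' (hQp.map _) hQ'1 hQ'M (CfsgLib.JComp.mem_normalizer_of_conj_mem ?_)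
      rintro _ ⟨q, hq, rfl⟩
      exact ⟨n * q * n⁻¹, (Subgroup.mem_normalizer_iff.mp hn q).mp hq, by simp [mul_assoc]⟩
    obtain ⟨P, hQP⟩ := hQp.exists_le_sylow
    have hPQ : (P : Subgroup G) = Q := by
      by_contra hne
      have h := CfsgLib.JComp.exists_normalizer_gt P.isPGroup' (lt_of_le_of_ne hQP (Ne.symm hne))
      set Q2 := (P : Subgroup G) ⊓ Subgroup.normalizer (Q : Set G) with hQ2
      have hQ2D : Q2 ≤ D := inf_le_right.trans hND
      have h2 : Q2.subgroupOf D = (Q0 : Subgroup ↥D) :=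
        Q0.is_maximal' ((P.isPGroup'.to_le inf_le_left).comap_of_injective D.subtype D.subtype_injective)
          fun q hq => h.le ⟨q, hq, rfl⟩
      refine h.2 ?_
      rw [← Subgroup.map_subgroupOf_eq_of_le hQ2D, h2]
    have hPM : (P : Subgroup G) ≤ M := hPQ ▸ hQD.trans inf_le_left
    have hP'M : ((g⁻¹ • P : Sylow 2 G) : Subgroup G) ≤ M := by
      have hcoe : ((g⁻¹ • P : Sylow 2 G) : Subgroup G) = (P : Subgroup G).map (MulAut.conj g⁻¹).toMonoidHom := rfl
      rw [hcoe, hPQ]; exact hQ'M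
    obtain ⟨m, hm⟩ := MulAction.exists_smul_eq ↥M (P.subtype hPM) ((g⁻¹ • P).subtype hP'M)
    rw [Sylow.smul_subtype] at hm
    have heq : (m : G) • P = g⁻¹ • P := Sylow.subtype_injective hm
    have hN : g * (m : G) ∈ Subgroup.normalizer ((P : Subgroup G) : Set G) := by
      exact Sylow.smul_eq_iff_mem_normalizer.mp (by rw [mul_smul, heq, smul_inv_smul])
    have hgm : g * (m : G) ∈ M := hno _ P.isPGroup' (hPQ ▸ hQ1) hPM hN
    have := M.mul_mem hgm (M.inv_mem m.2)
    rw [mul_inv_cancel_right] at this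
    exact hg this
  -- conjugates into `S` keep the property
  have hmove : ∀ U R : Subgroup G, IsPGroup 2 U → U ≤ M → R ≤ U → U ≤ Subgroup.normalizer (R : Set G) →
      R ≠ ⊥ → ¬ Subgroup.normalizer (R : Set G) ≤ M →
      ∃ U' : Subgroup G, Nat.card U' = Nat.card U ∧ U' ≤ (S : Subgroup G) ∧ ∃ R' : Subgroup G, R' ≠ ⊥ ∧ R' ≤ U' ∧
        U' ≤ Subgroup.normalizer (R' : Set G) ∧ ¬ Subgroup.normalizer (R' : Set G) ≤ M := by
    intro U R hU2 hUM hRU hUR hR1 hRN
    obtain ⟨l, hl, hlS⟩ := CfsgLib.JComp.exists_conj_le hSylM hU2 hUM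
    refine ⟨_, Subgroup.card_map_of_injective (MulAut.conj l).injective, hlS,
      R.map (MulAut.conj l).toMonoidHom, ?_, Subgroup.map_mono hRU, ?_, ?_⟩
    · exact fun e => hR1 ((Subgroup.map_eq_bot_iff_of_injective _ (MulAut.conj l).injective).mp e)
    · rintro _ ⟨a, ha, rfl⟩
      refine CfsgLib.JComp.mem_normalizer_of_conj_mem ?_
      rintro _ ⟨r, hr, rfl⟩
      exact ⟨a * r * a⁻¹, (Subgroup.mem_normalizer_iff.mp (hUR ha) r).mp hr, by simp [mul_assoc]⟩
    · intro hle
      refine hRN fun n hn => ?_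
      have h1 : l * n * l⁻¹ ∈ M := by
        refine hle (CfsgLib.JComp.mem_normalizer_of_conj_mem ?_)
        rintro _ ⟨r, hr, rfl⟩
        exact ⟨n * r * n⁻¹, (Subgroup.mem_normalizer_iff.mp hn r).mp hr, by simp [mul_assoc]⟩
      have := M.mul_mem (M.mul_mem (M.inv_mem hl) h1) hl
      rwa [show l⁻¹ * (l * n * l⁻¹) * l = n by group] at this
  -- a largest straddling subgroup of `S`
  set A : Set (Subgroup G) := {U | U ≤ (S : Subgroup G) ∧ ∃ R : Subgroup G, R ≠ ⊥ ∧ R ≤ U ∧
    U ≤ Subgroup.normalizer (R : Set G) ∧ ¬ Subgroup.normalizer (R : Set G) ≤ M} with hA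
  have hAne : A.Nonempty := by
    obtain ⟨U', -, hU'⟩ := hmove R0 R0 hR02 hR0M le_rfl Subgroup.le_normalizer hR01 hR0N
    exact ⟨U', hU'⟩
  obtain ⟨T, ⟨hTS, R, hR1, hRT, hTR, hRN⟩, hTmax⟩ :=
    Set.Finite.exists_maximalFor (fun U : Subgroup G => Nat.card U) A A.toFinite hAne
  have hmaxA : ∀ U ∈ A, Nat.card U ≤ Nat.card T := fun U hU => by
    rcases le_total (Nat.card U) (Nat.card T) with h | h
    · exact h
    · exact hTmax hU h
  have hT2 : IsPGroup 2 T := S.isPGroup'.to_le hTS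
  have hTS' : T < (S : Subgroup G) := lt_of_le_of_ne hTS fun e =>
    hRN (hU _ ⟨R, hT2.to_le hRT, hR1, rfl⟩ (e ▸ hTR))
  -- an element of `S` squaring into `T` and normalising it
  obtain ⟨s, hsS, hsT, hsN, hs2⟩ : ∃ s ∈ (S : Subgroup G), s ∉ T ∧ s ∈ Subgroup.normalizer (T : Set G) ∧
      s * s ∈ T := by
    obtain ⟨-, hlt⟩ := CfsgLib.JComp.exists_normalizer_gt S.isPGroup' hTS'
    obtain ⟨s0, ⟨hs0S, hs0N⟩, hs0T⟩ := SetLike.not_le_iff_exists.mp hlt
    obtain ⟨k, hk⟩ := S.isPGroup' ⟨s0, hs0S⟩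
    have hex : ∃ j, s0 ^ 2 ^ j ∈ T := ⟨k, by rw [show s0 ^ 2 ^ k = 1 from congrArg Subtype.val hk]; exact one_mem _⟩
    set j := Nat.find hex with hj
    have hj0 : j ≠ 0 := fun e => hs0T (by
      have := Nat.find_spec hex
      rwa [← hj, e, pow_zero, pow_one] at this)
    obtain ⟨i, hi⟩ := Nat.exists_eq_succ_of_ne_zero hj0
    refine ⟨s0 ^ 2 ^ i, pow_mem hs0S _, Nat.find_min hex (by omega), Subgroup.pow_mem _ hs0N _, ?_⟩
    have := Nat.find_spec hex
    rw [← hj, hi] at this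
    rwa [← pow_add, ← two_mul, ← pow_succ']
  have hbig : ∀ C : Subgroup G, C ≠ ⊥ → C ≤ T → T ≤ Subgroup.normalizer (C : Set G) →
      s ∈ Subgroup.normalizer (C : Set G) → Subgroup.normalizer (C : Set G) ≤ M := by
    intro C hC1 hCT hTC hsC
    by_contra hCN
    have h1 : T ⊔ Subgroup.zpowers s ∈ A := ⟨sup_le hTS (Subgroup.zpowers_le.mpr hsS), C, hC1,
      hCT.trans le_sup_left, sup_le hTC (Subgroup.zpowers_le.mpr hsC), hCN⟩
    have h2 := SpecSix.card_double (lt_of_le_of_ne (le_sup_left : T ≤ T ⊔ Subgroup.zpowers s) fun e =>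
      hsT (e ▸ Subgroup.mem_sup_right (Subgroup.mem_zpowers s)))
    have := hmaxA _ h1
    have := Nat.card_pos (α := T)
    omega
  have hT1 : T ≠ ⊥ := fun e => hR1 (le_bot_iff.mp (e ▸ hRT))
  have hNT : Subgroup.normalizer (T : Set G) ≤ M := hbig T hT1 le_rfl Subgroup.le_normalizer hsN
  set N := Subgroup.normalizer (R : Set G) with hN
  have hodd : Odd (T.relIndex N) := by
    obtain ⟨P, hP⟩ := (hT2.comap_of_injective N.subtype N.subtype_injective :
      IsPGroup 2 (T.subgroupOf N)).exists_le_sylow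
    set T1 := (P : Subgroup N).map N.subtype with hT1d
    have hle : T ≤ T1 := fun t ht => ⟨⟨t, hTR ht⟩, hP ht, rfl⟩
    have hT12 : IsPGroup 2 T1 := P.isPGroup'.map _
    rcases eq_or_lt_of_le hle with e | e
    · rw [e, hT1d, ← Nat.not_even_iff_odd, even_iff_two_dvd, Subgroup.relIndex, Subgroup.subgroupOf,
        Subgroup.comap_map_eq_self_of_injective N.subtype_injective]
      exact P.not_dvd_index
    · exfalso
      have hlt := CfsgLib.JComp.exists_normalizer_gt hT12 e
      obtain ⟨U', hcU, hU'⟩ := hmove _ R (hT12.to_le inf_le_left) (inf_le_right.trans hNT)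
        (hRT.trans hlt.le) (inf_le_left.trans (Subgroup.map_subtype_le _)) hR1 hRN
      have h1 := hmaxA _ hU'
      have h2 := SpecSix.card_double hlt
      have := Nat.card_pos (α := T)
      omega
  -- a parabolic outside `M`
  obtain ⟨P, hPN, hP, hPM⟩ : ∃ P : Subgroup G, P ≤ N ∧ Parab T P ∧ ¬ P ≤ M := by
    by_contra hno
    push Not at hno
    exact hRN (le_of_parab hTR (fun K hK hKN => Frame.of_char2 H.char2 (hT2.to_le hRT) hR1 hKN hK hT2 hodd)
      (inf_le_right.trans hNT) hno)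
  rcases H.cases hP with ⟨x, hx⟩ | ⟨A', e, hf⟩
  rotate_left
  · refine hPM (hf.le_normalizer_jFull.trans ?_)
    have hnT : T ≤ Subgroup.normalizer (jFull T : Set G) := Subgroup.le_normalizer.trans normalizer_le_jFull
    exact hbig _ (jFull_ne_bot hT2 hT1) jFull_le hnT (normalizer_le_jFull hsN)
  rcases Half.char_or_elementary hx H.thirteen with ⟨C, hC1, hCT, hPC, hTC⟩ | hsq
  · exact hPM (hPC.trans (hbig C hC1 hCT (Subgroup.le_normalizer.trans hTC) (hTC hsN)))
  set Q := pCoreOf 2 P with hQ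
  have hQT := hP.core_le_T
  have hQ1 : Q ≠ ⊥ := hP.toFrame.core_ne_bot
  have hPQ : P ≤ Subgroup.normalizer (Q : Set G) := le_normalizer_core P
  have hsQ : s ∉ Subgroup.normalizer (Q : Set G) := fun hsQ =>
    hPM (hPQ.trans (hbig Q hQ1 hQT (hP.le.trans hPQ) hsQ))
  set Q' := Q.map (MulAut.conj s).toMonoidHom with hQ'
  have hne : Q' ≠ Q := fun e => hsQ (CfsgLib.Local.mem_normalizer_of_map_conj_eq e)
  have hQ'T : Q' ≤ T := by
    rintro _ ⟨q, hq, rfl⟩
    exact (Subgroup.mem_normalizer_iff.mp hsN q).mp (hQT hq)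
  have hcardQ' : Nat.card Q' = Nat.card Q := Subgroup.card_map_of_injective (MulAut.conj s).injective
  have hQc : ∀ v ∈ Q, ∀ w ∈ Q, v * w = w * v := fun v hv w hw => by
    haveI := isMulCommutative_of_sq hsq
    exact congrArg Subtype.val (IsMulCommutative.is_comm.comm (⟨v, hv⟩ : Q) ⟨w, hw⟩)
  have hQ'c : ∀ v ∈ Q', ∀ w ∈ Q', v * w = w * v := by
    rintro _ ⟨v, hv, rfl⟩ _ ⟨w, hw, rfl⟩
    rw [← map_mul, ← map_mul, hQc v hv w hw]
  obtain ⟨t0, ht0, ht0Q⟩ : ∃ t ∈ Q', t ∉ Q := SetLike.not_le_iff_exists.mp fun hle =>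
    hne (Subgroup.eq_of_le_of_card_ge hle hcardQ'.ge)
  -- the intersection is central in `T` and has index two in the core
  set D := Q ⊓ Q' with hD
  have hD2 : Nat.card Q ≤ 2 * Nat.card D := by
    have h1 : Nat.card Q' ≤ 2 * Nat.card ↥(Q' ⊓ Q) := card_le_two fun b hb c hc hbQ hcQ =>
      (hx.par (inv_mem (hQ'T hb)) (hQ'T hc)).mpr (iff_of_false (fun h => hbQ (inv_mem_iff.mp h)) hcQ)
    rw [inf_comm] at h1
    rw [← hcardQ']; exact h1
  have hDcent : ∀ d ∈ D, ∀ v ∈ T, v * d = d * v := by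
    intro d hd v hv
    by_cases hvQ : v ∈ Q
    · exact hQc v hvQ d hd.1
    · have h1 : t0⁻¹ * v ∈ Q :=
        (hx.par (inv_mem (hQ'T ht0)) hv).mpr (iff_of_false (fun h => ht0Q (inv_mem_iff.mp h)) hvQ)
      have c1 : Commute t0 d := hQ'c t0 ht0 d hd.2
      have c2 : Commute (t0⁻¹ * v) d := hQc _ h1 d hd.1
      have := c1.mul_left c2
      rwa [mul_inv_cancel_left] at this
  have hsD : ∀ d ∈ D, s * d * s⁻¹ ∈ D := by
    rintro d ⟨hd1, q, hq, rfl⟩
    refine ⟨?_, ⟨_, hd1, rfl⟩⟩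
    show s * (s * q * s⁻¹) * s⁻¹ ∈ Q
    have e : s * (s * q * s⁻¹) * s⁻¹ = (s * s) * q * (s * s)⁻¹ := by group
    rw [e]
    exact (Subgroup.mem_normalizer_iff.mp (hPQ (hP.le hs2)) q).mp hq
  -- its part centralised by the parabolic
  set E := D ⊓ D.map (MulAut.conj x).toMonoidHom with hE
  have hDxQ : D.map (MulAut.conj x).toMonoidHom ≤ Q := by
    rintro _ ⟨d, hd, rfl⟩; exact hx.conjQ hx.mem hd.1
  have hEx : ∀ v ∈ E, x * v = v * x := by
    rintro v ⟨hvD, d, hd, rfl⟩
    set v := (MulAut.conj x).toMonoidHom d with hv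
    have ht0T := hQ'T ht0
    obtain ⟨q, hq, hxq⟩ := hx.swap ht0T ht0Q
    have c1 : Commute t0 v := hDcent v hvD t0 ht0T
    have c2 : Commute (x * t0⁻¹ * x⁻¹) v := by
      rw [hv]
      exact (show Commute t0⁻¹ d from (show Commute t0 d from hDcent d hd t0 ht0T).inv_left).map
        (MulAut.conj x).toMonoidHom
    have c3 : Commute (q⁻¹ * (t0 * (x * t0⁻¹ * x⁻¹))) v :=
      (show Commute q v from hQc q hq v hvD.1).inv_left.mul_left (c1.mul_left c2)
    have e : q⁻¹ * (t0 * (x * t0⁻¹ * x⁻¹)) = x := by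
      calc q⁻¹ * (t0 * (x * t0⁻¹ * x⁻¹)) = q⁻¹ * (t0 * x * t0⁻¹) * x⁻¹ := by group
        _ = (x⁻¹ * x⁻¹) := by rw [hxq]; group
        _ = x := by rw [← mul_inv_rev, ← hx.inv_eq, inv_inv]
    exact e ▸ c3
  set K := E ⊓ E.map (MulAut.conj s).toMonoidHom with hK
  have hK1 : K = ⊥ := by
    by_contra hK1
    have hKT : K ≤ T := fun v hv => hQT hv.1.1.1
    have hKP : P ≤ Subgroup.normalizer (K : Set G) := by
      rw [← hx.gen]
      refine sup_le (fun v hv => ?_) (Subgroup.zpowers_le.mpr ?_) <;>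
        refine CfsgLib.JComp.mem_normalizer_of_conj_mem fun w hw => ?_
      · rwa [hDcent w hw.1.1 v hv, mul_inv_cancel_right]
      · rwa [hEx w hw.1, mul_inv_cancel_right]
    have hsK : s ∈ Subgroup.normalizer (K : Set G) := by
      refine CfsgLib.JComp.mem_normalizer_of_conj_mem ?_
      rintro w ⟨hwE, v, hv, rfl⟩
      refine ⟨?_, ⟨_, hwE, rfl⟩⟩
      show s * (s * v * s⁻¹) * s⁻¹ ∈ E
      have e : s * (s * v * s⁻¹) * s⁻¹ = (s * s) * v * (s * s)⁻¹ := by group
      rw [e, hDcent v hv.1 _ hs2, mul_inv_cancel_right]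
      exact hv
    exact hPM (hKP.trans (hbig K hK1 hKT (hP.le.trans hKP) hsK))
  -- so the core has order at most eight
  have hQ8 : Nat.card Q ≤ 8 := by
    have hcx : Nat.card (D.map (MulAut.conj x).toMonoidHom) = Nat.card D :=
      Subgroup.card_map_of_injective (MulAut.conj x).injective
    have hcs : Nat.card (E.map (MulAut.conj s).toMonoidHom) = Nat.card E :=
      Subgroup.card_map_of_injective (MulAut.conj s).injective
    have hsum : ∀ {X Y W : Subgroup G}, X ≤ Subgroup.normalizer (Y : Set G) → X ≤ W → Y ≤ W →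
        Nat.card X * Nat.card Y ≤ Nat.card W * Nat.card ↥(X ⊓ Y) := fun {X Y W} hn hX hY => by
      rw [← CfsgLib.JComp.card_sup_mul_card_inf hn]
      exact Nat.mul_le_mul_right _ (Subgroup.card_le_of_le (sup_le hX hY))
    have habn : ∀ {X Y : Subgroup G}, X ≤ Q → Y ≤ Q → X ≤ Subgroup.normalizer (Y : Set G) := fun hX hY v hv =>
      CfsgLib.JComp.mem_normalizer_of_conj_mem fun w hw => by
        rwa [hQc v (hX hv) w (hY hw), mul_inv_cancel_right]
    have h1 := hsum (W := Q) (habn inf_le_left hDxQ) (inf_le_left : D ≤ Q) hDxQ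
    rw [hcx, ← hE] at h1
    have hEsD : E.map (MulAut.conj s).toMonoidHom ≤ D := by
      rintro _ ⟨v, hv, rfl⟩; exact hsD v hv.1
    have h2 := hsum (W := D) (habn (inf_le_left.trans inf_le_left) (hEsD.trans inf_le_left))
      (inf_le_left : E ≤ D) hEsD
    rw [hcs, ← hK, hK1, Subgroup.card_bot, mul_one] at h2
    have hE4 : Nat.card Q ≤ 4 * Nat.card E := by
      have := Nat.card_pos (α := Q)
      have := Nat.mul_le_mul hD2 hD2
      nlinarith
    have hD16 : Nat.card Q * Nat.card Q ≤ 16 * Nat.card D := by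
      have := Nat.mul_le_mul hE4 hE4
      nlinarith
    have hDQ : Nat.card D < Nat.card Q := by
      refine lt_of_le_of_ne (Subgroup.card_le_of_le inf_le_left) fun e => hne (Eq.symm ?_)
      exact Subgroup.eq_of_le_of_card_ge ((Subgroup.eq_of_le_of_card_ge inf_le_left e.ge).ge.trans inf_le_right)
        hcardQ'.le
    obtain ⟨n, hn⟩ := IsPGroup.iff_card.mp (core_isPGroup P)
    rw [← hQ] at hn
    by_contra h9
    have hn4 : 4 ≤ n := by
      by_contra h4
      have : 2 ^ n ≤ 2 ^ 3 := Nat.pow_le_pow_right (by norm_num) (by omega)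
      omega
    have h16 : 2 ^ 4 ≤ 2 ^ n := Nat.pow_le_pow_right (by norm_num) hn4
    nlinarith
  -- a self-centralising elementary subgroup of the Sylow subgroup
  have hQS : Q ≤ (S : Subgroup G) := hQT.trans hTS
  set A0 := Q.subgroupOf (S : Subgroup G) with hA0
  have hA0c : Nat.card A0 = Nat.card Q := Nat.card_congr (Subgroup.subgroupOfEquivOfLe hQS).toEquiv
  have hA0C : Subgroup.centralizer (A0 : Set (S : Subgroup G)) = A0 := by
    ext v
    constructor
    · intro hv
      refine hP.toFrame.cent fun w hw => ?_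
      exact congrArg Subtype.val (hv ⟨w, hQS hw⟩ hw)
    · intro hv w hw
      exact Subtype.ext (hQc _ hw _ hv)
  refine H.sylow_rank S ?_
  obtain ⟨n, hn⟩ := IsPGroup.iff_card.mp (core_isPGroup P)
  rw [← hQ] at hn
  have hn3 : n ≤ 3 := by
    by_contra h4
    have : 2 ^ 4 ≤ 2 ^ n := Nat.pow_le_pow_right (by norm_num) (by omega)
    omega
  interval_cases n
  · exact absurd (Subgroup.card_eq_one.mp (by rw [hn]; rfl)) hQ1
  · exfalso
    refine hx.notin (hQT (hP.toFrame.cent fun w hw => ?_))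
    have hxw : x * w * x⁻¹ ∈ Q := hx.conjQ hx.mem hw
    rcases eq_or_ne w 1 with rfl | hw1
    · simp
    have htwo : ∀ v ∈ Q, v ≠ 1 → v = w := fun v hv hv1 => by
      by_contra hvw
      let f : Fin 3 → Q := ![1, ⟨w, hw⟩, ⟨v, hv⟩]
      have hf : Function.Injective f := by
        intro i j hij
        fin_cases i <;> fin_cases j <;>
          first
          | rfl
          | (exfalso; simp only [f, Matrix.cons_val_zero, Matrix.cons_val_one, Matrix.cons_val, Fin.isValue,
              Fin.zero_eta, Fin.mk_one, Fin.reduceFinMk, Subtype.ext_iff, OneMemClass.coe_one] at hij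
             first
             | exact hw1 hij
             | exact hw1 hij.symm
             | exact hv1 hij
             | exact hv1 hij.symm
             | exact hvw hij
             | exact hvw hij.symm)
      have := Nat.card_le_card_of_injective f hf
      rw [Nat.card_fin, hn] at this
      omega
    exact (mul_inv_eq_iff_eq_mul.mp (htwo _ hxw fun e => hw1 (conj_eq_one_iff.mp e))).symm
  · obtain ⟨m, hm⟩ := IsPGroup.iff_card.mp S.isPGroup'
    have hm3 : 3 ≤ m := by
      by_contra h3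
      have h16 := H.sylow_card S
      have : 2 ^ m ≤ 2 ^ 2 := Nat.pow_le_pow_right (by norm_num) (by omega)
      omega
    obtain ⟨C, hC, hidx⟩ := Cfsg.Agent.S0113.result m hm3 hm
      (Cfsg.Agent.S0112.result m hm A0 (by rw [hA0c, hn]) hA0C)
    exact sectional_of_cyclic C hC hidx
  · refine Cfsg.Agent.S1232.result S.isPGroup' A0 ⟨⟨⟨fun v w => Subtype.ext (Subtype.ext (hQc _ v.2 _ w.2))⟩⟩,
      fun v hv => Subtype.ext ?_⟩ (by rw [hA0c, hn]; norm_num) hA0C
    simpa [pow_two] using hsq _ hv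

/-- **No proper subgroup contains the Sylow normalizer and all parabolics.** -/
theorem no_cover (S : Sylow 2 G) {M : Subgroup G} (hM : M ≠ ⊤)
    (hN : Subgroup.normalizer ((S : Subgroup G) : Set G) ≤ M)
    (hP : ∀ P : Subgroup G, Parab (S : Subgroup G) P → P ≤ M) : False := by
  have hU : ∀ L : Subgroup G, IsTwoLocal L → (S : Subgroup G) ≤ L → L ≤ M := by
    rintro L ⟨R, hR, hR1, rfl⟩ hSL
    exact le_of_parab hSL (fun K hK hKL => H.frame_over S hR hR1 hK hKL) (inf_le_right.trans hN)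
      (fun P _ hp => hP P hp)
  haveI := H.simple
  exact H.thirteen.no_strongly_embedded H.not_commutative (H.strongly_embedded S M hM hU)

/-- An element of odd order of a parabolic with another core conjugates the parabolic elements into it. -/
theorem swap_core (S : Sylow 2 G) {P P' : Subgroup G} (hP : Parab (S : Subgroup G) P)
    (hP' : Parab (S : Subgroup G) P') (hne : pCoreOf 2 P' ≠ pCoreOf 2 P) :
    ∀ g ∈ P, Odd (orderOf g) → ∀ g' ∈ P', Odd (orderOf g') → g' * g * g'⁻¹ ∈ P := by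
  obtain ⟨N, hN1, hNS, hPN, hP'N⟩ := H.common S hP hP' hne
  have hF : Frame (S : Subgroup G) (Subgroup.normalizer (N : Set G)) :=
    H.frame_over S (S.isPGroup'.to_le hNS) hN1 (hP.le.trans hPN) le_rfl
  haveI := H.local_solvable _ ⟨N, S.isPGroup'.to_le hNS, hN1, rfl⟩
  exact swap_odd H.thirteen hF hP hP' hPN hP'N hne

end Hyp

/-- **There is no such simple group.** -/
theorem no_hyp (G : Type u) [Group G] [Finite G] (H : Hyp G) : False := by
  haveI := H.nontrivial
  haveI := H.simple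
  obtain ⟨S⟩ : Nonempty (Sylow 2 G) := inferInstance
  by_cases hnone : ∀ P : Subgroup G, ¬ Parab (S : Subgroup G) P
  · exact H.no_cover S (H.normalizer_ne_top S.isPGroup' (H.sylow_ne_bot S)) le_rfl
      fun P hP => absurd hP (hnone P)
  push Not at hnone
  obtain ⟨P0, hP0⟩ := hnone
  obtain ⟨x0, hx0, hx0o, hx1⟩ : ∃ x ∈ P0, Odd (orderOf x) ∧ x ≠ 1 := by
    by_contra hno
    push Not at hno
    exact hP0.not_normal ((Frame.le_of_odd hP0.toFrame le_rfl
      fun g hg hgo => (hno g hg hgo) ▸ one_mem _).trans Subgroup.le_normalizer)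
  set B : Subgroup G → Subgroup G := fun Q =>
    Subgroup.closure {g | ∃ P, Parab (S : Subgroup G) P ∧ pCoreOf 2 P = Q ∧ g ∈ P ∧ Odd (orderOf g)} with hB
  set F := Subgroup.closure {g | ∃ P, Parab (S : Subgroup G) P ∧ g ∈ P ∧ Odd (orderOf g)} with hF
  have hodd : ∀ (a g : G), Odd (orderOf g) → Odd (orderOf (a * g * a⁻¹)) := fun a g hg => by
    rw [← MulAut.conj_apply, MulEquiv.orderOf_eq]; exact hg
  -- each part is normalised by every parabolic
  have hBn : ∀ (Q : Subgroup G) (P' : Subgroup G), Parab (S : Subgroup G) P' →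
      P' ≤ Subgroup.normalizer (B Q : Set G) := by
    intro Q P' hP'
    have hgen : ∀ a : G, (∀ g, (∃ P, Parab (S : Subgroup G) P ∧ pCoreOf 2 P = Q ∧ g ∈ P ∧ Odd (orderOf g)) →
        a * g * a⁻¹ ∈ B Q) → a ∈ Subgroup.normalizer (B Q : Set G) := fun a ha =>
      CfsgLib.JComp.mem_normalizer_of_conj_mem fun v hv => by
        have h1 : v ∈ (B Q).comap (MulAut.conj a).toMonoidHom :=
          (Subgroup.closure_le _).mpr (fun g hg => ha g hg) hv
        exact h1
    refine Frame.le_of_odd hP'.toFrame (fun s hs => hgen s ?_) fun g' hg' hgo' => hgen g' ?_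
    · rintro g ⟨P, hP, hPQ, hgP, hgo⟩
      exact Subgroup.subset_closure
        ⟨P, hP, hPQ, mul_mem (mul_mem (hP.le hs) hgP) (inv_mem (hP.le hs)), hodd s g hgo⟩
    · rintro g ⟨P, hP, hPQ, hgP, hgo⟩
      by_cases hc : pCoreOf 2 P' = Q
      · have hxB : g' ∈ B Q := Subgroup.subset_closure ⟨P', hP', hc, hg', hgo'⟩
        exact mul_mem (mul_mem hxB (Subgroup.subset_closure ⟨P, hP, hPQ, hgP, hgo⟩)) (inv_mem hxB)
      · exact Subgroup.subset_closure ⟨P, hP, hPQ,
          H.swap_core S hP hP' (fun e => hc (e.trans hPQ)) g hgP hgo g' hg' hgo', hodd g' g hgo⟩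
  have hBF : ∀ Q, B Q ≤ F := fun Q => Subgroup.closure_mono fun g ⟨P, hP, _, hgP, hg⟩ => ⟨P, hP, hgP, hg⟩
  have hFB : ∀ Q, F ≤ Subgroup.normalizer (B Q : Set G) := fun Q =>
    (Subgroup.closure_le _).mpr fun g ⟨P, hP, hgP, _⟩ => hBn Q P hP hgP
  by_cases hFtop : F = ⊤
  · haveI : (B (pCoreOf 2 P0)).Normal := Subgroup.normalizer_eq_top_iff.mp (top_le_iff.mp (hFtop ▸ hFB _))
    rcases IsSimpleGroup.eq_bot_or_eq_top_of_normal (B (pCoreOf 2 P0)) inferInstance with e | e
    · have hm : x0 ∈ B (pCoreOf 2 P0) := Subgroup.subset_closure ⟨P0, hP0, rfl, hx0, hx0o⟩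
      rw [e, Subgroup.mem_bot] at hm
      exact hx1 hm
    · refine H.normalizer_ne_top (core_isPGroup P0) hP0.toFrame.core_ne_bot (top_le_iff.mp ?_)
      rw [← e]
      refine (Subgroup.closure_le _).mpr fun g ⟨P, _, hPQ, hgP, _⟩ => ?_
      exact hPQ ▸ le_normalizer_core P hgP
  · have hNF : Subgroup.normalizer (F : Set G) ≠ ⊤ := fun e => by
      haveI : F.Normal := Subgroup.normalizer_eq_top_iff.mp e
      rcases IsSimpleGroup.eq_bot_or_eq_top_of_normal F inferInstance with e' | e'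
      · have hm : x0 ∈ F := Subgroup.subset_closure ⟨P0, hP0, hx0, hx0o⟩
        rw [e', Subgroup.mem_bot] at hm
        exact hx1 hm
      · exact hFtop e'
    have hgen : ∀ a : G, (∀ g, (∃ P, Parab (S : Subgroup G) P ∧ g ∈ P ∧ Odd (orderOf g)) → a * g * a⁻¹ ∈ F) →
        a ∈ Subgroup.normalizer (F : Set G) := fun a ha =>
      CfsgLib.JComp.mem_normalizer_of_conj_mem fun v hv => by
        have h1 : v ∈ F.comap (MulAut.conj a).toMonoidHom :=
          (Subgroup.closure_le _).mpr (fun g hg => ha g hg) hv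
        exact h1
    refine H.no_cover S hNF (fun n hn => hgen n ?_) (fun P' hP' a ha => hgen a ?_)
    · rintro g ⟨P, hP, hgP, hgo⟩
      exact Subgroup.subset_closure
        ⟨_, hP.conj_sylow hn, ⟨g, hgP, rfl⟩, hodd n g hgo⟩
    · rintro g ⟨P, hP, hgP, hgo⟩
      refine hBF (pCoreOf 2 P) ((Subgroup.mem_normalizer_iff.mp (hBn _ P' hP' ha) g).mp ?_)
      exact Subgroup.subset_closure ⟨P, hP, rfl, hgP, hgo⟩

end CfsgLib.SpecThirteen
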