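import Cfsg.Agent.Lib.SpecThirteen.Basic
import Cfsg.Agent.Lib.MaxSub.SLThree.Tools
import Cfsg.Agent.Lib.JComp.Straddle

/-!
Element orders in `{1, 2, 3, 4, 6, 8, 13}`: elements and a subgroup `3² : 8` of `PSL₃(3)`.
-/

set_option autoImplicit false
set_option linter.unusedSectionVars false
set_option linter.style.haveILetI false

namespace CfsgLib.SpecThirteen

open Matrix

universe u

/-- The group `SL₃(3)`. -/
abbrev SL33 := Matrix.SpecialLinearGroup (Fin 3) (ZMod 3)

/-- An element of order eight. -/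
def witEight : SL33 := ⟨!![1, 1, 0; 2, 1, 0; 0, 0, 2], by decide +kernel⟩

/-- An element of order thirteen. -/
def witThirteen : SL33 := ⟨!![0, 0, 1; 1, 0, 1; 0, 1, 0], by decide +kernel⟩

/-- An element of order six. -/
def witSix : SL33 := ⟨!![2, 2, 0; 0, 2, 0; 0, 0, 1], by decide +kernel⟩

/-- The translations. -/
def witTransvec (v : ZMod 3 × ZMod 3) : SL33 :=
  ⟨!![1, 0, v.1; 0, 1, v.2; 0, 0, 1], by simp [Matrix.det_fin_three]⟩

theorem witTransvec_mul : ∀ v w, witTransvec (v + w) = witTransvec v * witTransvec w := by decide +kernel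

theorem witTransvec_conj :
    ∀ v, witEight * witTransvec v * witEight⁻¹ = witTransvec (2 * (v.1 + v.2), 2 * (2 * v.1 + v.2)) := by
  decide +kernel

theorem witTransvec_inj : ∀ v, witTransvec v = 1 → v = 0 := by decide +kernel

theorem witEight_four :
    witEight ^ 4 * witTransvec (1, 0) ≠ witTransvec (1, 0) * witEight ^ 4 := by decide +kernel

theorem orderOf_witEight : orderOf witEight = 8 :=
  orderOf_eq_prime_pow (p := 2) (n := 2) (by decide +kernel) (by decide +kernel)

theorem orderOf_witThirteen : orderOf witThirteen = 13 :=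
  haveI : Fact (Nat.Prime 13) := ⟨by norm_num⟩
  orderOf_eq_prime (by decide +kernel) (by decide +kernel)

theorem orderOf_witSix : orderOf witSix = 6 :=
  (orderOf_eq_iff (by norm_num)).mpr ⟨by decide +kernel, by decide +kernel⟩

/-- `PSL₃` over a field of three elements is `SL₃(3)`. -/
theorem equiv_sl_three {F : Type} [Field F] [Fintype F] (hF : Fintype.card F = 3) :
    Nonempty (SL33 ≃* Matrix.ProjectiveSpecialLinearGroup (Fin 3) F) ∧
      Nonempty (Matrix.SpecialLinearGroup (Fin 3) F ≃* Matrix.ProjectiveSpecialLinearGroup (Fin 3) F) := by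
  classical
  have hc := SLCard.gcd_mul_card_PSL (F := F) (n := 3) (by norm_num)
  rw [MaxSub.SLThree.card_SL_three, hF] at hc
  norm_num at hc
  have hSL : Nat.card (Matrix.SpecialLinearGroup (Fin 3) F) = 5616 := by
    rw [MaxSub.SLThree.card_SL_three, hF]; norm_num
  have hZ : Nat.card SL33 = 5616 := by
    rw [MaxSub.SLThree.card_SL_three, ZMod.card]; norm_num
  have hb : Function.Bijective (QuotientGroup.mk' (Subgroup.center (Matrix.SpecialLinearGroup (Fin 3) F))) :=
    (Nat.bijective_iff_surjective_and_card _).mpr ⟨QuotientGroup.mk'_surjective _, by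
      show _ = Nat.card (Matrix.ProjectiveSpecialLinearGroup (Fin 3) F)
      rw [hSL, Nat.card_eq_fintype_card, hc]⟩
  let e : Matrix.SpecialLinearGroup (Fin 3) F ≃* Matrix.ProjectiveSpecialLinearGroup (Fin 3) F :=
    MulEquiv.ofBijective _ hb
  refine ⟨⟨(MulEquiv.ofBijective (Matrix.SpecialLinearGroup.map (n := Fin 3)
    (ZMod.ringEquivOfPrime F Nat.prime_three hF).toRingHom) ?_).trans e⟩, ⟨e⟩⟩
  refine (Nat.bijective_iff_injective_and_card _).mpr ⟨fun v w hvw => ?_, by rw [hSL, hZ]⟩
  exact Subtype.ext (Matrix.ext fun i j =>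
    RingEquiv.injective (ZMod.ringEquivOfPrime F Nat.prime_three hF) (congrFun (congrFun (congrArg Subtype.val hvw) i) j))

variable {X : Type u} [Group X] [Finite X]

/-- The group has a solvable subgroup with an element of order eight acting faithfully on a normal subgroup of order
nine. -/
theorem exists_nine_eight (φ : SL33 ≃* X) :
    ∃ (X0 E : Subgroup X) (s r : X), Group.IsSolvable X0 ∧ E ≤ X0 ∧ s ∈ X0 ∧ r ∈ E ∧ Nat.card E = 9 ∧
      X0 ≤ Subgroup.normalizer (E : Set X) ∧ s ^ 8 = 1 ∧ s ^ 4 * r ≠ r * s ^ 4 := by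
  let f : Multiplicative (ZMod 3 × ZMod 3) →* X :=
    φ.toMonoidHom.comp (MonoidHom.mk' (fun v => witTransvec v.toAdd) fun v w => witTransvec_mul v.toAdd w.toAdd)
  have hf : Function.Injective f := by
    rw [injective_iff_map_eq_one]
    intro v hv
    exact Multiplicative.toAdd.injective (witTransvec_inj _ (φ.injective (hv.trans φ.map_one.symm)))
  set E := f.range with hE
  set s := φ witEight with hs
  have hE9 : Nat.card E = 9 := by
    rw [hE, ← Nat.card_congr (MonoidHom.ofInjective hf).toEquiv,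
      Nat.card_congr Multiplicative.toAdd, Nat.card_prod, Nat.card_zmod]
  have hsN : s ∈ Subgroup.normalizer (E : Set X) := by
    refine CfsgLib.JComp.mem_normalizer_of_conj_mem ?_
    rintro _ ⟨v, rfl⟩
    refine ⟨Multiplicative.ofAdd (2 * (v.toAdd.1 + v.toAdd.2), 2 * (2 * v.toAdd.1 + v.toAdd.2)), ?_⟩
    show φ (witTransvec _) = φ witEight * φ (witTransvec v.toAdd) * (φ witEight)⁻¹
    rw [← map_inv, ← map_mul, ← map_mul, witTransvec_conj]
    rfl
  have hso : orderOf s = 8 := by rw [hs, MulEquiv.orderOf_eq, orderOf_witEight]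
  refine ⟨E ⊔ Subgroup.zpowers s, E, s, φ (witTransvec (1, 0)), ?_, le_sup_left,
    Subgroup.mem_sup_right (Subgroup.mem_zpowers s), ⟨Multiplicative.ofAdd (1, 0), rfl⟩, hE9,
    sup_le Subgroup.le_normalizer (Subgroup.zpowers_le.mpr hsN), hso ▸ pow_orderOf_eq_one s, fun e => ?_⟩
  · refine CfsgLib.CharTheory.isSolvable_of_card_two_primes Nat.prime_two Nat.prime_three (a := 3) (b := 2) ?_
    have hcard := CfsgLib.JComp.card_sup_mul_card_inf (A := Subgroup.zpowers s) (B := E)
      (Subgroup.zpowers_le.mpr hsN)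
    have hinf : Nat.card ↥(Subgroup.zpowers s ⊓ E) = 1 := by
      have h1 := Subgroup.card_dvd_of_le (inf_le_left : Subgroup.zpowers s ⊓ E ≤ _)
      have h2 := Subgroup.card_dvd_of_le (inf_le_right : Subgroup.zpowers s ⊓ E ≤ _)
      rw [Nat.card_zpowers, hso] at h1
      rw [hE9] at h2
      exact Nat.eq_one_of_dvd_coprimes (by norm_num) h1 h2
    rw [hinf, mul_one, Nat.card_zpowers, hso, hE9, sup_comm] at hcard
    rw [hcard]; norm_num
  · rw [hs, ← map_pow, ← map_mul, ← map_mul] at e
    exact witEight_four (φ.injective e)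

/-- The group has elements of the orders six, eight and thirteen. -/
theorem exists_orders (φ : SL33 ≃* X) :
    (∃ g : X, orderOf g = 6) ∧ (∃ g : X, orderOf g = 8) ∧ ∃ g : X, orderOf g = 13 :=
  ⟨⟨φ witSix, by rw [MulEquiv.orderOf_eq, orderOf_witSix]⟩, ⟨φ witEight, by rw [MulEquiv.orderOf_eq, orderOf_witEight]⟩,
    ⟨φ witThirteen, by rw [MulEquiv.orderOf_eq, orderOf_witThirteen]⟩⟩

end CfsgLib.SpecThirteen
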