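import Cfsg.Agent.Lib.SpecThirteen.Simple
import Cfsg.Agent.Lib.SpecThirteen.Witness

/-!
Groups critical for the set of element orders of `PSL₃(3)`: the nonsolvable ones.
-/

set_option autoImplicit false
set_option linter.unusedSectionVars false

namespace CfsgLib.SpecThirteen

universe u

variable {G : Type u} [Group G] [Finite G]

theorem thirteen_of_range (h : Set.range (orderOf : G → ℕ) = ({1, 2, 3, 4, 6, 8, 13} : Set ℕ)) : Thirteen G := fun g => by
  have hm : orderOf g ∈ ({1, 2, 3, 4, 6, 8, 13} : Set ℕ) := h ▸ Set.mem_range_self g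
  simpa [orders] using hm

theorem range_eq_of_section {X : Type*} [Group X] [Finite X] (hX : Thirteen X) (φ : SL33 ≃* X) :
    Set.range (orderOf : X → ℕ) = ({1, 2, 3, 4, 6, 8, 13} : Set ℕ) := by
  obtain ⟨⟨g6, h6⟩, ⟨g8, h8⟩, g13, h13⟩ := exists_orders φ
  ext n
  refine ⟨?_, fun hn => ?_⟩
  · rintro ⟨x, rfl⟩
    simpa [orders] using hX x
  · simp only [Set.mem_insert_iff, Set.mem_singleton_iff] at hn
    rcases hn with rfl | rfl | rfl | rfl | rfl | rfl | rfl
    · exact ⟨1, orderOf_one⟩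
    · exact ⟨g8 ^ 4, by rw [orderOf_pow, h8]; norm_num⟩
    · exact ⟨g6 ^ 2, by rw [orderOf_pow, h6]; norm_num⟩
    · exact ⟨g8 ^ 2, by rw [orderOf_pow, h8]; norm_num⟩
    · exact ⟨g6, h6⟩
    · exact ⟨g8, h8⟩
    · exact ⟨g13, h13⟩

/-- A nonsolvable critical group is `SL₃(3)`. -/
theorem critical_nonsolvable (h : Set.range (orderOf : G → ℕ) = ({1, 2, 3, 4, 6, 8, 13} : Set ℕ))
    (hsec : ∀ (H : Subgroup G) (N : Subgroup ↥H) [N.Normal], (H ≠ ⊤ ∨ N ≠ ⊥) →
      Set.range (orderOf : (↥H ⧸ N) → ℕ) ≠ ({1, 2, 3, 4, 6, 8, 13} : Set ℕ))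
    (hns : ¬ Group.IsSolvable G) :
    ∃ (F : Type) (_ : Field F) (_ : Fintype F), Fintype.card F = 3 ∧
      Nonempty (G ≃* Matrix.SpecialLinearGroup (Fin 3) F) := by
  classical
  have hT := thirteen_of_range h
  obtain ⟨H, N, hN, ⟨φ⟩⟩ := hT.exists_psl_section hns
  haveI := hN
  by_cases hb : H ≠ ⊤ ∨ N ≠ ⊥
  · exact absurd (range_eq_of_section ((hT.subgroup H).quotient N) φ) (hsec H N hb)
  push Not at hb
  obtain ⟨rfl, rfl⟩ := hb
  exact ⟨ZMod 3, inferInstance, inferInstance, ZMod.card 3,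
    ⟨(Subgroup.topEquiv.symm.trans (QuotientGroup.quotientBot.symm.trans φ.symm))⟩⟩

end CfsgLib.SpecThirteen
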