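import Cfsg.Agent.Lib.SpecThirteen.ParabTop
import Cfsg.Agent.Lib.JComp.Straddle

/-!
Element orders in `{1, 2, 3, 4, 6, 8, 13}`: the Sylow 2-subgroup of a top with self-centralising 3-core is a four
group or has a single involution.
-/

set_option autoImplicit false
set_option linter.unusedSectionVars false
set_option linter.style.haveILetI false

namespace CfsgLib.SpecThirteen

universe u w

/-- The three involutions of a four group. -/
structure Four {X : Type u} [Group X] (e f g : X) : Prop where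
  e2 : e * e = 1
  f2 : f * f = 1
  g2 : g * g = 1
  e1 : e ≠ 1
  f1 : f ≠ 1
  g1 : g ≠ 1
  ef : Commute e f
  eg : Commute e g
  fg : Commute f g
  prod : e * f = g

namespace Four

variable {X : Type u} [Group X] {e f g : X} (h : Four e f g)
include h

theorem swap : Four f e g :=
  ⟨h.f2, h.e2, h.g2, h.f1, h.e1, h.g1, h.ef.symm, h.fg, h.eg, h.ef.symm.eq.trans h.prod⟩

theorem rot : Four f g e :=
  ⟨h.f2, h.g2, h.e2, h.f1, h.g1, h.e1, h.fg, h.ef.symm, h.eg.symm, by
    rw [← h.prod, h.ef.eq, ← mul_assoc, h.f2, one_mul]⟩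

theorem ne : e ≠ f := fun e' => h.g1 (by rw [← h.prod, e', h.f2])

end Four

theorem Four.of_commute {X : Type u} [Group X] {a b : X} (ha : a * a = 1) (hb : b * b = 1) (ha1 : a ≠ 1) (hb1 : b ≠ 1) (hab : Commute a b)
    (hne : a ≠ b) : Four a b (a * b) :=
  ⟨ha, hb, by rw [hab.symm.mul_mul_mul_comm, ha, hb, one_mul], ha1, hb1,
    fun e' => hne ((eq_inv_of_mul_eq_one_left e').trans (inv_eq_of_mul_eq_one_left hb)), hab,
    (Commute.refl a).mul_right hab, hab.symm.mul_right (Commute.refl b), rfl⟩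

variable {X : Type u} [Group X] [Finite X] {V : Type w} [AddCommGroup V] (a : Act X V) {R : Subgroup X}

/-- `x` fixes the points of `R` fixed by `g`. -/
def FixLine (R : Subgroup X) (g x : X) : Prop := ∀ r ∈ R, Commute r g → Commute r x

/-- `x` inverts the points of `R` fixed by `g`. -/
def InvLine (R : Subgroup X) (g x : X) : Prop := ∀ r ∈ R, Commute r g → x * r * x⁻¹ = r⁻¹

theorem InvLine.mul_inv {g x y : X} (hx : InvLine R g x) (hy : InvLine R g y) : FixLine R g (x * y) :=
  fun r hr hrg => (mul_inv_eq_iff_eq_mul.mp (by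
    calc x * y * r * (x * y)⁻¹ = x * (y * r * y⁻¹) * x⁻¹ := by group
      _ = r := by rw [hy r hr hrg, ← conj_inv, hx r hr hrg, inv_inv])).symm

theorem InvLine.mul_fix {g x y : X} (hx : InvLine R g x) (hy : FixLine R g y) : InvLine R g (x * y) :=
  fun r hr hrg => by
    calc x * y * r * (x * y)⁻¹ = x * (y * r * y⁻¹) * x⁻¹ := by group
      _ = r⁻¹ := by rw [← (hy r hr hrg).eq, mul_inv_cancel_right, hx r hr hrg]

theorem FixLine.mul_inv {g x y : X} (hx : FixLine R g x) (hy : InvLine R g y) : InvLine R g (x * y) :=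
  fun r hr hrg => by
    calc x * y * r * (x * y)⁻¹ = x * (y * r * y⁻¹) * x⁻¹ := by group
      _ = r⁻¹ := by rw [hy r hr hrg, ← (hx r hr hrg).inv_left.eq, mul_inv_cancel_right]

theorem FixLine.mul_fix {g x y : X} (hx : FixLine R g x) (hy : FixLine R g y) : FixLine R g (x * y) :=
  fun r hr hrg => (hx r hr hrg).mul_right (hy r hr hrg)

theorem fixLine_self (g : X) : FixLine R g g := fun _ _ h => h

include a

/-- An element centralising the four group fixes or inverts each line. -/
theorem Act.line_sign (h : ThreeCore R) {g x : X} (hg : g * g = 1) (hg1 : g ≠ 1) (hx : Commute x g) :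
    FixLine R g x ∨ InvLine R g x := by
  by_cases hp : FixLine R g x
  · exact Or.inl hp
  rw [FixLine] at hp
  push Not at hp
  obtain ⟨y, hy, hyg, hyx⟩ := hp
  refine Or.inr fun r hr hrg => ?_
  have hy1 : y ≠ 1 := fun e' => hyx (e' ▸ Commute.one_left x)
  have hxy : x * y * x⁻¹ = y⁻¹ := (a.normal_line h hg hg1 hy hy1 hyg hx).resolve_left
    fun e' => hyx (mul_inv_eq_iff_eq_mul.mp e').symm
  obtain ⟨i, rfl⟩ := Subgroup.mem_zpowers_iff.mp (a.cent_small h (pow_eight_of_sq hg) hg1 hy hy1 hyg hr hrg)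
  rw [← conj_zpow, hxy, inv_zpow]

/-- No point of the 3-core is fixed by a four group. -/
theorem Act.four_free (h : ThreeCore R) {e f g : X} (hF : Four e f g) {r : X} (hr : r ∈ R) (hre : Commute r e)
    (hrf : Commute r f) : r = 1 := by
  by_contra hr1
  have hab := a.abelian_of_four h hF.e2 hF.e1 hF.f2 hF.f1 hF.ef hF.ne
  -- the line is everything fixed by any of the three
  have hline : ∀ {d : X}, d * d = 1 → d ≠ 1 → Commute r d → ∀ y ∈ R, Commute y d → Commute y e := by
    intro d hd hd1 hrd y hy hyd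
    obtain ⟨i, rfl⟩ := Subgroup.mem_zpowers_iff.mp (a.cent_small h (pow_eight_of_sq hd) hd1 hr hr1 hrd hy hyd)
    exact hre.zpow_left i
  refine hF.e1 (a.eq_one_of_central h hF.e2 fun x hx => ?_)
  obtain ⟨c, hc, i, hi, hce, hie, rfl⟩ := h.split hF.e2 hx
  obtain ⟨k, hk, j, hj, hkf, hjf, rfl⟩ := h.split hF.f2 hi
  have hke := hline hF.f2 hF.f1 hrf k hk hkf
  refine hce.mul_left (hke.mul_left ?_)
  refine hline hF.g2 hF.g1 (hF.prod ▸ hre.mul_right hrf) j hj ((mul_inv_eq_iff_eq_mul.mp ?_).symm)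
  have hej : e * j * e⁻¹ = j⁻¹ := by
    have e1 : e * k * e⁻¹ = k := by rw [← hke.eq, mul_inv_cancel_right]
    have e2 : (e * k * e⁻¹) * (e * j * e⁻¹) = j⁻¹ * k⁻¹ := by rw [← mul_inv_rev, ← hie]; group
    rw [e1, hab _ (inv_mem hj) _ (inv_mem hk)] at e2
    have hkk : k = 1 := by
      have h1 := hab _ hi _ hi
      have hki : Commute (k * j) e → k * j = 1 := fun hc' => by
        have h2 : k * j = (k * j)⁻¹ := by
          rw [← hie, ← hc'.eq, mul_inv_cancel_right]
        have h3 := h.three hi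
        rwa [mul_eq_one_iff_eq_inv.mpr h2, one_mul] at h3
      have h4 : e * j * e⁻¹ = k * j⁻¹ := by
        calc e * j * e⁻¹ = k⁻¹ * (k * (e * j * e⁻¹)) := by group
          _ = k⁻¹ * (k⁻¹ * j⁻¹) := by rw [e2]
          _ = (k * k)⁻¹ * j⁻¹ := by group
          _ = k * j⁻¹ := by rw [h.sq hk, inv_inv]
      have h5 : f * (e * j * e⁻¹) * f⁻¹ = (e * j * e⁻¹)⁻¹ := by
        calc f * (e * j * e⁻¹) * f⁻¹ = (f * e) * j * (f * e)⁻¹ := by group
          _ = (e * f) * j * (e * f)⁻¹ := by rw [hF.ef.eq]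
          _ = e * (f * j * f⁻¹) * e⁻¹ := by group
          _ = _ := by rw [hjf]; group
      rw [h4] at h5
      have h6 : f * (k * j⁻¹) * f⁻¹ = k * j := by
        calc f * (k * j⁻¹) * f⁻¹ = (f * k * f⁻¹) * (f * j * f⁻¹)⁻¹ := by group
          _ = _ := by rw [← hkf.eq, mul_inv_cancel_right, hjf, inv_inv]
      rw [h6, mul_inv_rev, inv_inv, hab _ hj _ (inv_mem hk)] at h5
      have h7 : k = k⁻¹ := mul_right_cancel h5
      have h8 := h.three hk
      rwa [mul_eq_one_iff_eq_inv.mpr h7, one_mul] at h8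
    rw [hkk, one_mul] at hie
    exact hie
  calc g * j * g⁻¹ = e * (f * j * f⁻¹) * e⁻¹ := by rw [← hF.prod]; group
    _ = j := by rw [hjf, ← conj_inv, hej, inv_inv]

/-- A member of the four group inverts the lines of the others. -/
theorem Act.four_inv (h : ThreeCore R) {e f g : X} (hF : Four e f g) : InvLine R f e := by
  rcases a.line_sign h hF.f2 hF.f1 hF.ef with hp | hp
  · intro r hr hrf
    have hr1 := a.four_free h hF hr (hp r hr hrf) hrf
    subst hr1; group
  · exact hp

/-- An involution fixing the three lines is trivial. -/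
theorem Act.eq_one_of_lines (h : ThreeCore R) {e f g x : X} (hF : Four e f g) (hx : x * x = 1)
    (he : FixLine R e x) (hf : FixLine R f x) (hg : FixLine R g x) : x = 1 := by
  have hab := a.abelian_of_four h hF.e2 hF.e1 hF.f2 hF.f1 hF.ef hF.ne
  refine a.eq_one_of_central h hx fun r hr => ?_
  obtain ⟨c, hc, i, hi, hce, hie, rfl⟩ := h.split hF.e2 hr
  obtain ⟨k, hk, j, hj, hkf, hjf, rfl⟩ := h.split hF.f2 hi
  refine (he c hc hce).mul_left ((hf k hk hkf).mul_left (hg j hj ((mul_inv_eq_iff_eq_mul.mp ?_).symm)))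
  have hek := a.four_inv h hF k hk hkf
  have hej : e * j * e⁻¹ = j⁻¹ := by
    have e1 : e * (k * j) * e⁻¹ = k⁻¹ * (e * j * e⁻¹) := by
      rw [← hek]; group
    rw [hie, mul_inv_rev, hab _ (inv_mem hj) _ (inv_mem hk)] at e1
    exact (mul_left_cancel e1).symm
  calc g * j * g⁻¹ = e * (f * j * f⁻¹) * e⁻¹ := by rw [← hF.prod]; group
    _ = j := by rw [hjf, ← conj_inv, hej, inv_inv]

/-- An involution acting on the lines as a member of the four group is that member. -/
theorem Act.eq_of_lines (h : ThreeCore R) {e f g x : X} (hF : Four e f g) (hx : x * x = 1) (hxe : Commute x e)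
    (he : FixLine R e x) (hf : InvLine R f x) (hg : InvLine R g x) : x = e := by
  have h2 : x * e * (x * e) = 1 := by rw [hxe.symm.mul_mul_mul_comm, hx, hF.e2, one_mul]
  have h1 := a.eq_one_of_lines h hF h2 (he.mul_fix (fixLine_self e)) (hf.mul_inv (a.four_inv h hF))
    (hg.mul_inv (a.four_inv h hF.swap.rot))
  exact (eq_inv_of_mul_eq_one_left h1).trans (inv_eq_of_mul_eq_one_left hF.e2)

/-- An involution with a single inverted line lies in the four group. -/
theorem Act.mem_of_one_line (h : ThreeCore R) {e f g x : X} (hF : Four e f g) (hx : x * x = 1)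
    (hxf : Commute x f) (hxg : Commute x g) (he : InvLine R e x) (hf : FixLine R f x) (hg : FixLine R g x) :
    x = 1 ∨ x = f ∨ x = g := by
  rcases eq_or_ne x 1 with h1 | h1
  · exact Or.inl h1
  by_cases ht : ∀ r ∈ R, Commute r f → r = 1
  · refine Or.inr (Or.inr (a.eq_of_lines h hF.rot.rot hx hxg hg he fun r hr hrf => ?_))
    have := ht r hr hrf
    subst this; group
  push Not at ht
  obtain ⟨y, hy, hyf, hy1⟩ := ht
  refine Or.inr (Or.inl (a.eq_of_lines h hF.rot hx hxf hf (fun r hr hrg => ?_) he))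
  obtain ⟨i, rfl⟩ := Subgroup.mem_zpowers_iff.mp
    (a.cent_small h (pow_eight_of_sq hx) h1 hy hy1 (hf y hy hyf) hr (hg r hr hrg))
  have h0 : y ^ i = 1 :=
    a.four_free h hF.rot hr (hyf.zpow_left i) hrg
  rw [h0]; group

/-- An element of order dividing eight centralising a four group of the top lies in it. -/
theorem Act.four_self (h : ThreeCore R) {e f g x : X} (hF : Four e f g) (hx8 : x ^ 8 = 1) (hxe : Commute x e)
    (hxf : Commute x f) : x = 1 ∨ x = e ∨ x = f ∨ x = g := by
  have hxg : Commute x g := hF.prod ▸ hxe.mul_right hxf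
  have hsq : ∀ {d : X}, d * d = 1 → d ≠ 1 → Commute x d → FixLine R d (x * x) := by
    intro d hd hd1 hxd
    rcases a.line_sign h hd hd1 hxd with hp | hp
    · exact hp.mul_fix hp
    · exact hp.mul_inv hp
  have hx2 : x * x = 1 := by
    refine a.eq_one_of_lines h hF ?_ (hsq hF.e2 hF.e1 hxe) (hsq hF.f2 hF.f1 hxf) (hsq hF.g2 hF.g1 hxg)
    rw [← a.pow_four h hx8]; simp only [pow_succ, pow_zero, one_mul, mul_assoc]
  rcases a.line_sign h hF.e2 hF.e1 hxe with he | he <;> rcases a.line_sign h hF.f2 hF.f1 hxf with hf | hf <;>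
    rcases a.line_sign h hF.g2 hF.g1 hxg with hg | hg
  · exact Or.inl (a.eq_one_of_lines h hF hx2 he hf hg)
  · rcases a.mem_of_one_line h hF.rot.rot hx2 hxe hxf hg he hf with r | r | r <;> simp [r]
  · rcases a.mem_of_one_line h hF.rot hx2 hxg hxe hf hg he with r | r | r <;> simp [r]
  · exact Or.inr (Or.inl (a.eq_of_lines h hF hx2 hxe he hf hg))
  · rcases a.mem_of_one_line h hF hx2 hxf hxg he hf hg with r | r | r <;> simp [r]
  · exact Or.inr (Or.inr (Or.inl (a.eq_of_lines h hF.rot hx2 hxf hf hg he)))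
  · exact Or.inr (Or.inr (Or.inr (a.eq_of_lines h hF.rot.rot hx2 hxg hg he hf)))
  · -- all three lines inverted
    have hy2 : x * e * (x * e) = 1 := by rw [hxe.symm.mul_mul_mul_comm, hx2, hF.e2, one_mul]
    rcases a.mem_of_one_line h hF hy2 (hxf.mul_left hF.ef) (hxg.mul_left hF.eg) (he.mul_fix (fixLine_self e))
      (hf.mul_inv (a.four_inv h hF)) (hg.mul_inv (a.four_inv h hF.swap.rot)) with r | r | r
    · exact Or.inr (Or.inl ((eq_inv_of_mul_eq_one_left r).trans (inv_eq_of_mul_eq_one_left hF.e2)))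
    · refine Or.inr (Or.inr (Or.inr ?_))
      rw [← hF.prod, hF.ef.eq, ← r, mul_assoc, hF.e2, mul_one]
    · refine Or.inr (Or.inr (Or.inl ?_))
      have e' : g * e = f := by rw [← hF.prod, hF.ef.eq, mul_assoc, hF.e2, mul_one]
      rw [← e', ← r, mul_assoc, hF.e2, mul_one]

/-- **The Sylow 2-subgroup of such a top is abelian or has a single involution.** -/
theorem Act.sylow_cases (h : ThreeCore R) {T : Subgroup X} (hT2 : IsPGroup 2 T) :
    (∀ x ∈ T, ∀ y ∈ T, x * y = y * x) ∨
      ∃ e : X, e * e = 1 ∧ ∀ t ∈ T, (t * t = 1 ∨ t * t = e) ∧ (t * t = 1 → t = 1 ∨ t = e) := by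
  rcases eq_or_ne T ⊥ with rfl | hT1
  · left
    intro x hx y hy
    rw [Subgroup.mem_bot] at hx hy
    rw [hx, hy]
  obtain ⟨e, heT, hee, he1, hec⟩ := exists_central_invol hT2 hT1
  have hpow8 : ∀ t ∈ T, t ^ 8 = 1 := fun t ht => a.orders.pgroup_pow_eight hT2 ht
  by_cases hone : ∀ t ∈ T, t * t = 1 → t = 1 ∨ t = e
  · refine Or.inr ⟨e, hee, fun t ht => ⟨hone _ (mul_mem ht ht) ?_, hone t ht⟩⟩
    rw [← a.pow_four h (hpow8 t ht)]; simp only [pow_succ, pow_zero, one_mul, mul_assoc]
  push Not at hone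
  obtain ⟨t, ht, htt, ht1, hte⟩ := hone
  left
  have hF : Four e t (e * t) := Four.of_commute hee htt he1 ht1 (hec t ht).symm (Ne.symm hte)
  -- the second involution is central
  have htc : ∀ s ∈ T, Commute s t := by
    by_contra hall
    push Not at hall
    obtain ⟨s0, hs0, hs0t⟩ := hall
    set C := T ⊓ Subgroup.centralizer ({t} : Set X) with hC
    have hCT : C < T := lt_of_le_of_ne inf_le_left fun e' =>
      hs0t (Subgroup.mem_centralizer_singleton_iff.mp (e'.ge hs0).2)
    obtain ⟨-, hlt⟩ := CfsgLib.JComp.exists_normalizer_gt hT2 hCT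
    obtain ⟨s, ⟨hs, hsN⟩, hsC⟩ := SetLike.not_le_iff_exists.mp hlt
    have hst : ¬ Commute s t := fun h' => hsC ⟨hs, Subgroup.mem_centralizer_singleton_iff.mpr h'.eq⟩
    have ht'C : s * t * s⁻¹ ∈ C := (Subgroup.mem_normalizer_iff.mp hsN t).mp
      ⟨ht, Subgroup.mem_centralizer_singleton_iff.mpr rfl⟩
    rcases a.four_self h hF (hpow8 _ ht'C.1) (hec _ ht'C.1)
      (Subgroup.mem_centralizer_singleton_iff.mp ht'C.2) with e' | e' | e' | e'
    · exact ht1 (conj_eq_one_iff.mp e')
    · refine hte ?_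
      calc t = s⁻¹ * (s * t * s⁻¹) * s := by group
        _ = e := by rw [e', mul_assoc, ← (hec s hs).eq, inv_mul_cancel_left]
    · exact hst (mul_inv_eq_iff_eq_mul.mp e')
    · exact a.no_swap h hee he1 htt ht1 (hec t ht).symm (Ne.symm hte) (hpow8 s hs) (hec s hs) e'
  intro x hx y hy
  rcases a.four_self h hF (hpow8 x hx) (hec x hx) (htc x hx) with rfl | rfl | rfl | rfl
  · simp
  · exact ((hec y hy).symm).eq
  · exact ((htc y hy).symm).eq
  · exact (((hec y hy).mul_right (htc y hy)).symm).eq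

end CfsgLib.SpecThirteen
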