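import Cfsg.Agent.Lib.SpecThirteen.Offender

/-!
Element orders in `{1, 2, 3, 4, 6, 8, 13}`: the Sylow 2-subgroup of a parabolic with a single involution in its top,
acting on the central involutions of the core, without quotient groups.
-/

set_option autoImplicit false
set_option linter.unusedSectionVars false
set_option linter.style.haveILetI false

namespace CfsgLib.SpecThirteen

open Cfsg
open CfsgLib.SpecSix (Frame Parab centralInvol centralInvol_normal core_le core_subgroupOf
  isMulCommutative_of_sq le_normalizer_core)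
open scoped IsMulCommutative

universe u

variable {G : Type u} [Group G] [Finite G] {T P : Subgroup G}
  {A : Subgroup (P ⧸ pCore 2 P)} {e : P ⧸ pCore 2 P}

/-- An element over the involution of the top. -/
structure Inv2 (T P : Subgroup G) (b : G) : Prop where
  mem : b ∈ T
  out : b ∉ pCoreOf 2 P
  sq : b * b ∈ pCoreOf 2 P

theorem mem_core_iff {p : P} : p ∈ pCore 2 P ↔ (p : G) ∈ pCoreOf 2 P := by
  rw [← core_subgroupOf]; exact Subgroup.mem_subgroupOf

theorem centralInvol_core_iff {p : P} :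
    p ∈ centralInvol (pCore 2 P) ↔ (p : G) ∈ centralInvol (pCoreOf 2 P) := by
  constructor
  · rintro ⟨h1, h2, h3⟩
    refine ⟨mem_core_iff.mp h1, congrArg Subtype.val h2, fun q hq => ?_⟩
    exact congrArg Subtype.val (h3 ⟨q, core_le P hq⟩ (mem_core_iff.mpr hq))
  · rintro ⟨h1, h2, h3⟩
    exact ⟨mem_core_iff.mpr h1, Subtype.ext h2, fun q hq => Subtype.ext (h3 q (mem_core_iff.mp hq))⟩

namespace FreePar

variable (h : FreePar T P A e)
include h

theorem map_eq {b : G} (hb : Inv2 T P b) :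
    QuotientGroup.mk' (pCore 2 P) ⟨b, h.parab.le hb.mem⟩ = e := by
  refine (h.top.unique _ (Subgroup.mem_map_of_mem _
    (show (⟨b, h.parab.le hb.mem⟩ : P) ∈ T.subgroupOf P from hb.mem)) ?_).resolve_left fun h1 =>
      hb.out (mem_core_iff.mp ((QuotientGroup.eq_one_iff _).mp h1))
  rw [← map_mul]
  exact (QuotientGroup.eq_one_iff _).mpr (mem_core_iff.mpr hb.sq)

theorem inv2_of_map {b : P} (hb : (b : G) ∈ T) (hbe : QuotientGroup.mk' (pCore 2 P) b = e) : Inv2 T P b := by
  refine ⟨hb, fun hm => h.top.ne_one ?_, ?_⟩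
  · rw [← hbe]; exact (QuotientGroup.eq_one_iff b).mpr (mem_core_iff.mpr hm)
  · have h1 : QuotientGroup.mk' (pCore 2 P) (b * b) = 1 := by rw [map_mul, hbe, h.top.sq]
    exact mem_core_iff.mp ((QuotientGroup.eq_one_iff _).mp h1)

theorem inv2_diff {b c : G} (hb : Inv2 T P b) (hc : Inv2 T P c) : b⁻¹ * c ∈ pCoreOf 2 P := by
  have e' : QuotientGroup.mk' (pCore 2 P) ((⟨b, h.parab.le hb.mem⟩ : P)⁻¹ * ⟨c, h.parab.le hc.mem⟩) = 1 := by
    rw [map_mul, map_inv, h.map_eq hb, h.map_eq hc, inv_mul_cancel]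
  exact mem_core_iff.mp ((QuotientGroup.eq_one_iff _).mp e')

theorem inv2_or {b : G} (hb : b ∈ T) (hbQ : b ∉ pCoreOf 2 P) : Inv2 T P b ∨ Inv2 T P (b * b) := by
  by_cases h2 : b * b ∈ pCoreOf 2 P
  · exact Or.inl ⟨hb, hbQ, h2⟩
  refine Or.inr ⟨mul_mem hb hb, h2, ?_⟩
  have h4 := h.top.pow_four _ (Subgroup.mem_map_of_mem (QuotientGroup.mk' (pCore 2 P))
    (show (⟨b, h.parab.le hb⟩ : P) ∈ T.subgroupOf P from hb))
  rw [← map_pow] at h4
  have h4' := mem_core_iff.mp ((QuotientGroup.eq_one_iff _).mp h4)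
  simpa [pow_succ, mul_assoc] using h4'

theorem exists_inv2 : ∃ b, Inv2 T P b := by
  obtain ⟨b, hb, hbe⟩ := h.top.mem
  exact ⟨b, h.inv2_of_map hb hbe⟩

/-- An element of the Sylow subgroup centralising the central involutions of the core lies in the core. -/
theorem mem_core_of_centralizes {s : G} (hs : s ∈ T) (hc : ∀ v ∈ centralInvol (pCoreOf 2 P), s * v = v * s) :
    s ∈ pCoreOf 2 P :=
  mem_core_iff.mp ((QuotientGroup.eq_one_iff (⟨s, h.parab.le hs⟩ : P)).mp ((h.mk_eq_one_iff _).mpr fun v hv =>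
    Subtype.ext (hc v (centralInvol_core_iff.mp hv))))

theorem card_center : Nat.card ↥(centralInvol (pCore 2 P)) = Nat.card ↥(centralInvol (pCoreOf 2 P)) := by
  refine Nat.card_congr (Equiv.ofBijective (fun v => ⟨((v : P) : G), centralInvol_core_iff.mp v.2⟩) ⟨?_, ?_⟩)
  · intro v w hvw
    exact Subtype.ext (Subtype.ext (congrArg Subtype.val hvw :))
  · rintro ⟨v, hv⟩
    exact ⟨⟨⟨v, core_le P hv.1⟩, centralInvol_core_iff.mpr hv⟩, rfl⟩

/-- A subgroup of the central involutions fixed by an element of the top. -/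
theorem bound {k : ℕ} {W : Subgroup G} (hW : W ≤ centralInvol (pCoreOf 2 P))
    [IsMulCommutative (centralInvol (pCore 2 P))] [(centralInvol (pCore 2 P)).Normal]
    (F : AddSubgroup (Additive ↥(centralInvol (pCore 2 P))))
    (hF : ∀ v : Additive ↥(centralInvol (pCore 2 P)), (((v.toMul : ↥(centralInvol (pCore 2 P))) : P) : G) ∈ W →
      v ∈ F) (hk : k ≤ F.index) : k * Nat.card W ≤ Nat.card ↥(centralInvol (pCoreOf 2 P)) := by
  have hle : Nat.card W ≤ Nat.card F := by
    refine Nat.card_le_card_of_injective (fun w => ⟨Additive.ofMul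
      (⟨⟨(w : G), core_le P (hW w.2).1⟩, centralInvol_core_iff.mpr (hW w.2)⟩ :
        ↥(centralInvol (pCore 2 P))), hF _ w.2⟩) fun v w hvw => Subtype.ext ?_
    exact congrArg (fun z : F => (((z.1.toMul : ↥(centralInvol (pCore 2 P))) : P) : G)) hvw
  rw [← h.card_center, show Nat.card ↥(centralInvol (pCore 2 P)) =
    Nat.card (Additive ↥(centralInvol (pCore 2 P))) from rfl, ← F.card_mul_index, mul_comm k]
  exact Nat.mul_le_mul hle hk

/-- An element over the involution fixes at most a quarter of the central involutions. -/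
theorem four_fixed {b : G} (hb : Inv2 T P b) {W : Subgroup G} (hW : W ≤ centralInvol (pCoreOf 2 P))
    (hc : ∀ w ∈ W, b * w = w * b) : 4 * Nat.card W ≤ Nat.card ↥(centralInvol (pCoreOf 2 P)) := by
  haveI : (centralInvol (pCore 2 P)).Normal := centralInvol_normal _
  haveI : IsMulCommutative ↥(centralInvol (pCore 2 P)) := isMulCommutative_of_sq fun v hv => hv.2.1
  obtain ⟨ac, hact⟩ := h.exists_act
  refine h.bound hW (ac.fixed e) (fun v hv => ac.mem_fixed.mpr ?_) (ac.index_four h.top)
  rw [← h.map_eq hb]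
  refine Additive.toMul.injective (Subtype.ext (Subtype.ext ?_))
  rw [hact]
  show b * _ * b⁻¹ = _
  rw [hc _ hv, mul_inv_cancel_right]

/-- The Sylow subgroup fixes at most an eighth of the central involutions. -/
theorem eight_fixed {W : Subgroup G} (hW : W ≤ centralInvol (pCoreOf 2 P))
    (hc : ∀ s ∈ T, ∀ w ∈ W, s * w = w * s) : 8 * Nat.card W ≤ Nat.card ↥(centralInvol (pCoreOf 2 P)) := by
  haveI : (centralInvol (pCore 2 P)).Normal := centralInvol_normal _
  haveI : IsMulCommutative ↥(centralInvol (pCore 2 P)) := isMulCommutative_of_sq fun v hv => hv.2.1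
  obtain ⟨ac, hact⟩ := h.exists_act
  refine h.bound hW (ac.fixedBy _) (fun v hv => ac.mem_fixedBy.mpr ?_) (ac.index_eight h.top)
  rintro _ ⟨p, hp, rfl⟩
  refine Additive.toMul.injective (Subtype.ext (Subtype.ext ?_))
  rw [hact]
  show (p : G) * _ * (p : G)⁻¹ = _
  rw [hc p hp _ hv, mul_inv_cancel_right]

/-- Either an element has nonvanishing norm of length four, or all squares lie in the core and an element over
the involution fixes at most an eighth. -/
theorem norm_or_eight :
    (∃ s ∈ T, ∃ v ∈ centralInvol (pCoreOf 2 P),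
      v * (s * v * s⁻¹) * (s * s * v * (s * s)⁻¹) * (s * s * s * v * (s * s * s)⁻¹) ≠ 1) ∨
    ((∀ s ∈ T, s * s ∈ pCoreOf 2 P) ∧ ∀ b, Inv2 T P b → ∀ W : Subgroup G,
      W ≤ centralInvol (pCoreOf 2 P) → (∀ w ∈ W, b * w = w * b) →
        8 * Nat.card W ≤ Nat.card ↥(centralInvol (pCoreOf 2 P))) := by
  haveI : (centralInvol (pCore 2 P)).Normal := centralInvol_normal _
  haveI : IsMulCommutative ↥(centralInvol (pCore 2 P)) := isMulCommutative_of_sq fun v hv => hv.2.1
  obtain ⟨ac, hact⟩ := h.exists_act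
  by_cases hs : ∃ s ∈ T.subgroupOf P, QuotientGroup.mk' (pCore 2 P) s * QuotientGroup.mk' (pCore 2 P) s = e
  · obtain ⟨s, hs, hse⟩ := hs
    obtain ⟨v, hv⟩ := ac.norm_four h.top (Subgroup.mem_map_of_mem _ hs) hse
    refine Or.inl ⟨(s : G), hs, _, centralInvol_core_iff.mp v.toMul.2, fun h1 => hv ?_⟩
    refine Additive.toMul.injective (Subtype.ext (Subtype.ext ?_))
    simp only [Finset.sum_range_succ, Finset.sum_range_zero, zero_add, toMul_add, toMul_zero, Subgroup.coe_mul,
      Subgroup.coe_one, ← map_pow, hact]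
    rw [← h1]
    simp [pow_succ, mul_assoc]
  · push Not at hs
    have hall : ∀ s ∈ T, s * s ∈ pCoreOf 2 P := by
      intro s hsT
      by_contra hne
      have hb : Inv2 T P (s * s) := ((h.inv2_or hsT fun hm => hne (mul_mem hm hm))).resolve_left fun h' => hne h'.sq
      refine hs ⟨s, h.parab.le hsT⟩ hsT ?_
      rw [← map_mul]; exact h.map_eq hb
    refine Or.inr ⟨hall, fun b hb W hW hc => ?_⟩
    rcases h.top.kind with ⟨u, hu, huo⟩ | ⟨-, t, ⟨t', ht', htt⟩, hte⟩
    · refine h.bound hW (ac.fixed e) (fun v hv => ac.mem_fixed.mpr ?_) (ac.index_eight_thirteen h.top hu huo)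
      rw [← h.map_eq hb]
      refine Additive.toMul.injective (Subtype.ext (Subtype.ext ?_))
      rw [hact]
      show b * _ * b⁻¹ = _
      rw [hc _ hv, mul_inv_cancel_right]
    · exact absurd (htt ▸ hte) (hs t' ht')

end FreePar

end CfsgLib.SpecThirteen
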