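import Cfsg.Agent.Lib.SpecThirteen.Parabolic
import Cfsg.Agent.Lib.CoprimeGen

/-!
Element orders in `{1, 2, 3, 4, 6, 8, 13}`: a top with a single involution acts faithfully on the central
involutions of the 2-core.
-/

set_option autoImplicit false
set_option linter.unusedSectionVars false
set_option linter.style.haveILetI false

namespace CfsgLib.SpecThirteen

open CfsgLib.SpecSix (centralInvol centralInvol_ne_bot centralInvol_normal)

universe u

variable {K : Type u} [Group K] [Finite K]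

/-- Two commuting elements of order three, none a power of the other, generate a noncyclic group of exponent three. -/
theorem plane_closure {y z : K} (hy : orderOf y = 3) (hz : z ^ 3 = 1) (hc : Commute y z)
    (hzy : z ∉ Subgroup.zpowers y) :
    IsMulCommutative (Subgroup.closure {y, z} : Subgroup K) ∧ ¬ IsCyclic (Subgroup.closure {y, z} : Subgroup K) ∧
      ∀ w ∈ Subgroup.closure {y, z}, w ^ 3 = 1 := by
  set A : Subgroup K := Subgroup.closure {y, z} with hA
  haveI hcomm : IsMulCommutative A := Subgroup.isMulCommutative_closure (by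
    rintro x (rfl | rfl) x' (rfl | rfl)
    exacts [rfl, hc.eq, hc.eq.symm, rfl])
  have hexp : ∀ w ∈ A, w ^ 3 = 1 := by
    intro w hw
    induction hw using Subgroup.closure_induction with
    | mem x hx => rcases hx with rfl | rfl; exacts [hy ▸ pow_orderOf_eq_one x, hz]
    | one => exact one_pow 3
    | mul a b ha hb iha ihb =>
      have e : Commute a b := congrArg Subtype.val (hcomm.is_comm.comm ⟨a, ha⟩ ⟨b, hb⟩)
      rw [e.mul_pow, iha, ihb, one_mul]
    | inv a _ iha => rw [inv_pow, iha, inv_one]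
  refine ⟨hcomm, fun hcyc => ?_, hexp⟩
  obtain ⟨g, hg⟩ := hcyc.exists_generator
  have hyA : y ∈ A := Subgroup.subset_closure (Set.mem_insert _ _)
  have hzA : z ∈ A := Subgroup.subset_closure (Set.mem_insert_of_mem _ rfl)
  have hA3 : Nat.card A ≤ 3 := by
    rw [← orderOf_eq_card_of_forall_mem_zpowers hg]
    exact Nat.le_of_dvd (by norm_num) (orderOf_dvd_of_pow_eq_one (Subtype.ext (hexp g g.2)))
  have e : Subgroup.zpowers y = A :=
    Subgroup.eq_of_le_of_card_ge (Subgroup.zpowers_le.mpr hyA) (by rw [Nat.card_zpowers, hy]; exact hA3)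
  exact hzy (e ▸ hzA)

/-- A 2-subgroup normalised by a plane is generated by the fixed points of the nontrivial elements. -/
theorem le_of_plane {y z : K} (hy : orderOf y = 3) (hz : z ^ 3 = 1) (hc : Commute y z)
    (hzy : z ∉ Subgroup.zpowers y) {R H : Subgroup K} (hR : IsPGroup 2 R) (hyR : y ∈ Subgroup.normalizer (R : Set K))
    (hzR : z ∈ Subgroup.normalizer (R : Set K))
    (hgen : ∀ w ∈ Subgroup.closure ({y, z} : Set K), w ≠ 1 → ∀ b ∈ R, Commute w b → b ∈ H) : R ≤ H := by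
  obtain ⟨hcomm, hnc, hexp⟩ := plane_closure hy hz hc hzy
  haveI := hcomm
  haveI : Fact (Nat.Prime 2) := ⟨Nat.prime_two⟩
  haveI : Fact (Nat.Prime 3) := ⟨Nat.prime_three⟩
  set A : Subgroup K := Subgroup.closure {y, z} with hA
  have hA3 : IsPGroup 3 A := fun w => ⟨1, Subtype.ext (by rw [pow_one]; exact hexp w w.2)⟩
  obtain ⟨i, hi⟩ := IsPGroup.iff_card.mp hA3
  obtain ⟨j, hj⟩ := IsPGroup.iff_card.mp hR
  have h := coprime_generated_by_centralizers (K := R) hnc
    ((Subgroup.closure_le _).mpr (by rintro x (rfl | rfl); exacts [hyR, hzR]))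
    (by rw [hi, hj]; exact Nat.Coprime.pow i j (by norm_num))
  rw [← h]
  exact iSup₂_le fun w hw b hb =>
    hgen w hw.1 hw.2 b hb.1 (Subgroup.mem_centralizer_singleton_iff.mp hb.2).symm

/-- A plane normalising a 2-subgroup containing its centraliser does not centralise all its central involutions. -/
theorem Thirteen.plane_moves_center (h : Thirteen K) {Q : Subgroup K} [Q.Normal] (hQ : IsPGroup 2 Q)
    (hC : Subgroup.centralizer (Q : Set K) ≤ Q) {y z : K} (hy : orderOf y = 3) (hz : z ^ 3 = 1)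
    (hc : Commute y z) (hzy : z ∉ Subgroup.zpowers y) (hyV : ∀ v ∈ centralInvol Q, Commute y v)
    (hzV : ∀ v ∈ centralInvol Q, Commute z v) : False := by
  classical
  haveI : Fact (Nat.Prime 2) := ⟨Nat.prime_two⟩
  haveI : Fact (Nat.Prime 3) := ⟨Nat.prime_three⟩
  set A : Subgroup K := Subgroup.closure {y, z} with hA
  obtain ⟨hcomm, -, hexp⟩ := plane_closure hy hz hc hzy
  have hnQ : ∀ g : K, g ∈ Subgroup.normalizer (Q : Set K) := fun g => by
    rw [Subgroup.normalizer_eq_top]; exact Subgroup.mem_top g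
  have hord : ∀ w ∈ A, w ≠ 1 → orderOf w = 3 := fun w hw hw1 => orderOf_eq_prime (hexp w hw) hw1
  have hAV : ∀ w ∈ A, ∀ v ∈ centralInvol Q, Commute w v := by
    intro w hw v hv
    induction hw using Subgroup.closure_induction with
    | mem x hx => rcases hx with rfl | rfl; exacts [hyV v hv, hzV v hv]
    | one => exact Commute.one_left v
    | mul a b _ _ iha ihb => exact iha.mul_left ihb
    | inv a _ iha => exact iha.inv_left
  -- two elements of the core fixed by the same element commute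
  have hcc : ∀ w ∈ A, w ≠ 1 → ∀ b ∈ Q, Commute w b → ∀ c ∈ Q, Commute w c → b * c = c * b := by
    intro w hw hw1 b hb hwb c hc' hwc
    refine h.three_abelian (hord w hw hw1) (hQ.to_le (inf_le_left : Q ⊓ Subgroup.centralizer {w} ≤ Q))
      (fun d hd => (Subgroup.mem_centralizer_singleton_iff.mp hd.2).symm) b ?_ c ?_
    · exact ⟨hb, Subgroup.mem_centralizer_singleton_iff.mpr hwb.eq.symm⟩
    · exact ⟨hc', Subgroup.mem_centralizer_singleton_iff.mpr hwc.eq.symm⟩
  have hsq : ∀ w ∈ A, w ≠ 1 → ∀ b ∈ Q, Commute w b → b * b = 1 := by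
    intro w hw hw1 b hb hwb
    obtain ⟨k, hk⟩ := hQ ⟨b, hb⟩
    exact h.commute_three (hord w hw hw1) hwb (congrArg Subtype.val hk)
  let Z2 : Subgroup K :=
    { carrier := {a | a ∈ Q ∧ ∀ b ∈ Q, ∀ d ∈ Q, a * b * a⁻¹ * b⁻¹ * d = d * (a * b * a⁻¹ * b⁻¹)}
      one_mem' := ⟨one_mem _, fun b _ d _ => by simp⟩
      mul_mem' := fun {a a'} ha ha' => ⟨mul_mem ha.1 ha'.1, fun b hb d hd => by
        have e : a * a' * b * (a * a')⁻¹ * b⁻¹ = (a' * b * a'⁻¹ * b⁻¹) * (a * b * a⁻¹ * b⁻¹) := by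
          calc a * a' * b * (a * a')⁻¹ * b⁻¹ = a * (a' * b * a'⁻¹ * b⁻¹) * (b * a⁻¹ * b⁻¹) := by group
            _ = (a' * b * a'⁻¹ * b⁻¹) * a * (b * a⁻¹ * b⁻¹) := by rw [ha'.2 b hb a ha.1]
            _ = _ := by group
        rw [e, mul_assoc, ha.2 b hb d hd, ← mul_assoc, ha'.2 b hb d hd, mul_assoc]⟩
      inv_mem' := fun {a} ha => ⟨inv_mem ha.1, fun b hb d hd => by
        set k := a * b * a⁻¹ * b⁻¹ with hk
        have hka : k * a = a * k := ha.2 b hb a ha.1
        have e : a⁻¹ * b * a⁻¹⁻¹ * b⁻¹ = k⁻¹ := by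
          calc a⁻¹ * b * a⁻¹⁻¹ * b⁻¹ = a⁻¹ * k⁻¹ * a := by rw [hk]; group
            _ = k⁻¹ := by
              have : Commute k⁻¹ a := Commute.inv_left hka
              rw [mul_assoc, this.eq, ← mul_assoc, inv_mul_cancel, one_mul]
        rw [e]
        exact (Commute.inv_left (ha.2 b hb d hd : Commute k d)).eq⟩ }
  have hZ2n : Z2.Normal := ⟨fun a ha g => ⟨Subgroup.Normal.conj_mem ‹_› a ha.1 g, fun b hb d hd => by
    have hb' : g⁻¹ * b * g ∈ Q := Subgroup.Normal.conj_mem' ‹_› b hb g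
    have hd' : g⁻¹ * d * g ∈ Q := Subgroup.Normal.conj_mem' ‹_› d hd g
    have e := ha.2 _ hb' _ hd'
    calc g * a * g⁻¹ * b * (g * a * g⁻¹)⁻¹ * b⁻¹ * d
        = g * (a * (g⁻¹ * b * g) * a⁻¹ * (g⁻¹ * b * g)⁻¹ * (g⁻¹ * d * g)) * g⁻¹ := by group
      _ = g * ((g⁻¹ * d * g) * (a * (g⁻¹ * b * g) * a⁻¹ * (g⁻¹ * b * g)⁻¹)) * g⁻¹ := by rw [e]
      _ = d * (g * a * g⁻¹ * b * (g * a * g⁻¹)⁻¹ * b⁻¹) := by group⟩⟩
  -- a noncommuting pair of fixed elements
  have hab : ∀ b ∈ Q, ∀ c ∈ Q, b * c = c * b := by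
    by_contra hne
    push Not at hne
    obtain ⟨b0, hb0, c0, hc0, hne0⟩ := hne
    haveI : Nontrivial (Q ⧸ Subgroup.center Q) := by
      refine ⟨((⟨b0, hb0⟩ : Q) : Q ⧸ Subgroup.center Q), 1, fun e => hne0 ?_⟩
      exact (congrArg Subtype.val (Subgroup.mem_center_iff.mp ((QuotientGroup.eq_one_iff _).mp e) ⟨c0, hc0⟩)).symm
    haveI := (hQ.to_quotient (Subgroup.center Q)).center_nontrivial
    obtain ⟨x, hx⟩ := exists_ne (1 : Subgroup.center (Q ⧸ Subgroup.center Q))
    obtain ⟨a0, ha0⟩ := QuotientGroup.mk_surjective (x : Q ⧸ Subgroup.center Q)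
    have ha0Z : (a0 : K) ∈ Z2 := by
      refine ⟨a0.2, fun b hb d hd => ?_⟩
      have hm : a0 * ⟨b, hb⟩ * a0⁻¹ * (⟨b, hb⟩ : Q)⁻¹ ∈ Subgroup.center Q := by
        rw [← QuotientGroup.eq_one_iff, QuotientGroup.mk_mul, QuotientGroup.mk_mul, QuotientGroup.mk_mul, ha0,
          ← Subgroup.mem_center_iff.mp x.2, QuotientGroup.mk_inv, QuotientGroup.mk_inv, ha0]
        group
      exact (congrArg Subtype.val (Subgroup.mem_center_iff.mp hm ⟨d, hd⟩)).symm
    obtain ⟨w, hw, hw1, a, ha, hwa, haC⟩ : ∃ w ∈ A, w ≠ 1 ∧ ∃ a ∈ Z2, Commute w a ∧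
        a ∉ Subgroup.centralizer (Q : Set K) := by
      by_contra hno
      push Not at hno
      have hle := le_of_plane hy hz hc hzy (hQ.to_le (fun v hv => hv.1 : Z2 ≤ Q))
        (by rw [Subgroup.normalizer_eq_top]; exact Subgroup.mem_top y)
        (by rw [Subgroup.normalizer_eq_top]; exact Subgroup.mem_top z) hno ha0Z
      refine hx (Subtype.ext ?_)
      rw [← ha0]
      exact (QuotientGroup.eq_one_iff _).mpr (Subgroup.mem_center_iff.mpr fun q => Subtype.ext (hle q q.2))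
    obtain ⟨w', hw', hw'1, b, hb, hwb, hne'⟩ : ∃ w' ∈ A, w' ≠ 1 ∧ ∃ b ∈ Q, Commute w' b ∧ a * b ≠ b * a := by
      by_contra hno
      push Not at hno
      refine haC fun q hq => ?_
      have := le_of_plane hy hz hc hzy (H := Subgroup.centralizer ({a} : Set K)) hQ (hnQ y) (hnQ z)
        (fun w' hw' hw'1 b hb hwb => Subgroup.mem_centralizer_singleton_iff.mpr (hno w' hw' hw'1 b hb hwb).symm) hq
      exact Subgroup.mem_centralizer_singleton_iff.mp this
    have hww : Commute w w' := congrArg Subtype.val (hcomm.is_comm.comm ⟨w, hw⟩ ⟨w', hw'⟩)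
    by_cases hline : w' ∈ Subgroup.zpowers w
    · obtain ⟨i, rfl⟩ := hline
      have hw'a : Commute (w ^ i) a := hwa.zpow_left i
      exact hne' (hcc _ hw' hw'1 a ha.1 hw'a b hb hwb)
    set k := a * b * a⁻¹ * b⁻¹ with hk
    have hkQ : k ∈ Q := mul_mem (mul_mem (mul_mem ha.1 hb) (inv_mem ha.1)) (inv_mem hb)
    have hk2 : k * k = 1 := by
      have haa := hsq w hw hw1 a ha.1 hwa
      calc k * k = (a * b * a⁻¹ * b⁻¹) * k := rfl
        _ = a * (b * a⁻¹ * b⁻¹ * k) := by group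
        _ = a * (k * (b * a⁻¹ * b⁻¹)) := by
          rw [ha.2 b hb (b * a⁻¹ * b⁻¹) (mul_mem (mul_mem hb (inv_mem ha.1)) (inv_mem hb))]
        _ = (a * a) * b * (a * a)⁻¹ * b⁻¹ := by rw [hk]; group
        _ = 1 := by rw [haa]; group
    have hkV : k ∈ centralInvol Q := ⟨hkQ, hk2, fun d hd => ha.2 b hb d hd⟩
    have hstep : ∀ c ∈ Q, a * c * a⁻¹ * c⁻¹ = k → a * (w * c * w⁻¹) * a⁻¹ * (w * c * w⁻¹)⁻¹ = k := by
      intro c _ hck
      calc a * (w * c * w⁻¹) * a⁻¹ * (w * c * w⁻¹)⁻¹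
          = (a * w) * c * (a * w)⁻¹ * (w * c⁻¹ * w⁻¹) := by group
        _ = (w * a) * c * (w * a)⁻¹ * (w * c⁻¹ * w⁻¹) := by rw [hwa.eq]
        _ = w * (a * c * a⁻¹ * c⁻¹) * w⁻¹ := by group
        _ = k := by rw [hck, (hAV w hw k hkV).eq, mul_inv_cancel_right]
    set b1 := w * b * w⁻¹ with hb1
    set b2 := w * b1 * w⁻¹ with hb2
    have hb1Q : b1 ∈ Q := Subgroup.Normal.conj_mem ‹_› b hb w
    have hb2Q : b2 ∈ Q := Subgroup.Normal.conj_mem ‹_› b1 hb1Q w
    have hwc : ∀ c : K, Commute w' c → Commute w' (w * c * w⁻¹) := fun c hc' =>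
      (hww.symm.mul_right hc').mul_right hww.symm.inv_right
    have hw'b1 := hwc b hwb
    have hw'b2 := hwc b1 hw'b1
    have hw3 : w * w * w = 1 := by
      have := hexp w hw
      rwa [pow_succ, pow_two] at this
    set c := b * b1 * b2 with hc'
    have hcQ : c ∈ Q := mul_mem (mul_mem hb hb1Q) hb2Q
    have hw'c : Commute w' c := (hwb.mul_right hw'b1).mul_right hw'b2
    have hwcc : Commute w c := by
      have e : w * c * w⁻¹ = c := by
        calc w * c * w⁻¹ = b1 * b2 * ((w * w * w) * b * (w * w * w)⁻¹) := by rw [hc', hb2, hb1]; group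
          _ = b1 * (b2 * b) := by rw [hw3]; group
          _ = b1 * (b * b2) := by rw [hcc w' hw' hw'1 b2 hb2Q hw'b2 b hb hwb]
          _ = c := by rw [← mul_assoc, hcc w' hw' hw'1 b1 hb1Q hw'b1 b hb hwb, hc', mul_assoc]
      exact mul_inv_eq_iff_eq_mul.mp e
    have hcZ : c ∈ Subgroup.centralizer (Q : Set K) := by
      intro q hq
      have hsub : Subgroup.closure ({w, w'} : Set K) ≤ A :=
        (Subgroup.closure_le _).mpr (by rintro x (rfl | rfl); exacts [hw, hw'])
      have := le_of_plane (hord w hw hw1) (hexp w' hw') hww hline (H := Subgroup.centralizer ({c} : Set K)) hQ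
        (hnQ w) (hnQ w') (fun w'' hw'' hw''1 d hd hwd => ?_) hq
      · exact Subgroup.mem_centralizer_singleton_iff.mp this
      refine Subgroup.mem_centralizer_singleton_iff.mpr (hcc w'' (hsub hw'') hw''1 d hd hwd c hcQ ?_)
      clear hw''1 hd hwd
      induction hw'' using Subgroup.closure_induction with
      | mem x hx => rcases hx with rfl | rfl; exacts [hwcc, hw'c]
      | one => exact Commute.one_left c
      | mul x x' _ _ ihx ihx' => exact ihx.mul_left ihx'
      | inv x _ ihx => exact ihx.inv_left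
    have hlin : ∀ p ∈ Q, ∀ r ∈ Q, a * (p * r) * a⁻¹ * (p * r)⁻¹ =
        (a * p * a⁻¹ * p⁻¹) * (a * r * a⁻¹ * r⁻¹) := by
      intro p hp r hr
      calc a * (p * r) * a⁻¹ * (p * r)⁻¹ = (a * p * a⁻¹ * p⁻¹) * (p * (a * r * a⁻¹ * r⁻¹) * p⁻¹) := by group
        _ = _ := by rw [← ha.2 r hr p hp, mul_inv_cancel_right]
    have h1 : a * c * a⁻¹ * c⁻¹ = 1 := by
      have e : a * c = c * a := hcZ a ha.1
      rw [e]; group
    have hk1 : k = 1 := by
      have e1 := hstep b hb rfl
      have e2 := hstep b1 hb1Q e1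
      rw [hc', hlin _ (mul_mem hb hb1Q) _ hb2Q, hlin _ hb _ hb1Q, e1, e2, ← hk, hk2, one_mul] at h1
      exact h1
    exact hne' (mul_inv_eq_iff_eq_mul.mp (mul_inv_eq_one.mp hk1))
  have hall : ∀ q ∈ Q, q * q = 1 := by
    intro q hq
    let B : Subgroup K :=
      { carrier := {v | v ∈ Q ∧ v * v = 1}
        one_mem' := ⟨one_mem _, one_mul 1⟩
        mul_mem' := fun {p r} hp hr => ⟨mul_mem hp.1 hr.1, by
          rw [Commute.mul_mul_mul_comm (hab r hr.1 p hp.1), hp.2, hr.2, one_mul]⟩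
        inv_mem' := fun {p} hp => ⟨inv_mem hp.1, by rw [← mul_inv_rev, hp.2, inv_one]⟩ }
    exact (le_of_plane hy hz hc hzy (H := B) hQ (hnQ y) (hnQ z)
      (fun w hw hw1 b hb hwb => ⟨hb, hsq w hw hw1 b hb hwb⟩) hq).2
  have hyQ : y ∈ Q := hC fun q hq => (hyV q ⟨hq, hall q hq, fun d hd => hab q hq d hd⟩).eq.symm
  obtain ⟨k, hk⟩ := hQ ⟨y, hyQ⟩
  have h3 : (3 : ℕ) ∣ 2 ^ k := hy ▸ orderOf_dvd_of_pow_eq_one (congrArg Subtype.val hk)
  exact absurd (Nat.prime_three.dvd_of_dvd_pow h3) (by norm_num)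

/-- **A top with a single involution acts faithfully on the central involutions of the core.** -/
theorem Thirteen.free_faithful (h : Thirteen K) {Q : Subgroup K} [Q.Normal] (hQ : IsPGroup 2 Q) (hQ1 : Q ≠ ⊥)
    (hC : Subgroup.centralizer (Q : Set K) ≤ Q) {T A : Subgroup (K ⧸ Q)} {e : K ⧸ Q} (hF : Free T A e) {c : K}
    (hc : ∀ v ∈ centralInvol Q, c * v = v * c) : c ∈ Q := by
  classical
  haveI : Fact (Nat.Prime 2) := ⟨Nat.prime_two⟩
  haveI : Fact (Nat.Prime 3) := ⟨Nat.prime_three⟩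
  set π := QuotientGroup.mk' Q with hπ
  set V := centralInvol Q with hV
  haveI : V.Normal := centralInvol_normal Q
  set N := (Subgroup.centralizer (V : Set K)).map π with hN
  haveI : N.Normal := Subgroup.Normal.map inferInstance π (QuotientGroup.mk'_surjective Q)
  by_contra hcQ
  have hcN : π c ∈ N := Subgroup.mem_map_of_mem π fun v hv => (hc v hv).symm
  haveI := hF.norm
  have hNA : N ⊓ A ≠ ⊥ := by
    intro hbot
    have hcomm : ∀ r ∈ A, Commute r (π c) := by
      intro r hr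
      have hm : r * π c * r⁻¹ * (π c)⁻¹ ∈ N ⊓ A := by
        refine ⟨N.mul_mem ((inferInstance : N.Normal).conj_mem _ hcN r) (N.inv_mem hcN), ?_⟩
        have := mul_mem hr (hF.norm.conj_mem _ (inv_mem hr) (π c))
        rwa [show r * (π c * r⁻¹ * (π c)⁻¹) = r * π c * r⁻¹ * (π c)⁻¹ by group] at this
      rw [hbot, Subgroup.mem_bot] at hm
      exact mul_inv_eq_iff_eq_mul.mp (mul_inv_eq_one.mp hm)
    obtain ⟨a, ha, t, ht, hat⟩ := Subgroup.mem_sup_of_normal_left.mp (hF.gen ▸ Subgroup.mem_top (π c) :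
      π c ∈ A ⊔ T)
    have ht1 : t = 1 := by
      have htc : ∀ r ∈ A, Commute r t := fun r hr => by
        have e' : t = a⁻¹ * π c := by rw [← hat]; group
        rw [e']
        exact (Commute.inv_right (hF.ab r hr a ha)).mul_right (hcomm r hr)
      by_contra ht1
      have h4 := hF.pow_four t ht
      have hte : ∀ r ∈ A, Commute r e := by
        by_cases h2 : t * t = 1
        · rw [← (hF.unique t ht h2).resolve_left ht1]; exact htc
        · intro r hr
          have h22 : t * t * (t * t) = 1 := by rw [← h4]; simp only [pow_succ, pow_zero, one_mul, mul_assoc]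
          rw [← (hF.unique _ (mul_mem ht ht) h22).resolve_left h2]
          exact (htc r hr).mul_right (htc r hr)
      exact hF.ne ((Subgroup.eq_bot_iff_forall _).mpr fun r hr => hF.free r hr (hte r hr))
    rw [ht1, mul_one] at hat
    have hm : π c ∈ N ⊓ A := ⟨hcN, hat ▸ ha⟩
    rw [hbot, Subgroup.mem_bot] at hm
    exact hcQ ((QuotientGroup.eq_one_iff c).mp hm)
  obtain ⟨x, ⟨hxN, hxA⟩, hx1⟩ := (Subgroup.bot_or_exists_ne_one (N ⊓ A)).resolve_left hNA
  -- elements over a normal part of the centraliser fix the central involutions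
  have hover : ∀ k : K, π k ∈ N → ∀ v ∈ V, Commute k v := by
    intro k hk v hv
    obtain ⟨d, hd, hdk⟩ := hk
    have hq : d⁻¹ * k ∈ Q := QuotientGroup.eq.mp hdk
    have e : k = d * (d⁻¹ * k) := by group
    rw [e]
    exact Commute.mul_left (hd v hv).symm (hv.2.2 _ hq).symm
  rcases hF.kind with ⟨u, hu, huo⟩ | ⟨hA3, s, hs, hse⟩
  · have hxo : orderOf x = 13 := by
      haveI : Fact (Nat.Prime 13) := ⟨by norm_num⟩
      exact orderOf_eq_prime ((h.quotient Q).commute_thirteen huo (hF.ab u hu x hxA)) hx1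
    obtain ⟨k, hk, hko⟩ := h.lift_order π (QuotientGroup.mk'_surjective Q) (Or.inr rfl) hxo
    obtain ⟨v, hv, hv1⟩ := (Subgroup.bot_or_exists_ne_one V).resolve_left (centralInvol_ne_bot hQ hQ1)
    exact hv1 (h.thirteen_fixes hko (hover k (hk ▸ hxN) v hv) (p := 2) (by norm_num) (k := 1)
      (by rw [pow_one, pow_two]; exact hv.2.1))
  · set x' := s * x * s⁻¹ with hx'
    have hx'A : x' ∈ A := hF.norm.conj_mem x hxA s
    have hx'N : x' ∈ N := (inferInstance : N.Normal).conj_mem x hxN s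
    have hxo : orderOf x = 3 := hA3.order hxA hx1
    have hline : x' ∉ Subgroup.zpowers x := by
      intro hm
      obtain ⟨i, hi⟩ := Subgroup.mem_zpowers_iff.mp hm
      refine hx1 (hF.free x hxA (mul_inv_eq_iff_eq_mul.mp ?_).symm)
      have e1 : e * x * e⁻¹ = x ^ (i * i) := by
        rw [← hse, zpow_mul, hi, hx', conj_zpow, hi, hx']; group
      rw [e1]
      have hi3 : ¬ (3 : ℤ) ∣ i := fun ⟨j, hj⟩ => hx1 (conj_eq_one_iff.mp (by
        rw [← hx', ← hi, hj, zpow_mul]
        have h3 : x ^ (3 : ℤ) = 1 := by exact_mod_cast hA3.exp x hxA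
        rw [h3, one_zpow]))
      have hi1 : i * i % 3 = 1 := by
        have : i % 3 = 1 ∨ i % 3 = 2 := by omega
        rcases this with e' | e' <;> simp [Int.mul_emod, e']
      rw [← zpow_mod_orderOf, hxo, Nat.cast_ofNat, hi1, zpow_one]
    have hxx' : Commute x x' := hF.ab x hxA x' hx'A
    obtain ⟨hBc, -, hBexp⟩ := plane_closure hxo (hA3.exp x' hx'A) hxx' hline
    set B := Subgroup.closure ({x, x'} : Set (K ⧸ Q)) with hB
    have hB3 : IsPGroup 3 B := fun w => ⟨1, Subtype.ext (by rw [pow_one]; exact hBexp w w.2)⟩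
    set H := B.comap π with hH
    set f : H →* B := π.subgroupComap B with hf
    have hfs : Function.Surjective f := π.subgroupComap_surjective_of_surjective B (QuotientGroup.mk'_surjective Q)
    obtain ⟨R⟩ : Nonempty (Sylow 3 H) := inferInstance
    have htop : (R : Subgroup H).map f = ⊤ := by
      rw [← Sylow.coe_mapSurjective hfs R]
      exact ((R.mapSurjective hfs).is_maximal' (hB3.of_equiv Subgroup.topEquiv.symm) le_top).symm
    have hlift : ∀ w ∈ B, ∃ k : K, π k = w ∧ k ∈ (R : Subgroup H).map H.subtype := by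
      intro w hw
      obtain ⟨k, hk, hkw⟩ := htop.ge (Subgroup.mem_top (⟨w, hw⟩ : B))
      exact ⟨k, congrArg Subtype.val hkw, Subgroup.mem_map_of_mem _ hk⟩
    have hker : ∀ k ∈ (R : Subgroup H).map H.subtype, π k = 1 → k = 1 := fun k hk hk1 =>
      Subgroup.mem_bot.mp (disjoint_iff.mp (IsPGroup.disjoint_of_coprime (R.isPGroup'.map H.subtype) hQ (by norm_num))
        ▸ ⟨hk, (QuotientGroup.eq_one_iff k).mp hk1⟩)
    obtain ⟨y, hy, hyR⟩ := hlift x (Subgroup.subset_closure (Set.mem_insert _ _))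
    obtain ⟨z, hz, hzR⟩ := hlift x' (Subgroup.subset_closure (Set.mem_insert_of_mem _ rfl))
    have hy3 : y ^ 3 = 1 := hker _ (pow_mem hyR 3) (by rw [map_pow, hy, hA3.exp x hxA])
    have hz3 : z ^ 3 = 1 := hker _ (pow_mem hzR 3) (by rw [map_pow, hz, hA3.exp x' hx'A])
    have hyo : orderOf y = 3 := orderOf_eq_prime hy3 fun e' => hx1 (by rw [← hy, e', map_one])
    have hyz : Commute y z := mul_inv_eq_iff_eq_mul.mp (mul_inv_eq_one.mp (hker _
      (mul_mem (mul_mem (mul_mem hyR hzR) (inv_mem hyR)) (inv_mem hzR))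
      (by rw [map_mul, map_mul, map_mul, map_inv, map_inv, hy, hz, hxx'.eq]; group)))
    refine h.plane_moves_center hQ hC hyo hz3 hyz (fun hm => hline ?_) (hover y (hy ▸ hxN)) (hover z (hz ▸ hx'N))
    obtain ⟨i, hi⟩ := Subgroup.mem_zpowers_iff.mp hm
    exact Subgroup.mem_zpowers_iff.mpr ⟨i, by rw [← hy, ← map_zpow, hi, hz]⟩

end CfsgLib.SpecThirteen
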