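import Cfsg.Agent.Lib.SpecThirteen.ParabTop

/-!
Element orders in `{1, 2, 3, 4, 6, 8, 13}`: fixed points of a top with a unique, fixed point free, involution.
-/

set_option autoImplicit false
set_option linter.unusedSectionVars false
set_option linter.style.haveILetI false

namespace CfsgLib.SpecThirteen

open Finset

universe u w

variable {X : Type u} [Group X] [Finite X] {V : Type w} [AddCommGroup V] [Finite V] (a : Act X V)
include a

/-- The fixed points of an element. -/
def Act.fixed (g : X) : AddSubgroup V := (a.ρ g - AddMonoidHom.id V).ker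

/-- The fixed points of a set of elements. -/
def Act.fixedBy (S : Set X) : AddSubgroup V := ⨅ g ∈ S, a.fixed g

theorem Act.mem_fixed {g : X} {v : V} : v ∈ a.fixed g ↔ a.ρ g v = v := by simp [Act.fixed, sub_eq_zero]

theorem Act.mem_fixedBy {S : Set X} {v : V} : v ∈ a.fixedBy S ↔ ∀ g ∈ S, a.ρ g v = v := by
  simp [Act.fixedBy, AddSubgroup.mem_iInf, a.mem_fixed]

theorem Act.index_two_pow (W : AddSubgroup V) : ∃ k, W.index = 2 ^ k := by
  haveI : Fact (Nat.Prime 2) := ⟨Nat.prime_two⟩
  have h : IsPGroup 2 (Multiplicative V) := fun v => ⟨1, Multiplicative.toAdd.injective (by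
    rw [pow_one, pow_two, toAdd_mul, a.two, toAdd_one])⟩
  obtain ⟨n, hn⟩ := IsPGroup.iff_card.mp h
  have hn' : Nat.card V = 2 ^ n := (Nat.card_congr Multiplicative.ofAdd).trans hn
  obtain ⟨k, -, hk⟩ := (Nat.dvd_prime_pow Nat.prime_two).mp (hn' ▸ W.index_dvd_card)
  exact ⟨k, hk⟩

theorem Act.fixed_conj_index (g x : X) : (a.fixed (g * x * g⁻¹)).index = (a.fixed x).index := by
  have hbij : Function.Bijective (a.ρ g) := by
    refine Function.bijective_iff_has_inverse.mpr ⟨a.ρ g⁻¹, fun v => ?_, fun v => ?_⟩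
    · rw [← a.mul, inv_mul_cancel, a.one]
    · rw [← a.mul, mul_inv_cancel, a.one]
  have e : (a.fixed x).map (a.ρ g) = a.fixed (g * x * g⁻¹) := by
    ext v
    rw [AddSubgroup.mem_map, a.mem_fixed]
    constructor
    · rintro ⟨w, hw, rfl⟩
      rw [← a.mul, inv_mul_cancel_right, a.mul, a.mem_fixed.mp hw]
    · intro hv
      refine ⟨a.ρ g⁻¹ v, a.mem_fixed.mpr ?_, by rw [← a.mul, mul_inv_cancel, a.one]⟩
      conv_rhs => rw [← hv]
      rw [← a.mul, ← a.mul]
      congr 1; group
  rw [← e, AddSubgroup.index_map_of_bijective hbij]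

/-- The fixed points of two elements are fixed by their product. -/
theorem Act.index_inf_fixed {g h : X} : (a.fixed g ⊓ a.fixed h).index ≤ (a.fixed g).index * (a.fixed h).index ∧
    a.fixed g ⊓ a.fixed h ≤ a.fixed (g * h) :=
  ⟨AddSubgroup.index_inf_le, fun v hv => a.mem_fixed.mpr (by
    rw [a.mul, a.mem_fixed.mp hv.2, a.mem_fixed.mp hv.1])⟩

variable {T A : Subgroup X} {e : X}

/-- With an element of order thirteen the involution moves at least three dimensions. -/
theorem Act.index_eight_thirteen (hF : Free T A e) {u : X} (huA : u ∈ A) (hu : orderOf u = 13) :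
    8 ≤ (a.fixed e).index := by
  classical
  by_contra hlt
  obtain ⟨k, hk⟩ := a.index_two_pow (a.fixed e)
  have h4 : (a.fixed e).index ≤ 4 := by
    rw [hk] at hlt ⊢
    rcases Nat.lt_or_ge k 3 with h | h
    · exact le_trans (Nat.pow_le_pow_right (by norm_num) (show k ≤ 2 by omega)) le_rfl
    · exact absurd (le_trans (le_refl 8) (Nat.pow_le_pow_right (show 2 > 0 by norm_num) h)) hlt
  set w := e * (u * e * u⁻¹) with hw
  have hwA : w ∈ A := by
    have h1 : e * u * e⁻¹ ∈ A := hF.norm.conj_mem u huA e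
    have e' : w = (e * u * e⁻¹) * u⁻¹ := by
      rw [hw, inv_eq_of_mul_eq_one_left hF.sq]; group
    rw [e']; exact mul_mem h1 (inv_mem huA)
  have hw1 : w ≠ 1 := fun h1 => by
    have h2 : u * e * u⁻¹ = e := (eq_inv_of_mul_eq_one_right h1).trans (inv_eq_of_mul_eq_one_left hF.sq)
    have h3 := hF.free u huA (mul_inv_eq_iff_eq_mul.mp h2)
    rw [h3, orderOf_one] at hu; omega
  have hwo : ∃ z : X, orderOf z = 13 ∧ ∀ v, a.ρ w v = v → a.ρ z v = v := by
    refine ⟨w ^ (orderOf w / 13), ?_, fun v hv => ?_⟩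
    · refine orderOf_pow_orderOf_div (orderOf_pos w).ne' ?_
      obtain ⟨p, hp, hpd⟩ := Nat.exists_prime_and_dvd (mt orderOf_eq_one_iff.mp hw1)
      rcases a.orders.prime_cases hp (hpd.trans (orderOf_dvd_natCard w)) with e' | e' | e'
      · subst e'
        exfalso
        have := (Subgroup.orderOf_dvd_natCard A hwA)
        exact Nat.not_even_iff_odd.mpr hF.odd (even_iff_two_dvd.mpr (hpd.trans this))
      · subst e'
        exfalso
        have hb : orderOf (w ^ (orderOf w / 3)) = 3 := orderOf_pow_orderOf_div (orderOf_pos w).ne' hpd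
        exact a.orders.not_commute (hF.ab u huA _ (A.pow_mem hwA _)) hu hb (by norm_num) (by decide)
      · exact e' ▸ hpd
    · generalize orderOf w / 13 = n
      induction n with
      | zero => rw [pow_zero, a.one]
      | succ n ih => rw [pow_succ, a.mul, hv, ih]
  obtain ⟨z, hz, hzfix⟩ := hwo
  obtain ⟨hidx, hle⟩ := a.index_inf_fixed (g := e) (h := u * e * u⁻¹)
  have hbot : a.fixed e ⊓ a.fixed (u * e * u⁻¹) = ⊥ :=
    (AddSubgroup.eq_bot_iff_forall _).mpr fun v hv =>
      a.fix_thirteen z hz v (hzfix v (a.mem_fixed.mp (hle hv)))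
  rw [hbot, AddSubgroup.index_bot, a.fixed_conj_index] at hidx
  have h16 : Nat.card V ≤ 16 := hidx.trans (Nat.mul_le_mul h4 h4)
  obtain ⟨v, hv⟩ : ∃ v : V, v ≠ 0 := by
    by_contra hno
    push Not at hno
    have := a.faithful u fun v => by rw [hno v, map_zero]
    rw [this, orderOf_one] at hu; omega
  have hu13 : u ^ 13 = 1 := hu ▸ pow_orderOf_eq_one u
  haveI : Fintype V := Fintype.ofFinite V
  set O : V → Finset V := fun x => (range 13).image fun i => a.ρ (u ^ i) x with hO
  have hinj : ∀ x : V, x ≠ 0 → (O x).card = 13 ∧ (0 : V) ∉ O x := by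
    intro x hx
    have hkey : ∀ i < 13, ∀ j < 13, a.ρ (u ^ i) x = a.ρ (u ^ j) x → i = j := by
      intro i hi j hj hij
      by_contra hne
      have hd : a.ρ (u ^ (i + (13 - j))) x = x := by
        have e' := congrArg (a.ρ (u ^ (13 - j))) hij
        rw [← a.mul, ← a.mul, ← pow_add, ← pow_add, show 13 - j + j = 13 by omega, hu13, a.one, add_comm] at e'
        exact e'
      refine hx (a.fix_thirteen (u ^ (i + (13 - j))) ?_ x hd)
      rw [Nat.Coprime.orderOf_pow, hu]
      rw [hu]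
      refine (Nat.Prime.coprime_iff_not_dvd (by norm_num)).mpr fun hd' => ?_
      omega
    refine ⟨?_, fun h0 => ?_⟩
    · rw [hO, card_image_of_injOn, card_range]
      intro i hi j hj hij
      exact hkey i (mem_range.mp hi) j (mem_range.mp hj) hij
    · obtain ⟨i, -, hi⟩ := mem_image.mp h0
      have e' := congrArg (a.ρ (u ^ i)⁻¹) hi
      rw [← a.mul, inv_mul_cancel, a.one, map_zero] at e'
      exact hx e'
  obtain ⟨x, -, hx⟩ := exists_mem_notMem_of_card_lt_card (s := insert 0 (O v)) (t := (univ : Finset V)) (by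
    rw [card_insert_of_notMem (hinj v hv).2, (hinj v hv).1, card_univ]
    by_contra hle'
    have hV : Fintype.card V ≤ 14 := by omega
    obtain ⟨k', hk'⟩ := a.index_two_pow (⊥ : AddSubgroup V)
    rw [AddSubgroup.index_bot, Nat.card_eq_fintype_card] at hk'
    have hge : 14 ≤ Fintype.card V := by
      have := card_le_univ (insert 0 (O v))
      rw [card_insert_of_notMem (hinj v hv).2, (hinj v hv).1] at this
      exact this
    rw [hk'] at hV hge
    rcases Nat.lt_or_ge k' 4 with h | h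
    · have := Nat.pow_le_pow_right (show 2 > 0 by norm_num) (show k' ≤ 3 by omega); omega
    · have := Nat.pow_le_pow_right (show 2 > 0 by norm_num) h; omega)
  simp only [mem_insert, not_or] at hx
  have hdis : Disjoint (O v) (O x) := by
    rw [disjoint_left]
    intro y hy hy'
    obtain ⟨i, hi, rfl⟩ := mem_image.mp hy
    obtain ⟨j, hj, hji⟩ := mem_image.mp hy'
    refine hx.2 (mem_image.mpr ⟨(i + (13 - j)) % 13, mem_range.mpr (Nat.mod_lt _ (by norm_num)), ?_⟩)
    have e' := congrArg (a.ρ (u ^ (13 - j))) hji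
    rw [← a.mul, ← a.mul, ← pow_add, ← pow_add, show 13 - j + j = 13 by have := mem_range.mp hj; omega, hu13,
      a.one, add_comm] at e'
    rw [← pow_eq_pow_mod _ hu13]
    exact e'.symm
  have h26 := card_le_univ (O v ∪ O x)
  rw [card_union_of_disjoint hdis, (hinj v hv).1, (hinj x hx.1).1, ← Nat.card_eq_fintype_card] at h26
  omega

/-- The involution moves at least two dimensions. -/
theorem Act.index_four (hF : Free T A e) : 4 ≤ (a.fixed e).index := by
  classical
  rcases hF.kind with ⟨u, hu, huo⟩ | ⟨hA, s, hs, hse⟩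
  · exact le_trans (by norm_num) (a.index_eight_thirteen hF hu huo)
  by_contra hlt
  obtain ⟨k, hk⟩ := a.index_two_pow (a.fixed e)
  have h2 : (a.fixed e).index ≤ 2 := by
    rw [hk] at hlt ⊢
    rcases Nat.lt_or_ge k 2 with h | h
    · exact le_trans (Nat.pow_le_pow_right (by norm_num) (show k ≤ 1 by omega)) le_rfl
    · exact absurd (le_trans (le_refl 4) (Nat.pow_le_pow_right (show 2 > 0 by norm_num) h)) hlt
  have hinv : ∀ r ∈ A, e * r * e⁻¹ = r⁻¹ := fun r hr => by
    have hR := hF.norm.conj_mem r hr e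
    refine eq_inv_of_mul_eq_one_right (hF.free _ (mul_mem hr hR) ((mul_inv_eq_iff_eq_mul.mp ?_).symm))
    calc e * (r * (e * r * e⁻¹)) * e⁻¹ = (e * r * e⁻¹) * ((e * e) * r * (e * e)⁻¹) := by group
      _ = (e * r * e⁻¹) * r := by rw [hF.sq]; group
      _ = r * (e * r * e⁻¹) := hF.ab _ hR _ hr
  -- every element of the odd subgroup fixes a hyperplane of codimension two
  have hsmall : ∀ r ∈ A, (a.fixed r).index ≤ 4 := by
    intro r hr
    obtain ⟨hidx, hle⟩ := a.index_inf_fixed (g := e) (h := r * e * r⁻¹)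
    have e' : e * (r * e * r⁻¹) = r := by
      calc e * (r * e * r⁻¹) = (e * r * e⁻¹) * (e * e) * r⁻¹ := by group
        _ = r := by rw [hinv r hr, hF.sq, mul_one, hA.sq (inv_mem hr), inv_inv]
    rw [e'] at hle
    rw [a.fixed_conj_index] at hidx
    exact (Nat.le_of_dvd (Nat.pos_of_ne_zero AddSubgroup.index_ne_zero_of_finite)
      (AddSubgroup.index_dvd_of_le hle)).trans (hidx.trans (Nat.mul_le_mul h2 h2))
  obtain ⟨y0, hy0, hy01⟩ := (Subgroup.bot_or_exists_ne_one A).resolve_left hF.ne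
  have hconj : ∀ y ∈ A, s * y * s⁻¹ ∈ A := fun y hy => hF.norm.conj_mem y hy s
  have hback : ∀ y ∈ A, s * (s * y * s⁻¹) * s⁻¹ = y⁻¹ := fun y hy => by
    calc s * (s * y * s⁻¹) * s⁻¹ = (s * s) * y * (s * s)⁻¹ := by group
      _ = y⁻¹ := by rw [hse, hinv y hy]
  -- some point fixed by an element is moved by its conjugate
  obtain ⟨y, hy, v, hv, hv'⟩ : ∃ y ∈ A, ∃ v : V, a.ρ y v = v ∧ a.ρ (s * y * s⁻¹) v ≠ v := by
    by_contra hno
    push Not at hno
    refine hy01 (a.faithful y0 fun v => a.mem_fixed.mp ?_)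
    set z0 := s * y0 * s⁻¹ with hz0
    have hinvfix : ∀ {g : X} {w : V}, a.ρ g w = w → a.ρ g⁻¹ w = w := fun {g w} h => by
      conv_lhs => rw [← h, ← a.mul, inv_mul_cancel, a.one]
    have hz : ∀ w, a.ρ z0 w = w → a.ρ y0 w = w := fun w hw => by
      have h1 := hno z0 (hconj y0 hy0) w hw
      rw [hz0, hback y0 hy0] at h1
      have := hinvfix h1
      rwa [inv_inv] at this
    refine a.lines_cover Nat.prime_three (by decide) (hA.exp y0 hy0) (hA.exp z0 (hconj y0 hy0))
      (hF.ab _ hy0 _ (hconj y0 hy0)) (a.fixed y0) (fun w hw => a.mem_fixed.mpr hw)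
      (fun j hj w hw => a.mem_fixed.mpr (hz w ?_)) v
    have h1 := hno (y0 ^ j * z0) (mul_mem (pow_mem hy0 _) (hconj y0 hy0)) w hw
    rw [show s * (y0 ^ j * z0) * s⁻¹ = (s * y0 * s⁻¹) ^ j * (s * z0 * s⁻¹) by rw [conj_pow]; group, ← hz0,
      show s * z0 * s⁻¹ = y0⁻¹ from hback y0 hy0] at h1
    interval_cases j
    · rw [pow_zero, one_mul] at hw; exact hw
    · rw [pow_one] at h1 hw
      have h2 : a.ρ ((y0 * z0) * (z0 * y0⁻¹)) w = w := by rw [a.mul, h1, hw]
      rw [show y0 * z0 * (z0 * y0⁻¹) = z0 * z0 by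
        calc y0 * z0 * (z0 * y0⁻¹) = y0 * (z0 * z0) * y0⁻¹ := by group
          _ = z0 * z0 := by rw [hF.ab _ hy0 _ (mul_mem (hconj y0 hy0) (hconj y0 hy0)), mul_inv_cancel_right],
        hA.sq (hconj y0 hy0)] at h2
      have := hinvfix h2
      rwa [inv_inv] at this
    · rw [pow_two, hA.sq hy0] at hw
      rw [pow_two, hA.sq (hconj y0 hy0)] at h1
      have h2 : a.ρ ((y0⁻¹ * z0) * (z0⁻¹ * y0⁻¹)⁻¹) w = w := by rw [a.mul, hinvfix h1, hw]
      rw [show y0⁻¹ * z0 * (z0⁻¹ * y0⁻¹)⁻¹ = y0⁻¹ * (z0 * y0) * z0 by group, hF.ab _ (hconj y0 hy0) _ hy0,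
        inv_mul_cancel_left, hA.sq (hconj y0 hy0)] at h2
      have := hinvfix h2
      rwa [inv_inv] at this
  set y' := s * y * s⁻¹ with hy'
  have hyy' : Commute y y' := hF.ab _ hy _ (hconj y hy)
  have hy3 : y' * y' * y' = 1 := hA.three (hconj y hy)
  set L : AddSubgroup V := (a.fixed y).map (a.ρ y' + AddMonoidHom.id V) with hL
  have hLy : ∀ d ∈ L, a.ρ y d = d := by
    rintro _ ⟨c, hc, rfl⟩
    simp only [AddMonoidHom.add_apply, AddMonoidHom.id_apply, map_add, ← a.mul, hyy'.eq]
    rw [a.mul, a.mem_fixed.mp hc]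
  have hLy' : ∀ d ∈ L, a.ρ y' d = d → d = 0 := by
    rintro _ ⟨c, hc, rfl⟩ hd
    simp only [AddMonoidHom.add_apply, AddMonoidHom.id_apply, map_add, ← a.mul] at hd ⊢
    have h1 : a.ρ (y' * y') c = c := by
      rw [add_comm (a.ρ y' c) c] at hd
      exact add_right_cancel hd
    have h2 : a.ρ y' c = c := by
      conv_lhs => rw [← h1, ← a.mul, ← mul_assoc, hy3, a.one]
    rw [h2, a.two]
  set d := a.ρ y' v + v with hd
  have hdL : d ∈ L := ⟨v, a.mem_fixed.mpr hv, rfl⟩
  have hd0 : d ≠ 0 := fun h0 => hv' (by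
    have h1 : a.ρ y' v + v = v + v := by rw [a.two]; exact h0
    exact add_right_cancel h1)
  have hd'L : a.ρ y' d ∈ L := ⟨a.ρ y' v, a.mem_fixed.mpr (by rw [← a.mul, hyy'.eq, a.mul, hv]), by
    simp [hd, map_add]⟩
  have hne : a.ρ y' d ≠ d := fun h => hd0 (hLy' d hdL h)
  have hd'0 : a.ρ y' d ≠ 0 := fun h0 => hd0 (by
    have h1 := congrArg (a.ρ (y' * y')) h0
    rwa [← a.mul, hy3, a.one, map_zero] at h1)
  have h4 : 4 ≤ Nat.card L := by
    haveI : Fintype L := Fintype.ofFinite L
    rw [Nat.card_eq_fintype_card]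
    refine le_trans (le_of_eq ?_) (card_le_univ
      ({0, ⟨d, hdL⟩, ⟨_, hd'L⟩, ⟨d + a.ρ y' d, add_mem hdL hd'L⟩} : Finset L))
    symm
    rw [card_insert_of_notMem, card_insert_of_notMem, card_insert_of_notMem, card_singleton]
    · simp only [mem_singleton, Subtype.mk.injEq]
      intro h
      have h' := h.symm
      exact hd0 (by rwa [← sub_eq_zero, add_sub_cancel_right] at h')
    · simp only [mem_insert, mem_singleton, Subtype.mk.injEq, not_or]
      exact ⟨fun h => hne h.symm, fun h => hd'0 (by simpa using h.symm)⟩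
    · simp only [mem_insert, mem_singleton, Subtype.ext_iff, not_or]
      refine ⟨fun h => hd0 h.symm, fun h => hd'0 h.symm, fun h => hne ?_⟩
      calc a.ρ y' d = d + (d + a.ρ y' d) := by rw [← add_assoc, a.two, zero_add]
        _ = d := by rw [← h]; exact add_zero d
  set r := y * y' with hr
  have hf : Function.Injective (fun p : L × L => (QuotientAddGroup.mk ((p.1 : V) + a.ρ s (p.2 : V)) :
      V ⧸ a.fixed r)) := by
    rintro ⟨c1, c2⟩ ⟨c1', c2'⟩ h
    rw [QuotientAddGroup.eq_iff_sub_mem, a.mem_fixed] at h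
    set p : V := (c1 : V) - c1' with hp
    set q : V := (c2 : V) - c2' with hq
    rw [show ((c1 : V) + a.ρ s c2) - (c1' + a.ρ s c2') = p + a.ρ s q by simp [hp, hq, map_sub]; abel] at h
    have hpL : p ∈ L := sub_mem c1.2 c1'.2
    have hqL : q ∈ L := sub_mem c2.2 c2'.2
    have hqy' : a.ρ y' (a.ρ s q) = a.ρ s q := by
      rw [← a.mul, hy', inv_mul_cancel_right, a.mul, hLy q hqL]
    have e1 : a.ρ y' p + a.ρ y (a.ρ s q) = p + a.ρ s q := by
      have h' : a.ρ y (a.ρ y' p) + a.ρ y (a.ρ y' (a.ρ s q)) = p + a.ρ s q := by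
        rw [← map_add, ← map_add, ← a.mul, ← hr]; exact h
      rwa [hqy', show a.ρ y (a.ρ y' p) = a.ρ y' p by rw [← a.mul, hyy'.eq, a.mul, hLy p hpL]] at h'
    have e2 : a.ρ y' p + p = a.ρ y (a.ρ s q) + a.ρ s q := by
      calc a.ρ y' p + p = a.ρ y' p + (p + (a.ρ y (a.ρ s q) + a.ρ y (a.ρ s q))) := by rw [a.two, add_zero]
        _ = (a.ρ y' p + a.ρ y (a.ρ s q)) + (p + a.ρ y (a.ρ s q)) := by abel
        _ = (p + a.ρ s q) + (p + a.ρ y (a.ρ s q)) := by rw [e1]
        _ = (p + p) + (a.ρ y (a.ρ s q) + a.ρ s q) := by abel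
        _ = _ := by rw [a.two, zero_add]
    have hfixp : a.ρ y' (a.ρ y' p + p) = a.ρ y' p + p := by
      rw [e2, map_add, ← a.mul y' y, ← hyy'.eq, a.mul, hqy']
    have hp' : a.ρ y' p = p := by
      have h1 : a.ρ (y' * y') p = p := by
        rw [map_add, ← a.mul, add_comm (a.ρ y' p) p] at hfixp
        exact add_right_cancel hfixp
      conv_lhs => rw [← h1, ← a.mul, ← mul_assoc, hy3, a.one]
    have hp0 := hLy' p hpL hp'
    have hq' : a.ρ y (a.ρ s q) = a.ρ s q := by
      rw [hp', a.two] at e2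
      calc a.ρ y (a.ρ s q) = a.ρ y (a.ρ s q) + (a.ρ s q + a.ρ s q) := by rw [a.two, add_zero]
        _ = a.ρ s q := by rw [← add_assoc, ← e2, zero_add]
    have hq0 : q = 0 := by
      refine hLy' q hqL ?_
      have hinv' : a.ρ y⁻¹ (a.ρ s q) = a.ρ s q := by
        conv_lhs => rw [← hq', ← a.mul, inv_mul_cancel, a.one]
      rw [← a.mul, show y⁻¹ * s = s * y' by rw [← hback y hy, hy']; group, a.mul] at hinv'
      have h5 := congrArg (a.ρ s⁻¹) hinv'
      rwa [← a.mul, ← a.mul s⁻¹ s, inv_mul_cancel, a.one, a.one] at h5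
    exact Prod.ext (Subtype.ext (sub_eq_zero.mp hp0)) (Subtype.ext (sub_eq_zero.mp hq0))
  have h16 := Nat.card_le_card_of_injective _ hf
  rw [Nat.card_prod, ← AddSubgroup.index_eq_card] at h16
  have := hsmall r (mul_mem hy (hconj y hy))
  nlinarith

/-- An element squaring to the involution has a nonzero norm. -/
theorem Act.norm_four (hF : Free T A e) {s : X} (hs : s ∈ T) (hse : s * s = e) :
    ∃ v : V, ∑ i ∈ range 4, a.ρ (s ^ i) v ≠ 0 := by
  by_contra hno
  push Not at hno
  refine hF.ne (a.kernel_two_pow A hF.ab hF.odd (s := s) (k := 1) ?_ (fun x hx => hF.norm.conj_mem x hx s) ?_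
    fun v => hno v)
  · exact hF.pow_four s hs
  · intro x hx hxe
    rw [pow_one, pow_two, hse] at hxe
    exact hF.free x hx (mul_inv_eq_iff_eq_mul.mp hxe).symm

/-- The Sylow subgroup fixes at most a subgroup of index eight. -/
theorem Act.index_eight (hF : Free T A e) : 8 ≤ (a.fixedBy (T : Set X)).index := by
  have hle : a.fixedBy (T : Set X) ≤ a.fixed e := fun v hv => a.mem_fixed.mpr (a.mem_fixedBy.mp hv e hF.mem)
  rcases hF.kind with ⟨u, hu, huo⟩ | ⟨-, s, hs, hse⟩
  · exact (a.index_eight_thirteen hF hu huo).trans (Nat.le_of_dvd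
      (Nat.pos_of_ne_zero AddSubgroup.index_ne_zero_of_finite) (AddSubgroup.index_dvd_of_le hle))
  obtain ⟨v, hv⟩ := a.norm_four hF hs hse
  have hs4 : s ^ 4 = 1 := hF.pow_four s hs
  -- a point fixed by the involution and moved by its square root
  set w := a.ρ e v + v with hw
  have hwe : a.ρ e w = w := by rw [hw, map_add, ← a.mul, hF.sq, a.one, add_comm]
  have hws : a.ρ s w ≠ w := fun h => hv (by
    calc ∑ i ∈ range 4, a.ρ (s ^ i) v = w + a.ρ s w := by
          simp only [Finset.sum_range_succ, Finset.sum_range_zero, zero_add, pow_zero, pow_one, a.one]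
          rw [pow_two, show s ^ 3 = s * (s * s) by rw [pow_succ', pow_two], hse, a.mul, hw, map_add]
          abel
      _ = 0 := by rw [h, a.two])
  have hlt : a.fixedBy (T : Set X) < a.fixed e :=
    lt_of_le_of_ne hle fun heq => hws (a.mem_fixedBy.mp (heq.ge (a.mem_fixed.mpr hwe)) s hs)
  have hmul := AddSubgroup.relIndex_mul_index hle
  have h2 : 2 ≤ (a.fixedBy (T : Set X)).relIndex (a.fixed e) := by
    by_contra hlt2
    have h0 : (a.fixedBy (T : Set X)).relIndex (a.fixed e) ≠ 0 := AddSubgroup.index_ne_zero_of_finite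
    exact hlt.not_ge (AddSubgroup.relIndex_eq_one.mp (by omega))
  have h4 := a.index_four hF
  nlinarith

end CfsgLib.SpecThirteen
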