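import Mathlib

/-!
Pairings between sets acted on by a Frobenius group `13 : 3` in which the elements fixed by the element of order three
pair to zero: only few pairs of eigenspaces of the element of order thirteen pair nontrivially.
-/

set_option autoImplicit false
set_option linter.unusedSectionVars false
set_option linter.style.haveILetI false

namespace CfsgLib.SpecThirteen

open Finset Polynomial

universe u v

/-- The ring `F₂[ζ]` for a thirteenth root of unity `ζ`. -/
abbrev CycRing := AdjoinRoot (∑ i ∈ range 13, (X : (ZMod 2)[X]) ^ i)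

/-- The thirteenth root of unity. -/
noncomputable def cycZeta : CycRing := AdjoinRoot.root _

theorem cycZeta_sum : ∑ i ∈ range 13, cycZeta ^ i = 0 := by
  have h := AdjoinRoot.mk_self (f := ∑ i ∈ range 13, (X : (ZMod 2)[X]) ^ i)
  simp only [map_sum, map_pow, AdjoinRoot.mk_X] at h
  exact h

theorem cycZeta_pow : cycZeta ^ 13 = 1 := by
  have h := geom_sum_mul cycZeta 13
  rw [cycZeta_sum, zero_mul] at h
  exact sub_eq_zero.mp h.symm

theorem cycRing_two (a : CycRing) : a + a = 0 := by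
  have h : (1 : CycRing) + 1 = 0 := by
    rw [← map_one (AdjoinRoot.of (∑ i ∈ range 13, (X : (ZMod 2)[X]) ^ i)), ← map_add,
      show (1 : ZMod 2) + 1 = 0 from rfl, map_zero]
  calc a + a = a * ((1 : CycRing) + 1) := by rw [mul_add, mul_one]
    _ = 0 := by rw [h, mul_zero]

theorem cycRing_of_injective :
    Function.Injective (AdjoinRoot.of (∑ i ∈ range 13, (X : (ZMod 2)[X]) ^ i)) := by
  refine AdjoinRoot.of.injective_of_degree_ne_zero ?_
  have hc : (∑ i ∈ range 13, (X : (ZMod 2)[X]) ^ i).coeff 1 = 1 := by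
    rw [finsetSum_coeff]
    simp [coeff_X_pow]
  intro h0
  have := coeff_eq_zero_of_degree_lt (n := 1) (p := ∑ i ∈ range 13, (X : (ZMod 2)[X]) ^ i) (by rw [h0]; exact Nat.cast_lt.mpr Nat.one_pos)
  rw [hc] at this
  exact one_ne_zero this

/-- The character. -/
noncomputable def cycChi (a : ZMod 13) : CycRing := cycZeta ^ a.val

theorem cycChi_zero : cycChi 0 = 1 := by simp [cycChi]

theorem cycChi_add (a b : ZMod 13) : cycChi (a + b) = cycChi a * cycChi b := by
  rw [cycChi, cycChi, cycChi, ← pow_add, ZMod.val_add, ← pow_eq_pow_mod _ cycZeta_pow]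

theorem cycChi_sum (s : ZMod 13) : ∑ t : ZMod 13, cycChi (t * s) = if s = 0 then 1 else 0 := by
  haveI : Fact (Nat.Prime 13) := ⟨by norm_num⟩
  by_cases hs : s = 0
  · rw [if_pos hs, hs]
    simp only [mul_zero, cycChi_zero, sum_const, card_univ, ZMod.card]
    calc (13 : ℕ) • (1 : CycRing) = 6 • (1 + 1 : CycRing) + 1 := by rw [smul_add, ← add_smul, ← succ_nsmul]
      _ = 1 := by rw [cycRing_two, nsmul_zero, zero_add]
  · rw [if_neg hs, Fintype.sum_equiv (Equiv.mulRight₀ s hs) (fun t => cycChi (t * s)) cycChi (fun t => rfl)]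
    rw [← cycZeta_sum]
    exact Fin.sum_univ_eq_sum_range (fun i => cycZeta ^ i) 13

/-- The pairs of eigenspaces that may pair nontrivially. -/
abbrev orbitPair (i j : ZMod 13) : Prop := i ≠ 0 ∧ (j = 3 * i ∨ j = 9 * i)

set_option synthInstance.maxSize 1024 in
theorem orbitPair_unique : ∀ i j : ZMod 13, ¬ orbitPair i j → i ≠ 0 → j ≠ 0 → i + j ≠ 0 →
    ∀ k l : Fin 3, i * 9 ^ (k : ℕ) + j * 9 ^ (l : ℕ) = i + j → k = 0 ∧ l = 0 := by decide +kernel

theorem three_pow_nine : ∀ k : Fin 3, (3 : ZMod 13) ^ (k : ℕ) * 9 ^ (k : ℕ) = 1 := by decide +kernel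

theorem orbitPair_triple : ∀ i j k : ZMod 13, orbitPair i j → orbitPair (i + j) k →
    ¬ orbitPair j k ∧ ¬ orbitPair k i := by decide +kernel

/-- A set with an action of `13 : 3`. -/
structure Frame39 (A : Type u) where
  /-- The element of order thirteen. -/
  rot : ZMod 13 → A → A
  /-- The element of order three. -/
  tri : Fin 3 → A → A
  rot_zero : ∀ v, rot 0 v = v
  rot_add : ∀ a b v, rot (a + b) v = rot a (rot b v)
  tri_zero : ∀ v, tri 0 v = v
  tri_rot : ∀ (k : Fin 3) a v, tri k (rot a v) = rot (3 ^ (k : ℕ) * a) (tri k v)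

variable {A : Type u} {B : Type v} {K : Type*} [CommRing K] (χ : ZMod 13 → K) (F : Frame39 A) (E : Frame39 B)
  (β : A → B → K)

/-- The component of a pairing. -/
noncomputable def eigPair (i j : ZMod 13) (v : A) (w : B) : K :=
  ∑ a : ZMod 13, ∑ b : ZMod 13, χ (-(i * a + j * b)) * β (F.rot a v) (E.rot b w)

/-- **Only pairs in one orbit of the element of order three pair nontrivially.** -/
theorem eigPair_eq_zero (hadd : ∀ a b, χ (a + b) = χ a * χ b)
    (hsum : ∀ s : ZMod 13, ∑ t : ZMod 13, χ (t * s) = if s = 0 then 1 else 0)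
    (hT : ∀ t v w, ∑ k : Fin 3, ∑ l : Fin 3, β (F.rot t (F.tri k v)) (E.rot t (E.tri l w)) = 0)
    (hA : ∀ v w, ∑ a : ZMod 13, β (F.rot a v) w = 0) (hB : ∀ v w, ∑ b : ZMod 13, β v (E.rot b w) = 0)
    (hD : ∀ v w, ∑ t : ZMod 13, β (F.rot t v) (E.rot t w) = 0)
    {i j : ZMod 13} (hij : ¬ orbitPair i j) (v : A) (w : B) : eigPair χ F E β i j v w = 0 := by
  classical
  haveI : Fact (Nat.Prime 13) := ⟨by norm_num⟩
  by_cases hi : i = 0
  · subst hi
    rw [eigPair, sum_comm]
    refine sum_eq_zero fun b _ => ?_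
    simp only [zero_mul, zero_add]
    rw [← mul_sum, hA, mul_zero]
  by_cases hj : j = 0
  · subst hj
    rw [eigPair]
    refine sum_eq_zero fun a _ => ?_
    simp only [zero_mul, add_zero]
    rw [← mul_sum, hB, mul_zero]
  by_cases hs : i + j = 0
  · rw [eigPair]
    have e : ∀ a, ∑ b : ZMod 13, χ (-(i * a + j * b)) * β (F.rot a v) (E.rot b w) =
        ∑ d : ZMod 13, χ (-(j * d)) * β (F.rot a v) (E.rot a (E.rot d w)) := fun a =>
      (Fintype.sum_equiv (Equiv.addLeft a) _ _ fun d => by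
        rw [Equiv.coe_addLeft, ← E.rot_add]
        congr 2
        linear_combination a * hs).symm
    simp only [e]
    rw [sum_comm]
    exact sum_eq_zero fun d _ => by rw [← mul_sum, hD, mul_zero]
  -- the trace relation in each degree
  have h93 := three_pow_nine
  set d : Fin 3 → Fin 3 → ZMod 13 := fun k l => i * 9 ^ (k : ℕ) + j * 9 ^ (l : ℕ) with hd
  set S : Fin 3 → Fin 3 → K := fun k l =>
    eigPair χ F E β (i * 9 ^ (k : ℕ)) (j * 9 ^ (l : ℕ)) (F.tri k v) (E.tri l w) with hS
  have hrel : ∀ t, ∑ k : Fin 3, ∑ l : Fin 3, χ (t * d k l) * S k l = 0 := by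
    intro t
    have h0 : ∑ a : ZMod 13, ∑ b : ZMod 13, χ (-(i * a + j * b)) *
        ∑ k : Fin 3, ∑ l : Fin 3, β (F.rot t (F.tri k (F.rot a v))) (E.rot t (E.tri l (E.rot b w))) = 0 :=
      sum_eq_zero fun a _ => sum_eq_zero fun b _ => by rw [hT, mul_zero]
    rw [← h0]
    simp only [mul_sum]
    conv_rhs =>
      enter [2, a]
      rw [sum_comm]
    rw [sum_comm (γ := ZMod 13)]
    refine sum_congr rfl fun k _ => ?_
    conv_rhs =>
      enter [2, a]
      rw [sum_comm]
    rw [sum_comm (γ := ZMod 13)]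
    refine sum_congr rfl fun l _ => ?_
    rw [hS]
    simp only [eigPair, mul_sum]
    symm
    refine Fintype.sum_equiv ((Equiv.mulLeft₀ ((3 : ZMod 13) ^ (k : ℕ)) (by
      intro e; have := h93 k; rw [e, zero_mul] at this; exact zero_ne_one this)).trans (Equiv.addLeft t)) _ _ fun a => ?_
    refine Fintype.sum_equiv ((Equiv.mulLeft₀ ((3 : ZMod 13) ^ (l : ℕ)) (by
      intro e; have := h93 l; rw [e, zero_mul] at this; exact zero_ne_one this)).trans (Equiv.addLeft t)) _ _ fun b => ?_
    simp only [Equiv.trans_apply, Equiv.mulLeft₀_apply, Equiv.coe_addLeft]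
    rw [F.tri_rot, E.tri_rot, ← F.rot_add, ← E.rot_add, ← mul_assoc (χ _), ← hadd]
    congr 2
    simp only [hd]
    linear_combination (i * a) * h93 k + (j * b) * h93 l
  have h1 : ∑ t : ZMod 13, χ (-(t * (i + j))) * ∑ k : Fin 3, ∑ l : Fin 3, χ (t * d k l) * S k l = 0 :=
    sum_eq_zero fun t _ => by rw [hrel, mul_zero]
  simp only [mul_sum, ← mul_assoc, ← hadd] at h1
  rw [sum_comm] at h1
  have h2 : ∀ k : Fin 3, (∑ t : ZMod 13, ∑ l : Fin 3, χ (-(t * (i + j)) + t * d k l) * S k l) =
      ∑ l : Fin 3, (if d k l - (i + j) = 0 then 1 else 0) * S k l := fun k => by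
    rw [sum_comm]
    refine sum_congr rfl fun l _ => ?_
    rw [← sum_mul, ← hsum]
    congr 1
    exact sum_congr rfl fun t _ => by rw [mul_sub, sub_eq_neg_add]
  simp only [h2] at h1
  rw [sum_eq_single 0 (fun k _ hk => sum_eq_zero fun l _ => ?_) (by simp), sum_eq_single 0 (fun l _ hl => ?_) (by simp)]
    at h1
  · simpa [hd, hS, F.tri_zero, E.tri_zero] using h1
  · rw [if_neg fun e => hl (orbitPair_unique i j hij hi hj hs 0 l (sub_eq_zero.mp e)).2, zero_mul]
  · rw [if_neg fun e => hk (orbitPair_unique i j hij hi hj hs k l (sub_eq_zero.mp e)).1, zero_mul]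

/-- The sum of all components is the pairing. -/
theorem sum_chi_mul (hsum : ∀ s : ZMod 13, ∑ t : ZMod 13, χ (t * s) = if s = 0 then 1 else 0) (f : ZMod 13 → K) : ∑ i : ZMod 13, ∑ a : ZMod 13, χ (-(i * a)) * f a = f 0 := by
  rw [sum_comm, sum_eq_single 0 (fun a _ ha => ?_) (by simp)]
  · rw [← sum_mul]
    have := hsum 0
    rw [if_pos rfl] at this
    simp only [mul_zero, neg_zero] at this ⊢
    rw [this, one_mul]
  · rw [← sum_mul]
    have := hsum (-a)
    rw [if_neg (neg_ne_zero.mpr ha)] at this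
    simp only [mul_neg] at this
    rw [this, zero_mul]

end CfsgLib.SpecThirteen
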