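import Cfsg.Agent.Lib.SpecThirteen.Act
import Cfsg.Agent.Lib.SpecSix.FratAct
import Cfsg.Agent.Lib.SpecSix.AmalgamBase

/-!
Element orders in `{1, 2, 3, 4, 6, 8, 13}`: elementary abelian normal subgroups are modules with the required
properties for the quotient by their centraliser, when this is a 2-group.
-/

set_option autoImplicit false
set_option linter.unusedSectionVars false
set_option linter.style.haveILetI false

namespace CfsgLib.SpecThirteen

open Finset
open CfsgLib.SpecSix (actAdd actAdd_apply actAdd_mul actAdd_one fixed_in_coset isMulCommutative_of_sq)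
open scoped IsMulCommutative

universe u v

variable {K : Type u} [Group K] [Finite K] {X : Type v} [Group X]

/-- A lift of an element of prime order `3` or `13` having the same order. -/
theorem Thirteen.lift_order (h : Thirteen K) (f : K →* X) (hf : Function.Surjective f) {p : ℕ}
    (hp : p = 3 ∨ p = 13) {y : X} (hy : orderOf y = p) : ∃ k : K, f k = y ∧ orderOf k = p := by
  have hpp : p.Prime := by rcases hp with e | e <;> subst e <;> norm_num
  haveI := Fact.mk hpp
  obtain ⟨k, rfl⟩ := hf y
  set n := orderOf k with hn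
  have hd : p ∣ n := hy ▸ orderOf_map_dvd f k
  obtain ⟨m, hm⟩ := hd
  have hnp : ¬ p ∣ m := fun hdm => by
    obtain ⟨c, rfl⟩ := hdm
    have h2 := orders_dvd (h k) (show p ^ 2 ∣ orderOf k by rw [← hn, hm]; exact ⟨c, by ring⟩)
    rcases hp with e | e <;> subst e <;> simp [orders] at h2
  have hcop : Nat.Coprime m p := (hpp.coprime_iff_not_dvd.mpr hnp).symm
  obtain ⟨j, hj⟩ := exists_pow_eq_self_of_coprime (x := f k) (n := m) (by rw [hy]; exact hcop)
  refine ⟨k ^ (m * j), by rw [map_pow, pow_mul]; exact hj, ?_⟩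
  refine orderOf_eq_prime ?_ fun h1 => ?_
  · rw [← pow_mul, show m * j * p = n * j by rw [hm]; ring, pow_mul, pow_orderOf_eq_one, one_pow]
  · have e := congrArg f h1
    rw [map_pow, pow_mul, hj, map_one] at e
    rw [e, orderOf_one] at hy
    exact hpp.one_lt.ne hy

variable (U : Subgroup K) [U.Normal] [IsMulCommutative U]

/-- An elementary abelian normal subgroup whose centraliser is a 2-group, as a module for the quotient by its
centraliser. -/
noncomputable def Thirteen.moduleAct (h : Thirteen K) (hU : ∀ v ∈ U, v * v = 1) (f : K →* X)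
    (hf : Function.Surjective f) (hker : ∀ k, f k = 1 ↔ ∀ v ∈ U, k * v = v * k) (h2 : IsPGroup 2 f.ker) :
    Act X (Additive U) := by
  classical
  set s := Function.surjInv hf with hs
  have hsf : ∀ x, f (s x) = x := Function.surjInv_eq hf
  have hcongr : ∀ k x, f k = x → ∀ a : Additive U, actAdd U (s x) a = actAdd U k a := by
    intro k x hkx a
    refine Additive.toMul.injective (Subtype.ext ?_)
    simp only [actAdd_apply]
    have hc := (hker (k⁻¹ * s x)).mp (by rw [map_mul, map_inv, hsf, hkx, inv_mul_cancel]) _ a.toMul.2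
    calc s x * (a.toMul : K) * (s x)⁻¹ = k * ((k⁻¹ * s x) * (a.toMul : K)) * (k⁻¹ * s x)⁻¹ * k⁻¹ := by group
      _ = k * (a.toMul : K) * k⁻¹ := by rw [hc]; group
  have hUker : ∀ v ∈ U, f v = 1 := fun v hv => (hker v).mpr fun w hw =>
    congrArg Subtype.val (mul_comm (⟨v, hv⟩ : U) ⟨w, hw⟩)
  have hlift2 : ∀ (k : K) (x : X), f k = x → x ^ 8 = 1 → k ^ 8 ^ 1 ∈ f.ker := by
    intro k x hkx hx
    rw [pow_one, MonoidHom.mem_ker, map_pow, hkx, hx]
  refine
    { ρ := fun x => actAdd U (s x)
      orders := h.of_surjective f hf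
      one := fun a => by rw [hcongr 1 1 (map_one f), actAdd_one]
      mul := fun x y a => by rw [hcongr (s x * s y) (x * y) (by rw [map_mul, hsf, hsf]), actAdd_mul]
      two := fun a => Additive.toMul.injective (Subtype.ext (hU _ a.toMul.2))
      faithful := fun x hx => ?_
      fix := ?_
      norm_eight := ?_
      fix_thirteen := ?_ }
  · rw [← hsf x]
    refine (hker _).mpr fun v hv => mul_inv_eq_iff_eq_mul.mp ?_
    have e := congrArg (fun b : Additive U => ((b.toMul : U) : K)) (hx (Additive.ofMul ⟨v, hv⟩))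
    simpa [actAdd_apply] using e
  · intro y e hy he hc a ha
    obtain ⟨k, hk, hk3⟩ := h.lift_order f hf (Or.inl rfl) hy
    obtain ⟨g0, hg0⟩ := hf e
    have hm : g0⁻¹ * (k * g0 * k⁻¹) ∈ f.ker := by
      rw [MonoidHom.mem_ker]
      simp only [map_mul, map_inv, hk, hg0]
      rw [hc.eq]; group
    obtain ⟨n, hn, hcom⟩ := fixed_in_coset h2 hk3 (fun m hm' => f.normal_ker.conj_mem m hm' k) hm
    set g := g0 * n with hg
    have hge : f g = e := by rw [hg, map_mul, hg0, MonoidHom.mem_ker.mp hn, mul_one]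
    have hv : Commute k (a.toMul : K) := by
      rw [hcongr k y hk] at ha
      have e' := congrArg (fun b : Additive U => ((b.toMul : U) : K)) ha
      simp only [actAdd_apply] at e'
      exact mul_inv_eq_iff_eq_mul.mp e'
    have h2g : ∀ z : K, f z = e → ∃ j, z ^ 2 ^ j = 1 := by
      intro z hz
      obtain ⟨j, hj⟩ := h2 ⟨z ^ 8, by rw [MonoidHom.mem_ker, map_pow, hz, he]⟩
      refine ⟨3 + j, ?_⟩
      rw [pow_add, pow_mul]
      exact congrArg Subtype.val hj
    obtain ⟨j, hj⟩ := h2g (g * (a.toMul : K)) (by rw [map_mul, hge, hUker _ a.toMul.2, mul_one])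
    obtain ⟨i, hi⟩ := h2g g hge
    have hgv := h.commute_three hk3 (hcom.mul_right hv) hj
    have hg2 := h.commute_three hk3 hcom hi
    rw [hcongr g e hge]
    refine Additive.toMul.injective (Subtype.ext ?_)
    simp only [actAdd_apply]
    calc g * (a.toMul : K) * g⁻¹ = (g * (a.toMul : K)) * g⁻¹ := rfl
      _ = (g * (a.toMul : K))⁻¹ * g⁻¹ := by rw [← eq_inv_of_mul_eq_one_left hgv]
      _ = (a.toMul : K)⁻¹ * (g * g)⁻¹ := by group
      _ = (a.toMul : K) := by rw [hg2, inv_eq_of_mul_eq_one_left (hU _ a.toMul.2)]; group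
  · intro x hx a
    set g := s x with hg
    obtain ⟨j, hj⟩ := h2 ⟨g ^ 8, by rw [MonoidHom.mem_ker, map_pow, hsf, hx]⟩
    have hg8 : g ^ 8 = 1 := h.two_pow (k := 3 + j) (by rw [pow_add, pow_mul]; exact congrArg Subtype.val hj)
    have key : ∀ n : ℕ, (g * (a.toMul : K)) ^ n =
        (((∑ i ∈ range n, actAdd U (g ^ (i + 1)) a).toMul : U) : K) * g ^ n := by
      intro n
      induction n with
      | zero => simp
      | succ n ih =>
        rw [pow_succ, ih, sum_range_succ, toMul_add, Subgroup.coe_mul, actAdd_apply, pow_succ g n]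
        group
    obtain ⟨i, hi⟩ := h2 ⟨(g * (a.toMul : K)) ^ 8, by
      rw [MonoidHom.mem_ker, map_pow, map_mul, hsf, hUker _ a.toMul.2, mul_one, hx]⟩
    have hgv8 : (g * (a.toMul : K)) ^ 8 = 1 :=
      h.two_pow (k := 3 + i) (by rw [pow_add, pow_mul]; exact congrArg Subtype.val hi)
    have hsum : ∑ i ∈ range 8, actAdd U (g ^ (i + 1)) a = 0 := by
      refine Additive.toMul.injective (Subtype.ext ?_)
      have := key 8
      rw [hgv8, hg8, mul_one] at this
      exact this.symm
    calc ∑ i ∈ range 8, actAdd U (s (x ^ i)) a = ∑ i ∈ range 8, actAdd U (g ^ i) a :=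
          sum_congr rfl fun i _ => hcongr (g ^ i) (x ^ i) (by rw [map_pow, hsf]) a
      _ = ∑ i ∈ range 8, actAdd U (g ^ (i + 1)) a := by
          have h1 := sum_range_succ' (fun i => actAdd U (g ^ i) a) 8
          have h2' := sum_range_succ (fun i => actAdd U (g ^ i) a) 8
          rw [h2', hg8, pow_zero] at h1
          exact add_right_cancel h1
      _ = 0 := hsum
  · intro u hu a ha
    obtain ⟨k, hk, hko⟩ := h.lift_order f hf (Or.inr rfl) hu
    rw [hcongr k u hk] at ha
    have e' := congrArg (fun b : Additive U => ((b.toMul : U) : K)) ha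
    simp only [actAdd_apply] at e'
    refine Additive.toMul.injective (Subtype.ext ?_)
    exact h.thirteen_fixes hko (mul_inv_eq_iff_eq_mul.mp e') (p := 2) (by norm_num) (k := 1)
      (by rw [pow_one, pow_two]; exact hU _ a.toMul.2)

/-- The operators of the module are conjugations. -/
theorem Thirteen.moduleAct_apply (h : Thirteen K) (hU : ∀ v ∈ U, v * v = 1) (f : K →* X)
    (hf : Function.Surjective f) (hker : ∀ k, f k = 1 ↔ ∀ v ∈ U, k * v = v * k) (h2 : IsPGroup 2 f.ker)
    (k : K) (a : Additive U) :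
    (((h.moduleAct U hU f hf hker h2).ρ (f k) a).toMul : K) = k * (a.toMul : K) * k⁻¹ := by
  set g := Function.surjInv hf (f k) with hg
  show ((actAdd U g a).toMul : K) = _
  rw [actAdd_apply]
  have hc := (hker (k⁻¹ * g)).mp (by rw [map_mul, map_inv, hg, Function.surjInv_eq hf, inv_mul_cancel]) _ a.toMul.2
  calc g * (a.toMul : K) * g⁻¹ = k * ((k⁻¹ * g) * (a.toMul : K)) * (k⁻¹ * g)⁻¹ * k⁻¹ := by group
    _ = k * (a.toMul : K) * k⁻¹ := by rw [hc]; group

end CfsgLib.SpecThirteen
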