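import Cfsg.Agent.Lib.SpecThirteen.FreeFaithful
import Cfsg.Agent.Lib.SpecThirteen.FreeModule

/-!
Element orders in `{1, 2, 3, 4, 6, 8, 13}`: a parabolic with a single involution in its top normalises the subgroup
generated by the largest elementary abelian subgroups of its Sylow 2-subgroup.
-/

set_option autoImplicit false
set_option linter.unusedSectionVars false
set_option linter.style.haveILetI false

namespace CfsgLib.SpecThirteen

open Cfsg
open CfsgLib.SpecSix (Frame Parab centralInvol centralInvol_normal core_le core_relIndex core_subgroupOf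
  isMulCommutative_of_sq le_normalizer_core)
open scoped IsMulCommutative

universe u

variable {G : Type u} [Group G] [Finite G] {T P : Subgroup G}

/-- An elementary abelian 2-subgroup of `T` of largest order. -/
structure MaxElem (T A : Subgroup G) : Prop where
  le : A ≤ T
  sq : ∀ v ∈ A, v * v = 1
  max : ∀ B : Subgroup G, B ≤ T → (∀ v ∈ B, v * v = 1) → Nat.card B ≤ Nat.card A

theorem exists_maxElem (T : Subgroup G) : ∃ A, MaxElem T A := by
  obtain ⟨A, ⟨hA1, hA2⟩, hmax⟩ := Set.Finite.exists_maximalFor (fun A : Subgroup G => Nat.card A)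
    {A : Subgroup G | A ≤ T ∧ ∀ v ∈ A, v * v = 1} (Set.toFinite _)
    ⟨⊥, bot_le, fun v hv => by rw [Subgroup.mem_bot] at hv; rw [hv, one_mul]⟩
  exact ⟨A, hA1, hA2, fun B hB hB2 => (le_total _ _).elim id (hmax ⟨hB, hB2⟩)⟩

/-- The subgroup generated by the largest elementary abelian subgroups. -/
def jFull (T : Subgroup G) : Subgroup G := ⨆ A : {A : Subgroup G // MaxElem T A}, (A : Subgroup G)

theorem MaxElem.le_jFull {A : Subgroup G} (hA : MaxElem T A) : A ≤ jFull T :=
  le_iSup (fun A : {A : Subgroup G // MaxElem T A} => (A : Subgroup G)) ⟨A, hA⟩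

theorem jFull_le : jFull T ≤ T := iSup_le fun A => A.2.le

/-- An element carrying every largest elementary subgroup into `T` normalises their join. -/
theorem mem_normalizer_jFull {g : G} (hg : ∀ A, MaxElem T A → ∀ v ∈ A, g * v * g⁻¹ ∈ T) :
    g ∈ Subgroup.normalizer (jFull T : Set G) := by
  refine CfsgLib.JComp.mem_normalizer_of_conj_mem fun v hv => ?_
  have hle : jFull T ≤ (jFull T).comap (MulAut.conj g).toMonoidHom := by
    refine iSup_le fun A v hv => ?_
    have hA : MaxElem T ((A : Subgroup G).map (MulAut.conj g).toMonoidHom) := by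
      refine ⟨?_, ?_, fun B hB hB2 => ?_⟩
      · rintro _ ⟨w, hw, rfl⟩; exact hg A A.2 w hw
      · rintro _ ⟨w, hw, rfl⟩; rw [← map_mul, A.2.sq w hw, map_one]
      · rw [Subgroup.card_map_of_injective (MulAut.conj g).injective]; exact A.2.max B hB hB2
    exact hA.le_jFull ⟨v, hv, rfl⟩
  exact hle hv

theorem normalizer_le_jFull :
    Subgroup.normalizer (T : Set G) ≤ Subgroup.normalizer (jFull T : Set G) := fun g hg =>
  mem_normalizer_jFull fun A hA v hv => (Subgroup.mem_normalizer_iff.mp hg v).mp (hA.le hv)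

theorem jFull_ne_bot (hT2 : IsPGroup 2 T) (hT : T ≠ ⊥) : jFull T ≠ ⊥ := by
  haveI : Fact (Nat.Prime 2) := ⟨Nat.prime_two⟩
  obtain ⟨z, hz, hzz, hz1, -⟩ := exists_central_invol hT2 hT
  obtain ⟨A, hA⟩ := exists_maxElem T
  intro hbot
  have hA1 : A = ⊥ := le_bot_iff.mp (hbot ▸ hA.le_jFull)
  have hzo : orderOf z = 2 := orderOf_eq_prime (by rw [pow_two]; exact hzz) hz1
  have := hA.max (Subgroup.zpowers z) (Subgroup.zpowers_le.mpr hz) (by
    rintro _ ⟨i, rfl⟩
    show z ^ i * z ^ i = 1
    rw [← (Commute.refl z).mul_zpow, hzz, one_zpow])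
  rw [hA1, Nat.card_zpowers, hzo, Subgroup.card_bot] at this
  omega

/-- A parabolic whose top has a single involution. -/
structure FreePar (T P : Subgroup G) (A : Subgroup (P ⧸ pCore 2 P)) (e : P ⧸ pCore 2 P) : Prop where
  thirteen : Thirteen G
  parab : Parab T P
  top : Free ((T.subgroupOf P).map (QuotientGroup.mk' (pCore 2 P))) A e

variable {A : Subgroup (P ⧸ pCore 2 P)} {e : P ⧸ pCore 2 P}

theorem FreePar.core_ne_bot (h : FreePar T P A e) : pCore 2 P ≠ ⊥ := by
  intro hbot
  have hC := h.parab.cent_group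
  rw [hbot] at hC
  have htop : (⊤ : Subgroup P) ≤ ⊥ := fun x _ => hC (by
    rw [Subgroup.mem_centralizer_iff]
    intro q hq
    rw [SetLike.mem_coe, Subgroup.mem_bot] at hq
    rw [hq, one_mul, mul_one])
  obtain ⟨x, hx⟩ := QuotientGroup.mk_surjective e
  refine h.top.ne_one ?_
  rw [← hx, Subgroup.mem_bot.mp (htop (Subgroup.mem_top x))]
  exact QuotientGroup.mk_one _

theorem FreePar.mk_eq_one_iff (h : FreePar T P A e) (k : P) :
    QuotientGroup.mk' (pCore 2 P) k = 1 ↔ ∀ v ∈ centralInvol (pCore 2 P), k * v = v * k := by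
  rw [QuotientGroup.mk'_apply, QuotientGroup.eq_one_iff]
  refine ⟨fun hk v hv => (hv.2.2 k hk).symm, fun hk => ?_⟩
  exact (h.thirteen.subgroup P).free_faithful (CfsgLib.isPGroup_pCore 2) h.core_ne_bot h.parab.cent_group h.top hk

/-- The top acts on the central involutions of the core. -/
theorem FreePar.exists_act (h : FreePar T P A e) [IsMulCommutative (centralInvol (pCore 2 P))]
    [(centralInvol (pCore 2 P)).Normal] :
    ∃ a : Act (P ⧸ pCore 2 P) (Additive (centralInvol (pCore 2 P))), ∀ (k : P) (v : Additive (centralInvol (pCore 2 P))),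
      ((a.ρ (QuotientGroup.mk' (pCore 2 P) k) v).toMul : P) = k * (v.toMul : P) * k⁻¹ :=
  ⟨(h.thirteen.subgroup P).moduleAct _ (fun _ hv => hv.2.1) _ (QuotientGroup.mk'_surjective _) h.mk_eq_one_iff
      (by rw [QuotientGroup.ker_mk']; exact CfsgLib.isPGroup_pCore 2),
    fun k v => Thirteen.moduleAct_apply _ _ _ _ _ _ _ k v⟩

/-- Elements of the core: an element of `T` outside the core with trivial square maps to the involution. -/
theorem FreePar.map_invol (h : FreePar T P A e) {a : P} (ha : (a : G) ∈ T) (ha2 : (a : G) * a = 1)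
    (haQ : a ∉ pCore 2 P) : QuotientGroup.mk' (pCore 2 P) a = e := by
  refine ((h.top.unique _ (Subgroup.mem_map_of_mem _ (show a ∈ T.subgroupOf P from ha)) ?_)).resolve_left
    fun h1 => haQ ((QuotientGroup.eq_one_iff a).mp h1)
  rw [← map_mul, show a * a = 1 from Subtype.ext ha2, map_one]

/-- **The largest elementary abelian subgroups lie in the core.** -/
theorem FreePar.maxElem_le (h : FreePar T P A e) {A0 : Subgroup G} (hA0 : MaxElem T A0) : A0 ≤ pCoreOf 2 P := by
  classical
  intro a haA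
  by_contra haQ
  haveI : (pCore 2 P).Normal := inferInstance
  haveI : (centralInvol (pCore 2 P)).Normal := centralInvol_normal (pCore 2 P)
  haveI : IsMulCommutative (centralInvol (pCore 2 P)) := isMulCommutative_of_sq fun v hv => hv.2.1
  obtain ⟨ac, hact⟩ := h.exists_act
  have hAP : A0 ≤ P := hA0.le.trans h.parab.le
  set A' := A0.subgroupOf P with hA'
  set a' : P := ⟨a, hAP haA⟩ with ha'
  have ha'Q : a' ∉ (pCore 2 P) := fun hm => haQ ⟨a', hm, rfl⟩
  have hae := h.map_invol (a := a') (hA0.le haA) (hA0.sq a haA) ha'Q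
  have hsq : ∀ p ∈ A', p * p = 1 := fun p hp => Subtype.ext (hA0.sq _ hp)
  have hcomm : ∀ p ∈ A', ∀ r ∈ A', p * r = r * p := fun p hp r hr => by
    haveI := isMulCommutative_of_sq hsq
    exact congrArg Subtype.val (IsMulCommutative.is_comm.comm (⟨p, hp⟩ : A') ⟨r, hr⟩)
  set A1 := (A' ⊓ (pCore 2 P)) ⊔ (centralInvol (pCore 2 P)) with hA1
  -- the index of the core in the elementary subgroup
  have h2 : Nat.card A' ≤ 2 * Nat.card ↥(A' ⊓ (pCore 2 P)) := by
    have hmem : ∀ p : A', (p : P) ∉ (pCore 2 P) → (a'⁻¹ * p : P) ∈ A' ⊓ (pCore 2 P) := fun p hp => by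
      refine ⟨A'.mul_mem (A'.inv_mem (show a' ∈ A' from haA)) p.2, ?_⟩
      refine (QuotientGroup.eq_one_iff _).mp ?_
      have hpe := h.map_invol (a := (p : P)) (hA0.le p.2) (congrArg Subtype.val (hsq _ p.2)) hp
      rw [← QuotientGroup.mk'_apply, map_mul, map_inv, hae, hpe, inv_mul_cancel]
    let f : A' → ↥(A' ⊓ (pCore 2 P)) × Fin 2 := fun p =>
      if hp : (p : P) ∈ (pCore 2 P) then (⟨p, p.2, hp⟩, 0) else (⟨_, hmem p hp⟩, 1)
    have hf : Function.Injective f := by
      intro p r hpr
      simp only [f] at hpr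
      split_ifs at hpr with h1 h1' h1'
      · exact Subtype.ext (congrArg (fun z : ↥(A' ⊓ pCore 2 P) × Fin 2 => (z.1 : P)) hpr)
      · exact absurd (congrArg Prod.snd hpr) (by simp)
      · exact absurd (congrArg Prod.snd hpr) (by simp)
      · exact Subtype.ext (mul_left_cancel (congrArg (fun z : ↥(A' ⊓ pCore 2 P) × Fin 2 => (z.1 : P)) hpr))
    have := Nat.card_le_card_of_injective f hf
    rw [Nat.card_prod, Nat.card_fin] at this
    omega
  -- its size
  have hle : A' ⊓ (pCore 2 P) ≤ Subgroup.normalizer ((centralInvol (pCore 2 P)) : Set P) := by rw [Subgroup.normalizer_eq_top]; exact le_top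
  have hcard := CfsgLib.JComp.card_sup_mul_card_inf hle
  have hfix : Nat.card ↥(A' ⊓ (pCore 2 P) ⊓ (centralInvol (pCore 2 P))) ≤ Nat.card (ac.fixed e) := by
    refine Nat.card_le_card_of_injective
      (fun p => ⟨Additive.ofMul (⟨(p : P), p.2.2⟩ : ↥(centralInvol (pCore 2 P))), ?_⟩) ?_
    · rw [ac.mem_fixed, ← hae]
      refine Additive.toMul.injective (Subtype.ext ?_)
      rw [hact]
      show a' * (p : P) * a'⁻¹ = p
      rw [hcomm a' haA _ p.2.1.1, mul_inv_cancel_right]
    · intro p r hpr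
      simp only [Subtype.mk.injEq] at hpr
      exact Subtype.ext (congrArg (fun z : Additive ↥(centralInvol (pCore 2 P)) => ((z.toMul : ↥(centralInvol (pCore 2 P))) : P)) hpr)
  have hindex := (ac.fixed e).card_mul_index
  have h4 := ac.index_four h.top
  have hVcard : Nat.card (Additive (centralInvol (pCore 2 P))) = Nat.card (centralInvol (pCore 2 P)) := rfl
  have hbig : 2 * Nat.card A' ≤ Nat.card A1 := by
    have hpos : 0 < Nat.card ↥(A' ⊓ (pCore 2 P) ⊓ (centralInvol (pCore 2 P))) := Nat.card_pos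
    have hV4 : 4 * Nat.card ↥(A' ⊓ (pCore 2 P) ⊓ (centralInvol (pCore 2 P))) ≤ Nat.card (centralInvol (pCore 2 P)) := by
      rw [← hVcard, ← hindex]; nlinarith
    have : Nat.card A1 * Nat.card ↥(A' ⊓ (pCore 2 P) ⊓ (centralInvol (pCore 2 P))) = Nat.card ↥(A' ⊓ (pCore 2 P)) * Nat.card (centralInvol (pCore 2 P)) := hcard
    nlinarith
  have hA1le : A1.map P.subtype ≤ T := by
    refine le_trans ?_ h.parab.core_le_T
    exact Subgroup.map_mono (sup_le inf_le_right fun v hv => hv.1)
  have hA1sq : ∀ v ∈ A1.map P.subtype, v * v = 1 := by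
    rintro _ ⟨p, hp, rfl⟩
    obtain ⟨r, hr, v, hv, rfl⟩ := Subgroup.mem_sup_of_normal_right.mp hp
    rw [← map_mul, Commute.mul_mul_mul_comm (hv.2.2 r hr.2), hsq r hr.1, hv.2.1, one_mul, map_one]
  have hmax := hA0.max _ hA1le hA1sq
  rw [Subgroup.card_map_of_injective P.subtype_injective] at hmax
  have hc : Nat.card A' = Nat.card A0 := Nat.card_congr (Subgroup.subgroupOfEquivOfLe hAP).toEquiv
  have : 0 < Nat.card A0 := Nat.card_pos
  omega

theorem FreePar.jFull_le_core (h : FreePar T P A e) : jFull T ≤ pCoreOf 2 P :=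
  iSup_le fun A0 => h.maxElem_le A0.2

/-- The parabolic normalises the join of the largest elementary abelian subgroups. -/
theorem FreePar.le_normalizer_jFull (h : FreePar T P A e) : P ≤ Subgroup.normalizer (jFull T : Set G) :=
  fun _ hg => mem_normalizer_jFull fun _ hA0 v hv => h.parab.core_le_T
    ((Subgroup.mem_normalizer_iff.mp (le_normalizer_core P hg) v).mp (h.maxElem_le hA0 hv))

/-- The central involutions of the core lie in every largest elementary abelian subgroup. -/
theorem FreePar.center_le (h : FreePar T P A e) {A0 : Subgroup G} (hA0 : MaxElem T A0) :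
    centralInvol (pCoreOf 2 P) ≤ A0 := by
  have hle : A0 ≤ Subgroup.normalizer (centralInvol (pCoreOf 2 P) : Set G) := fun a ha =>
    CfsgLib.JComp.mem_normalizer_of_conj_mem fun v hv => by
      rwa [← hv.2.2 a (h.maxElem_le hA0 ha), mul_inv_cancel_right]
  have hsq : ∀ v ∈ A0 ⊔ centralInvol (pCoreOf 2 P), v * v = 1 := by
    intro v hv
    rw [← SetLike.mem_coe, Subgroup.coe_mul_of_left_le_normalizer_right _ _ hle] at hv
    obtain ⟨p, hp, w, hw, rfl⟩ := Set.mem_mul.mp hv
    rw [Commute.mul_mul_mul_comm (hw.2.2 p (h.maxElem_le hA0 hp)), hA0.sq p hp, hw.2.1, one_mul]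
  have hmax := hA0.max _ (sup_le hA0.le fun v (hv : v ∈ centralInvol (pCoreOf 2 P)) => h.parab.core_le_T hv.1) hsq
  rw [Subgroup.eq_of_le_of_card_ge (le_sup_left : A0 ≤ A0 ⊔ centralInvol (pCoreOf 2 P)) hmax]
  exact le_sup_right

end CfsgLib.SpecThirteen
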