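import Cfsg.Agent.Lib.SpecThirteen.Cover
import Cfsg.Agent.Lib.SpecThirteen.Witness
import Cfsg.Agent.S1296

/-!
Element orders in `{1, 2, 3, 4, 6, 8, 13}`: the only nonsolvable simple group is `PSL₃(3)`.
-/

set_option autoImplicit false
set_option linter.unusedSectionVars false
set_option linter.style.haveILetI false

namespace CfsgLib.SpecThirteen

open Cfsg

universe u w

/-- An element of order dividing eight of a solvable top has order dividing four. -/
theorem Act.eighth_trivial {X : Type u} [Group X] [Finite X] {V : Type w} [AddCommGroup V] (a : Act X V)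
    [Group.IsSolvable X] (hO : pCore 2 X = ⊥) {x : X} (hx : x ^ 8 = 1) : x ^ 4 = 1 := by
  rcases a.top_shape hO with ⟨u, hu, hn, hc⟩ | ⟨hR, -⟩
  · classical
    obtain ⟨k, hk, hku⟩ := Finset.mem_image.mp
      (mem_zpowers_iff_mem_range_orderOf.mp (hn.conj_mem u (Subgroup.mem_zpowers u) x))
    rw [Finset.mem_range, hu] at hk
    have hj : ∀ j : ℕ, x ^ j * u * (x ^ j)⁻¹ = u ^ k ^ j := fun j => by
      induction j with
      | zero => simp
      | succ j ih =>
        calc x ^ (j + 1) * u * (x ^ (j + 1))⁻¹ = x * (x ^ j * u * (x ^ j)⁻¹) * x⁻¹ := by rw [pow_succ']; group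
          _ = u ^ k ^ (j + 1) := by rw [ih, ← conj_pow, ← hku, ← pow_mul, pow_succ']
    have h8 := hj 8
    rw [hx, one_mul, inv_one, mul_one] at h8
    nth_rewrite 1 [← pow_one u] at h8
    rw [pow_eq_pow_iff_modEq, hu] at h8
    have h4 : k ^ 4 % 13 = 1 % 13 := by
      have : ∀ j < 13, 1 % 13 = j ^ 8 % 13 → j ^ 4 % 13 = 1 % 13 := by decide
      exact this k hk h8
    have hcomm : x ^ 4 ∈ Subgroup.centralizer ({u} : Set X) := by
      refine Subgroup.mem_centralizer_singleton_iff.mpr (mul_inv_eq_iff_eq_mul.mp ?_)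
      rw [hj 4]
      nth_rewrite 2 [← pow_one u]
      rw [pow_eq_pow_iff_modEq, hu]
      exact h4
    obtain ⟨i, hi⟩ := Subgroup.mem_zpowers_iff.mp (hc hcomm)
    exact a.orders.thirteen_fixes hu (a := x ^ 4) (hi ▸ (Commute.refl u).zpow_right i) (p := 2) (by norm_num) (k := 1)
      (by rw [pow_one, ← pow_mul]; exact hx)
  · exact a.pow_four hR hx

/-- Up to order `M` the nonsolvable simple groups are `PSL₃(3)`. -/
def SimpleUpTo (M : ℕ) : Prop :=
  ∀ (T : Type u) [Group T] [Finite T], IsSimpleGroup T → Thirteen T → ¬ Group.IsSolvable T → Nat.card T ≤ M →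
    Nonempty (SL33 ≃* T)

/-- A nonsolvable group has a section isomorphic to `PSL₃(3)` over a solvable group. -/
theorem exists_section {G : Type u} [Group G] [Finite G] {M : ℕ} (hs : SimpleUpTo.{u} M) (hM : Nat.card G ≤ M)
    (h : Thirteen G) (hns : ¬ Group.IsSolvable G) :
    ∃ (H : Subgroup G) (N : Subgroup H) (_ : N.Normal), Group.IsSolvable N ∧ Nonempty (SL33 ≃* H ⧸ N) := by
  classical
  obtain ⟨H, hH, hmin⟩ := Set.Finite.exists_minimal (Set.toFinite {H : Subgroup G | ¬ Group.IsSolvable H})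
    ⟨⊤, fun hs' => hns (Group.isSolvable_of_isSolvable_injective (f := (Subgroup.topEquiv (G := G)).symm.toMonoidHom)
      Subgroup.topEquiv.symm.injective)⟩
  haveI : Nontrivial H := by
    rw [Subgroup.nontrivial_iff_ne_bot]
    rintro rfl
    exact hH (Group.isSolvable_of_comm fun a b => Subsingleton.elim _ _)
  obtain ⟨N, ⟨hN, hNtop⟩, hNmax⟩ := Set.Finite.exists_maximal
    (Set.toFinite {N : Subgroup H | N.Normal ∧ N ≠ ⊤}) ⟨⊥, inferInstance, bot_ne_top⟩
  haveI := hN
  have hNs : Group.IsSolvable N := by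
    by_contra hN'
    have hlt : N.map H.subtype < H := lt_of_le_of_ne (Subgroup.map_subtype_le _) fun e => hNtop
      (Subgroup.map_injective H.subtype_injective (e.trans (by rw [← MonoidHom.range_eq_map, Subgroup.range_subtype])))
    refine hlt.not_ge (hmin (fun hs' => hN' ?_) hlt.le)
    exact Group.isSolvable_of_isSolvable_injective
      (f := ((N.equivMapOfInjective _ H.subtype_injective) : N ≃* N.map H.subtype).toMonoidHom) (MulEquiv.injective _)
  refine ⟨H, N, hN, hNs, hs (H ⧸ N) ?_ ((h.subgroup H).quotient N) (fun hq => hH ?_) ?_⟩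
  · haveI : Nontrivial (H ⧸ N) := QuotientGroup.nontrivial_iff.mpr hNtop
    refine ⟨fun K hK => ?_⟩
    by_cases hKtop : K = ⊤
    · exact Or.inr hKtop
    refine Or.inl ?_
    have hK' : K.comap (QuotientGroup.mk' N) ≤ N := hNmax ⟨hK.comap _, fun e => hKtop (by
      rw [← Subgroup.map_comap_eq_self_of_surjective (QuotientGroup.mk'_surjective N) K, e,
        Subgroup.map_top_of_surjective _ (QuotientGroup.mk'_surjective N)])⟩ (QuotientGroup.le_comap_mk' N K)
    refine (Subgroup.eq_bot_iff_forall _).mpr fun q hq => ?_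
    obtain ⟨v, rfl⟩ := QuotientGroup.mk'_surjective N q
    exact (QuotientGroup.eq_one_iff v).mpr (hK' hq)
  · exact (Group.isSolvable_iff_subgroup_quotient N).mpr ⟨hNs, hq⟩
  · exact le_trans (Nat.le_of_dvd Nat.card_pos (N.card_quotient_dvd_card.trans (Subgroup.card_subgroup_dvd_card H))) hM

/-- A group whose 2-core contains its centraliser is solvable. -/
theorem solvable_of_cent_core {L : Type u} [Group L] [Finite L] {M : ℕ} (hs : SimpleUpTo.{u} M)
    (hM : Nat.card L ≤ M) (h : Thirteen L) (hC : Subgroup.centralizer (pCore 2 L : Set L) ≤ pCore 2 L) :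
    Group.IsSolvable L := by
  classical
  haveI : Fact (Nat.Prime 2) := ⟨Nat.prime_two⟩
  by_contra hns
  obtain ⟨H, N, hN, hNs, ⟨φ⟩⟩ := exists_section hs hM h hns
  haveI := hN
  obtain ⟨X0, E, s, r, hX0, hEX, hsX, hrE, hE9, hXE, hs8, hne⟩ := exists_nine_eight φ
  set π := QuotientGroup.mk' N with hπ
  set K := X0.comap π with hK
  haveI hKs : Group.IsSolvable K := by
    haveI := hX0
    haveI := hNs
    refine Group.isSolvable_of_ker_le_range (Subgroup.inclusion (show N ≤ K from fun v hv => by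
      show π v ∈ X0
      rw [show π v = 1 from (QuotientGroup.eq_one_iff v).mpr hv]; exact one_mem _)) (π.subgroupComap X0) ?_
    intro v hv
    exact ⟨⟨(v : H), (QuotientGroup.eq_one_iff _).mp (congrArg Subtype.val (MonoidHom.mem_ker.mp hv))⟩, rfl⟩
  set Q := pCore 2 L with hQ
  have hQ2 : IsPGroup 2 Q := CfsgLib.isPGroup_pCore 2
  haveI hQn : Q.Normal := by rw [hQ]; infer_instance
  set K' := K.map H.subtype with hK'
  set M0 := K' ⊔ Q with hM0
  have hKM : K' ≤ M0 := le_sup_left
  have hQM : Q ≤ M0 := le_sup_right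
  haveI hMs : Group.IsSolvable M0 := by
    haveI := SpecSix.solvable_of_isPGroup hQ2
    set mq := (QuotientGroup.mk' Q).comp M0.subtype with hmq
    have hr : mq.range = K'.map (QuotientGroup.mk' Q) := by
      rw [hmq, MonoidHom.range_comp, Subgroup.range_subtype, hM0, Subgroup.map_sup,
        (Subgroup.map_eq_bot_iff _).mpr (QuotientGroup.ker_mk' Q).ge, sup_bot_eq]
    haveI : Group.IsSolvable mq.range := by
      rw [hr, hK', Subgroup.map_map]
      exact Group.isSolvable_of_surjective (f := ((QuotientGroup.mk' Q).comp H.subtype).subgroupMap K)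
        (MonoidHom.subgroupMap_surjective _ _)
    refine Group.isSolvable_of_ker_le_range (Subgroup.inclusion hQM) mq.rangeRestrict ?_
    intro v hv
    exact ⟨⟨(v : L), (QuotientGroup.eq_one_iff _).mp (congrArg Subtype.val (MonoidHom.mem_ker.mp hv))⟩, rfl⟩
  set D := pCore 2 M0 with hD
  haveI : D.Normal := by rw [hD]; infer_instance
  have hQD : Q.subgroupOf M0 ≤ D := CfsgLib.le_pCore (hQ2.comap_of_injective M0.subtype M0.subtype_injective)
  have hCD : Subgroup.centralizer (D : Set M0) ≤ D := fun c hc => hQD (hC fun q hq => by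
    exact congrArg Subtype.val (hc ⟨q, hQM hq⟩ (hQD hq)))
  have hO : pCore 2 (M0 ⧸ D) = ⊥ := CfsgLib.ZJ.pCore_quotient_pCore_eq_bot
  obtain ⟨⟨V, hV1, hV2, a⟩⟩ := (h.subgroup M0).frat_act D (CfsgLib.isPGroup_pCore 2) hCD hO
  -- a two-element over the element of order eight
  obtain ⟨k, rfl⟩ := QuotientGroup.mk'_surjective N s
  obtain ⟨e, rfl⟩ := QuotientGroup.mk'_surjective N r
  obtain ⟨i, m, hm, hkm⟩ := Nat.exists_eq_two_pow_mul_odd (orderOf_pos k).ne'
  set g := k ^ m with hg
  have hg8 : g ^ 8 = 1 := (h.subgroup H).two_pow (k := i) (by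
    rw [hg, ← pow_mul, mul_comm, ← hkm, pow_orderOf_eq_one])
  have hgK : g ∈ K := pow_mem (show k ∈ K from hsX) m
  have hg4 : π g ^ 4 = π k ^ 4 := by
    obtain ⟨j, hj⟩ := hm
    rw [hg, map_pow, ← pow_mul, hj, show (2 * j + 1) * 4 = 8 * j + 4 by ring, pow_add, pow_mul, hs8, one_pow,
      one_mul]
  set γ : M0 := ⟨(g : L), hKM ⟨g, hgK, rfl⟩⟩ with hγ
  have hγD : γ ^ 4 ∈ D := by
    refine (QuotientGroup.eq_one_iff _).mp ?_
    rw [QuotientGroup.mk_pow]
    refine a.eighth_trivial hO ?_
    rw [← QuotientGroup.mk_pow, show γ ^ 8 = 1 from Subtype.ext (congrArg (fun v : H => (v : L)) hg8),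
      QuotientGroup.mk_one]
  set ε : M0 := ⟨(e : L), hKM ⟨e, (show π e ∈ X0 from hEX hrE), rfl⟩⟩ with hε
  have hcD : γ ^ 4 * (ε * (γ ^ 4)⁻¹ * ε⁻¹) ∈ D :=
    mul_mem hγD ((inferInstance : D.Normal).conj_mem _ (inv_mem hγD) ε)
  obtain ⟨n, hn⟩ := CfsgLib.isPGroup_pCore (G := M0) 2 ⟨_, hcD⟩
  have hn' : (g ^ 4 * (e * (g ^ 4)⁻¹ * e⁻¹)) ^ 2 ^ n = 1 :=
    Subtype.ext (congrArg (fun v : D => ((v : M0) : L)) hn :)
  set c := π (g ^ 4 * (e * (g ^ 4)⁻¹ * e⁻¹)) with hc
  have hcE : c ∈ E := by
    have e1 : c = (π g ^ 4 * π e * (π g ^ 4)⁻¹) * (π e)⁻¹ := by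
      rw [hc, map_mul, map_mul, map_mul, map_inv, map_inv, map_pow]; group
    rw [e1, hg4]
    exact mul_mem ((Subgroup.mem_normalizer_iff.mp (hXE (pow_mem hsX 4)) _).mp hrE) (inv_mem hrE)
  have hc1 : c = 1 := by
    have h1 : c ^ 2 ^ n = 1 := by rw [hc, ← map_pow, hn', map_one]
    have h2 : c ^ 9 = 1 := hE9 ▸ congrArg Subtype.val (pow_card_eq_one' (x := (⟨c, hcE⟩ : E)))
    have h3 := pow_gcd_eq_one.mpr ⟨h1, h2⟩
    rwa [show Nat.gcd (2 ^ n) 9 = 1 from Nat.Coprime.pow_left n (by norm_num), pow_one] at h3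
  refine hne ?_
  have e1 : π (g ^ 4) * π e * (π (g ^ 4))⁻¹ * (π e)⁻¹ = 1 := by
    rw [← hc1, hc, map_mul, map_mul, map_mul, map_inv, map_inv]; group
  rw [map_pow, hg4] at e1
  exact mul_inv_eq_iff_eq_mul.mp (mul_inv_eq_one.mp e1)

/-- A component has a nonsolvable group. -/
theorem not_hasComponent {C : Type u} [Group C] [Group.IsSolvable C] : ¬ HasComponent C := by
  rintro ⟨K, -, hperf, hsimp⟩
  haveI : IsSimpleGroup (K ⧸ Subgroup.center K) := hsimp
  haveI : Group.IsSolvable (K ⧸ Subgroup.center K) :=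
    Group.isSolvable_of_surjective (QuotientGroup.mk'_surjective _)
  have hab : ∀ a b : K ⧸ Subgroup.center K, a * b = b * a := IsSimpleGroup.comm_iff_isSolvable.mpr inferInstance
  haveI : IsMulCommutative K := by
    have hle : commutator K ≤ Subgroup.center K := by
      rw [commutator_def, Subgroup.commutator_le]
      intro x _ y _
      refine (QuotientGroup.eq_one_iff _).mp ?_
      rw [← QuotientGroup.mk'_apply, map_commutatorElement, commutatorElement_eq_one_iff_mul_comm]
      exact hab _ _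
    exact ⟨⟨fun x y => (Subgroup.mem_center_iff.mp (hle (hperf.commutator_eq_top.ge (Subgroup.mem_top y))) x)⟩⟩
  have hbot : commutator K = ⊥ := by
    rw [commutator_def, eq_bot_iff, Subgroup.commutator_le]
    intro x _ y _
    rw [Subgroup.mem_bot, commutatorElement_eq_one_iff_mul_comm]
    exact IsMulCommutative.is_comm.comm x y
  haveI : Subsingleton K := by
    refine subsingleton_of_forall_eq 1 fun x => ?_
    have hx := hperf.commutator_eq_top.ge (Subgroup.mem_top x)
    rwa [hbot, Subgroup.mem_bot] at hx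
  obtain ⟨x, y, hxy⟩ := hsimp.exists_pair_ne
  obtain ⟨x, rfl⟩ := QuotientGroup.mk'_surjective _ x
  obtain ⟨y, rfl⟩ := QuotientGroup.mk'_surjective _ y
  exact hxy (by rw [Subsingleton.elim x y])

/-- **A nonsolvable simple group with these element orders is `PSL₃(3)`.** -/
theorem simple_up_to : ∀ M, SimpleUpTo.{u} M := by
  intro M
  induction M using Nat.strong_induction_on with
  | _ M ih =>
  intro G _ _ hsimp h hns hM
  haveI := hsimp
  have hG : ¬ IsMulCommutative G := fun hc => hns (Group.isSolvable_of_comm fun a b => hc.is_comm.comm a b)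
  suffices hmain : ∃ (F : Type) (_ : Field F) (_ : Fintype F), Fintype.card F = 3 ∧
      Nonempty (G ≃* Matrix.ProjectiveSpecialLinearGroup (Fin 3) F) by
    obtain ⟨F, _, _, hF, ⟨e⟩⟩ := hmain
    obtain ⟨⟨e'⟩, -⟩ := equiv_sl_three hF
    exact ⟨e'.trans e.symm⟩
  by_cases hr : PRankLE 2 2 G
  · exact h.no_rank_list hG hr
  have heven : Even (Nat.card G) := by
    by_contra hodd
    exact hns (Cfsg.Agent.S0205.result (Nat.not_even_iff_odd.mp hodd))
  have h2 : ∀ N : Subgroup G, N.Normal → N.index ≠ 2 := by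
    intro N hN hi
    rcases IsSimpleGroup.eq_bot_or_eq_top_of_normal N hN with e | e
    · rw [e, Subgroup.index_bot] at hi
      haveI : Fact (Nat.Prime 2) := ⟨Nat.prime_two⟩
      haveI := SpecSix.solvable_of_isPGroup
        (IsPGroup.of_card (p := 2) (n := 1) (by rw [Subgroup.card_top, hi, pow_one]) : IsPGroup 2 (⊤ : Subgroup G))
      exact hns (Group.isSolvable_of_isSolvable_injective (G' := (⊤ : Subgroup G))
        (f := (Subgroup.topEquiv (G := G)).symm.toMonoidHom) Subgroup.topEquiv.symm.injective)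
    · rw [e, Subgroup.index_top] at hi; omega
  have hO : oddCore G = ⊥ := (IsSimpleGroup.eq_bot_or_eq_top_of_normal _ inferInstance).resolve_right fun e => by
    have := CfsgLib.odd_card_oddCore (G := G)
    rw [e, Subgroup.card_top] at this
    exact Nat.not_even_iff_odd.mpr this heven
  rcases Cfsg.Agent.S1296.result heven h2 hO with hr' | hc | hc
  · exact absurd hr' hr
  · obtain ⟨t, ht, hcomp⟩ := hc
    haveI := h.solvable_centralizer ht
    exact absurd hcomp not_hasComponent
  have hL : ∀ N : Subgroup G, IsTwoLocal N → Group.IsSolvable N := by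
    rintro N ⟨R, hR, hR1, rfl⟩
    set L := Subgroup.normalizer (R : Set G) with hLd
    have hLtop : L ≠ ⊤ := fun e => by
      haveI : R.Normal := Subgroup.normalizer_eq_top_iff.mp e
      rcases IsSimpleGroup.eq_bot_or_eq_top_of_normal R inferInstance with e' | e'
      · exact hR1 e'
      · subst e'
        haveI : Fact (Nat.Prime 2) := ⟨Nat.prime_two⟩
        haveI := SpecSix.solvable_of_isPGroup hR
        exact hns (Group.isSolvable_of_isSolvable_injective (G' := (⊤ : Subgroup G))
          (f := (Subgroup.topEquiv (G := G)).symm.toMonoidHom) (MulEquiv.injective _))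
    have hlt : Nat.card L < M := by
      refine lt_of_lt_of_le (lt_of_le_of_ne (Subgroup.card_le_card_group L) fun e => hLtop ?_) hM
      exact Subgroup.eq_top_of_card_eq L e
    exact solvable_of_cent_core (ih _ hlt) le_rfl (h.subgroup L) (hc.2 R hR hR1)
  by_cases h4 : SectionalPRankLE 2 4 G
  · exact h.sectional_list hG h4 hL
  · exact (no_hyp G ⟨h, hsimp, hns, hc, hL, h4⟩).elim

/-- **A nonsolvable group with these element orders has a section `PSL₃(3)`.** -/
theorem Thirteen.exists_psl_section {G : Type u} [Group G] [Finite G] (h : Thirteen G)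
    (hns : ¬ Group.IsSolvable G) :
    ∃ (H : Subgroup G) (N : Subgroup H) (_ : N.Normal), Nonempty (SL33 ≃* H ⧸ N) := by
  obtain ⟨H, N, hN, -, e⟩ := exists_section (simple_up_to (Nat.card G)) le_rfl h hns
  exact ⟨H, N, hN, e⟩

end CfsgLib.SpecThirteen
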