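import Cfsg.Agent.Lib.SpecThirteen.Three

/-!
Element orders in `{1, 2, 3, 4, 6, 8, 13}`: the top has no two-element of order eight acting on its 3-core, and
no two commuting involutions of it are exchanged.
-/

set_option autoImplicit false
set_option linter.unusedSectionVars false

namespace CfsgLib.SpecThirteen

open Finset

universe u w

theorem pow_eight_of_sq {X : Type u} [Monoid X] {e : X} (he : e * e = 1) : e ^ 8 = 1 := by
  rw [show 8 = 2 * 4 from rfl, pow_mul, pow_two, he, one_pow]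

variable {X : Type u} [Group X] [Finite X] {V : Type w} [AddCommGroup V] (a : Act X V) {R : Subgroup X}
include a

/-- The points fixed by an element fixed by a two-element are fixed by the elements of its centraliser inverted by
that two-element. -/
theorem Act.fix_inverted (h : ThreeCore R) {e : X} (he : e * e = 1) {y c : X} (hy : y ∈ R) (hy1 : y ≠ 1)
    (hye : Commute y e) (hc : c ∈ R) (hyc : Commute y c) (hec : e * c * e⁻¹ = c⁻¹) {v : V} (hv : a.ρ y v = v) :
    a.ρ c v = v := by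
  have he8 := pow_eight_of_sq he
  have hcv : a.ρ y (a.ρ c v) = a.ρ c v := by rw [← a.mul, hyc.eq, a.mul, hv]
  have e1 := a.fix y e (h.order hy hy1) he8 hye v hv
  have e2 := a.fix y e (h.order hy hy1) he8 hye _ hcv
  have e3 : a.ρ c⁻¹ v = a.ρ c v := by
    rw [← hec]
    calc a.ρ (e * c * e⁻¹) v = a.ρ e (a.ρ c (a.ρ e⁻¹ v)) := by rw [a.mul, a.mul]
      _ = a.ρ e (a.ρ c v) := by rw [inv_eq_of_mul_eq_one_left he, e1]
      _ = a.ρ c v := e2
  calc a.ρ c v = a.ρ (c⁻¹ * c⁻¹) v := by rw [(h.sq (inv_mem hc)).trans (inv_inv c)]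
    _ = a.ρ c⁻¹ (a.ρ c⁻¹ v) := a.mul _ _ _
    _ = a.ρ c⁻¹ (a.ρ c v) := by rw [e3]
    _ = v := by rw [← a.mul, inv_mul_cancel, a.one]

/-- A two-element of the top has order dividing four when the 3-core contains its centraliser. -/
theorem Act.pow_four (h : ThreeCore R) {s : X} (hs : s ^ 8 = 1) : s ^ 4 = 1 := by
  by_contra he1
  set e := s ^ 4 with he
  have hee : e * e = 1 := by rw [he, ← pow_add]; exact hs
  have hfree : ∀ r ∈ R, Commute r e → r = 1 := by
    intro y hy hye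
    by_contra hy1
    have hsy : s * y * s⁻¹ ∈ Subgroup.zpowers y := by
      refine a.cent_small h (pow_eight_of_sq hee) he1 hy hy1 hye (h.conj s hy) ?_
      have hse : Commute s e := he ▸ (Commute.refl s).pow_right 4
      exact ((hse.mul_left hye).mul_left hse.inv_left)
    obtain ⟨i, hi⟩ := Subgroup.mem_zpowers_iff.mp hsy
    have ho := h.order hy hy1
    have hcase : s * y * s⁻¹ = y ∨ s * y * s⁻¹ = y⁻¹ := by
      rw [← hi, ← zpow_mod_orderOf, ho]
      have h1 := Int.emod_nonneg i (show ((3 : ℕ) : ℤ) ≠ 0 by norm_num)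
      have h2 := Int.emod_lt_of_pos i (show (0 : ℤ) < ((3 : ℕ) : ℤ) by norm_num)
      rcases (show i % ((3 : ℕ) : ℤ) = 0 ∨ i % ((3 : ℕ) : ℤ) = 1 ∨ i % ((3 : ℕ) : ℤ) = 2 by omega) with e' | e' | e'
      · exfalso
        rw [← zpow_mod_orderOf, ho, e', zpow_zero] at hi
        exact hy1 (conj_eq_one_iff.mp hi.symm)
      · rw [e', zpow_one]; exact Or.inl rfl
      · rw [e']; exact Or.inr (by rw [zpow_ofNat, pow_two, h.sq hy])
    have hc2 : Commute y (s ^ 2) := by
      refine (mul_inv_eq_iff_eq_mul.mp ?_).symm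
      calc s ^ 2 * y * (s ^ 2)⁻¹ = s * (s * y * s⁻¹) * s⁻¹ := by rw [pow_two]; group
        _ = y := by
          rcases hcase with e' | e'
          · rw [e', e']
          · rw [e', ← conj_inv, e', inv_inv]
    have h4 := a.orders.commute_three ho hc2 (k := 3) (by
      rw [← pow_mul, mul_comm, pow_mul, show (2 : ℕ) ^ 3 = 8 from rfl, hs, one_pow])
    exact he1 (by rw [he, ← h4, ← pow_add])
  have hab := a.abelian_of_free h hee he1 hfree
  have hR : R = ⊥ := by
    refine a.kernel_two_pow R hab h.odd_card (s := s) (k := 2) (by exact hs) (fun x hx => h.conj s hx) ?_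
      fun v => a.norm_eight s hs v
    intro x hx hxe
    exact hfree x hx (mul_inv_eq_iff_eq_mul.mp hxe).symm
  have hsR : s ∈ R := h.cent (by
    rw [hR, Subgroup.mem_centralizer_iff]
    intro x hx
    rw [Subgroup.coe_bot, Set.mem_singleton_iff] at hx
    simp [hx])
  rw [hR, Subgroup.mem_bot] at hsR
  exact he1 (by rw [he, hsR, one_pow])

omit a in
/-- An element moved within a line of exponent three is fixed or inverted. -/
theorem ThreeCore.line_cases (h : ThreeCore R) {y w : X} (hy : y ∈ R) (hw : w ∈ Subgroup.zpowers y) (hw1 : w ≠ 1) :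
    w = y ∨ w = y⁻¹ := by
  obtain ⟨i, rfl⟩ := Subgroup.mem_zpowers_iff.mp hw
  have hy1 : y ≠ 1 := fun e => hw1 (by rw [e, one_zpow])
  have ho := h.order hy hy1
  rw [← zpow_mod_orderOf, ho] at hw1 ⊢
  have h1 := Int.emod_nonneg i (show ((3 : ℕ) : ℤ) ≠ 0 by norm_num)
  have h2 := Int.emod_lt_of_pos i (show (0 : ℤ) < ((3 : ℕ) : ℤ) by norm_num)
  rcases (show i % ((3 : ℕ) : ℤ) = 0 ∨ i % ((3 : ℕ) : ℤ) = 1 ∨ i % ((3 : ℕ) : ℤ) = 2 by omega) with e' | e' | e'
  · exact absurd (by rw [e', zpow_zero]) hw1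
  · rw [e', zpow_one]; exact Or.inl rfl
  · rw [e']; exact Or.inr (by rw [zpow_ofNat, pow_two, h.sq hy])

/-- An element centralising an involution maps the elements fixed by it to their lines. -/
theorem Act.normal_line (h : ThreeCore R) {e g y : X} (he : e * e = 1) (he1 : e ≠ 1) (hy : y ∈ R) (hy1 : y ≠ 1)
    (hye : Commute y e) (hge : Commute g e) : g * y * g⁻¹ = y ∨ g * y * g⁻¹ = y⁻¹ :=
  h.line_cases hy (a.cent_small h (pow_eight_of_sq he) he1 hy hy1 hye (h.conj g hy)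
    ((hge.mul_left hye).mul_left hge.inv_left)) (fun e' => hy1 (conj_eq_one_iff.mp e'))

/-- A two-element centralising the 3-core is trivial. -/
theorem Act.eq_one_of_central (h : ThreeCore R) {d : X} (hd : d * d = 1) (hc : ∀ r ∈ R, Commute r d) : d = 1 := by
  have hdR : d ∈ R := h.cent (Subgroup.mem_centralizer_iff.mpr fun r hr => (hc r hr).eq)
  have := h.three hdR
  rwa [hd, one_mul] at this

/-- No two-element exchanges two commuting involutions of the top. -/
theorem Act.no_swap (h : ThreeCore R) {e f t : X} (he : e * e = 1) (he1 : e ≠ 1) (hf : f * f = 1) (hf1 : f ≠ 1)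
    (hef : Commute e f) (hne : e ≠ f) (ht : t ^ 8 = 1) (hte : Commute t e) (htf : t * f * t⁻¹ = e * f) : False := by
  have hR := a.abelian_of_four h he he1 hf hf1 hef hne
  have ht4 : t ^ 4 = 1 := a.pow_four h ht
  -- an involution exchanging them
  obtain ⟨τ, hτ, hτe, hτf⟩ : ∃ τ : X, τ * τ = 1 ∧ Commute τ e ∧ τ * f * τ⁻¹ = e * f := by
    set d := t * t with hd
    have hdd : d * d = 1 := by rw [hd, ← ht4]; simp only [pow_succ, pow_zero, one_mul, mul_assoc]
    have hdf : Commute d f := by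
      refine mul_inv_eq_iff_eq_mul.mp ?_
      calc d * f * d⁻¹ = t * (t * f * t⁻¹) * t⁻¹ := by rw [hd]; group
        _ = t * (e * f) * t⁻¹ := by rw [htf]
        _ = (t * e * t⁻¹) * (t * f * t⁻¹) := by group
        _ = f := by rw [hte.eq, mul_inv_cancel_right, htf, ← mul_assoc, he, one_mul]
    have hde : Commute d e := hte.mul_left hte
    rcases eq_or_ne d 1 with h1 | h1
    · exact ⟨t, h1, hte, htf⟩
    rcases eq_or_ne d e with h2 | h2
    · refine ⟨t * f, ?_, hte.mul_left hef.symm, ?_⟩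
      · have e1 : t⁻¹ * f * t = e * f := by
          have e2 : t * (e * f) * t⁻¹ = f := by
            calc t * (e * f) * t⁻¹ = (t * e * t⁻¹) * (t * f * t⁻¹) := by group
              _ = f := by rw [hte.eq, mul_inv_cancel_right, htf, ← mul_assoc, he, one_mul]
          calc t⁻¹ * f * t = t⁻¹ * (t * (e * f) * t⁻¹) * t := by rw [e2]
            _ = e * f := by group
        calc t * f * (t * f) = (t * t) * (t⁻¹ * f * t) * f := by group
          _ = e * (e * f) * f := by rw [e1, ← hd, h2]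
          _ = (e * e) * (f * f) := by group
          _ = 1 := by rw [he, hf, one_mul]
      · calc t * f * f * (t * f)⁻¹ = t * f * t⁻¹ := by group
          _ = e * f := htf
    exfalso
    have hd1 : ∀ r ∈ R, Commute r e → Commute r d := by
      intro r hr hre
      rcases eq_or_ne r 1 with rfl | hr1
      · exact Commute.one_left d
      refine (mul_inv_eq_iff_eq_mul.mp ?_).symm
      calc d * r * d⁻¹ = t * (t * r * t⁻¹) * t⁻¹ := by rw [hd]; group
        _ = r := by
          rcases a.normal_line h he he1 hr hr1 hre hte with e' | e'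
          · rw [e', e']
          · rw [e', ← conj_inv, e', inv_inv]
    have hef1 : e * f ≠ 1 := fun e' => hne ((eq_inv_of_mul_eq_one_left e').trans (inv_eq_of_mul_eq_one_left hf))
    have hef2 : e * f * (e * f) = 1 := by rw [hef.symm.mul_mul_mul_comm, he, hf, one_mul]
    -- the same sign on both lines
    obtain ⟨σ, hσ, hsign⟩ : ∃ σ : X, (σ = d ∨ σ = d * e) ∧ ∀ r ∈ R, e * r * e⁻¹ = r⁻¹ → Commute r f → Commute r σ := by
      by_cases hall : ∀ r ∈ R, e * r * e⁻¹ = r⁻¹ → Commute r f → Commute r d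
      · exact ⟨d, Or.inl rfl, hall⟩
      push Not at hall
      obtain ⟨y, hy, hey, hyf, hyd⟩ := hall
      refine ⟨d * e, Or.inr rfl, fun r hr her hrf => ?_⟩
      have hy1 : y ≠ 1 := fun e' => hyd (e' ▸ Commute.one_left d)
      have hdy : d * y * d⁻¹ = y⁻¹ := (a.normal_line h hf hf1 hy hy1 hyf hdf).resolve_left
        fun e' => hyd (mul_inv_eq_iff_eq_mul.mp e').symm
      obtain ⟨i, rfl⟩ := Subgroup.mem_zpowers_iff.mp (a.cent_small h (pow_eight_of_sq hf) hf1 hy hy1 hyf hr hrf)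
      refine Commute.zpow_left ?_ i
      refine (mul_inv_eq_iff_eq_mul.mp ?_).symm
      calc d * e * y * (d * e)⁻¹ = d * (e * y * e⁻¹) * d⁻¹ := by group
        _ = y := by rw [hey, ← conj_inv, hdy, inv_inv]
    have hσe : Commute σ e := by
      rcases hσ with rfl | rfl
      · exact hde
      · exact hde.mul_left (Commute.refl e)
    have hσt : Commute σ t := by
      have hdt : Commute d t := (Commute.refl t).mul_left (Commute.refl t)
      rcases hσ with rfl | rfl
      · exact hdt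
      · exact hdt.mul_left hte.symm
    have hσ2 : σ * σ = 1 := by
      rcases hσ with rfl | rfl
      · exact hdd
      · rw [hde.symm.mul_mul_mul_comm, hdd, he, one_mul]
    have hσf : ∀ r ∈ R, Commute r e → Commute r σ := fun r hr hre => by
      rcases hσ with rfl | rfl
      · exact hd1 r hr hre
      · exact (hd1 r hr hre).mul_right hre
    have hcen : σ = 1 := a.eq_one_of_central h hσ2 fun r hr => by
      obtain ⟨c, hc, i, hi, hce, hei, rfl⟩ := h.split he hr
      refine (hσf c hc hce).mul_left ?_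
      -- the inverted part
      have htt : t * t⁻¹ = 1 := mul_inv_cancel t
      set j := i⁻¹ * (f * i * f⁻¹) with hj
      have hjR : j ∈ R := mul_mem (inv_mem hi) (h.conj f hi)
      have hfi : e * (f * i * f⁻¹) * e⁻¹ = f * i⁻¹ * f⁻¹ := by
        calc e * (f * i * f⁻¹) * e⁻¹ = (e * f) * i * (e * f)⁻¹ := by group
          _ = (f * e) * i * (f * e)⁻¹ := by rw [hef.eq]
          _ = f * (e * i * e⁻¹) * f⁻¹ := by group
          _ = _ := by rw [hei]
      have hej : e * j * e⁻¹ = j⁻¹ := by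
        calc e * j * e⁻¹ = (e * i * e⁻¹)⁻¹ * (e * (f * i * f⁻¹) * e⁻¹) := by rw [hj]; group
          _ = i * (f * i⁻¹ * f⁻¹) := by rw [hei, hfi, inv_inv]
          _ = (f * i⁻¹ * f⁻¹) * i := hR _ hi _ (h.conj f (inv_mem hi))
          _ = j⁻¹ := by rw [hj]; group
      have hfj : f * j * f⁻¹ = j⁻¹ := by
        calc f * j * f⁻¹ = (f * i⁻¹ * f⁻¹) * ((f * f) * i * (f * f)⁻¹) := by rw [hj]; group
          _ = j⁻¹ := by rw [hf, hj]; group
      have hk : Commute (i * j⁻¹) f ∧ e * (i * j⁻¹) * e⁻¹ = (i * j⁻¹)⁻¹ := by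
        constructor
        · refine (mul_inv_eq_iff_eq_mul.mp ?_).symm
          have hxe : f * i * f⁻¹ = i * j := by rw [hj]; group
          calc f * (i * j⁻¹) * f⁻¹ = (f * i * f⁻¹) * (f * j * f⁻¹)⁻¹ := by group
            _ = i * (j * j) := by rw [hxe, hfj, inv_inv, mul_assoc]
            _ = i * j⁻¹ := by rw [h.sq hjR]
        · calc e * (i * j⁻¹) * e⁻¹ = (e * i * e⁻¹) * (e * j * e⁻¹)⁻¹ := by group
            _ = i⁻¹ * j := by rw [hei, hej, inv_inv]
            _ = j * i⁻¹ := hR _ (inv_mem hi) _ hjR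
            _ = (i * j⁻¹)⁻¹ := by group
      have h2 : Commute j σ := by
        -- the other line is the image of the first under `t`
        have hback : t⁻¹ * (e * f) * t = f := by rw [← htf]; group
        have hw : Commute (t⁻¹ * j * t) f := by
          refine (mul_inv_eq_iff_eq_mul.mp ?_).symm
          calc f * (t⁻¹ * j * t) * f⁻¹ = (t⁻¹ * (e * f) * t) * (t⁻¹ * j * t) * (t⁻¹ * (e * f) * t)⁻¹ := by rw [hback]
            _ = t⁻¹ * (e * (f * j * f⁻¹) * e⁻¹) * t := by group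
            _ = t⁻¹ * j * t := by rw [hfj, ← conj_inv, hej, inv_inv]
        have hew : e * (t⁻¹ * j * t) * e⁻¹ = (t⁻¹ * j * t)⁻¹ := by
          calc e * (t⁻¹ * j * t) * e⁻¹ = (e * t⁻¹) * j * (e * t⁻¹)⁻¹ := by group
            _ = (t⁻¹ * e) * j * (t⁻¹ * e)⁻¹ := by rw [hte.inv_left.eq]
            _ = t⁻¹ * (e * j * e⁻¹) * t := by group
            _ = _ := by rw [hej]; group
        have h3 := hsign _ (by simpa using h.conj t⁻¹ hjR) hew hw
        have h4 : Commute (t * (t⁻¹ * j * t) * t⁻¹) σ := (hσt.symm.mul_left h3).mul_left hσt.symm.inv_left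
        simpa [mul_assoc] using h4
      rw [show i = i * j⁻¹ * j by group]
      exact (hsign _ (mul_mem hi (inv_mem hjR)) hk.2 hk.1).mul_left h2
    rcases hσ with rfl | rfl
    · exact h1 hcen
    · exact h2 ((eq_inv_of_mul_eq_one_left hcen).trans (inv_eq_of_mul_eq_one_left he))
  have hef1 : e * f ≠ 1 := fun e' => hne ((eq_inv_of_mul_eq_one_left e').trans (inv_eq_of_mul_eq_one_left hf))
  have hef2 : e * f * (e * f) = 1 := by rw [hef.symm.mul_mul_mul_comm, he, hf, one_mul]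
  have hτi : τ⁻¹ = τ := inv_eq_of_mul_eq_one_left hτ
  have hτef : τ * (e * f) * τ⁻¹ = f := by
    calc τ * (e * f) * τ⁻¹ = (τ * e * τ⁻¹) * (τ * f * τ⁻¹) := by group
      _ = f := by rw [hτe.eq, mul_inv_cancel_right, hτf, ← mul_assoc, he, one_mul]
  -- a line fixed by `f`
  obtain ⟨y, hy, hy1, hye, hyf⟩ : ∃ y ∈ R, y ≠ 1 ∧ e * y * e⁻¹ = y⁻¹ ∧ Commute y f := by
    by_contra hno
    push Not at hno
    have key : ∀ y ∈ R, e * y * e⁻¹ = y⁻¹ → Commute y f → y = 1 := fun y hy h1 h2 => by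
      by_contra h3; exact hno y hy h3 h1 h2
    refine he1 (a.eq_one_of_central h he fun r hr => ?_)
    obtain ⟨c, hc, i, hi, hce, hei, rfl⟩ := h.split he hr
    refine hce.mul_left ?_
    obtain ⟨k, hk, j, hjR, hkf, hfj, hij⟩ := h.split hf hi
    have hjef : e * j * e⁻¹ = j⁻¹ ∧ e * k * e⁻¹ = k⁻¹ := by
      have hke : f * (e * k * e⁻¹) * f⁻¹ = e * k * e⁻¹ := by
        calc f * (e * k * e⁻¹) * f⁻¹ = (f * e) * k * (f * e)⁻¹ := by group
          _ = e * (f * k * f⁻¹) * e⁻¹ := by rw [← hef.eq]; group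
          _ = _ := by rw [← hkf.eq, mul_inv_cancel_right]
      have hje : f * (e * j * e⁻¹) * f⁻¹ = (e * j * e⁻¹)⁻¹ := by
        calc f * (e * j * e⁻¹) * f⁻¹ = (f * e) * j * (f * e)⁻¹ := by group
          _ = e * (f * j * f⁻¹) * e⁻¹ := by rw [← hef.eq]; group
          _ = _ := by rw [hfj]; group
      have heq : (e * k * e⁻¹) * (e * j * e⁻¹) = j⁻¹ * k⁻¹ := by
        rw [← mul_inv_rev, ← hij, ← hei, hij]; group
      rw [← hR _ (inv_mem hk) _ (inv_mem hjR)] at heq
      -- compare the parts fixed and inverted by `f`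
      have hz : k * (e * k * e⁻¹) = (j * (e * j * e⁻¹))⁻¹ := by
        rw [eq_inv_iff_mul_eq_one]
        calc k * (e * k * e⁻¹) * (j * (e * j * e⁻¹)) = k * ((e * k * e⁻¹) * j) * (e * j * e⁻¹) := by group
          _ = k * (j * (e * k * e⁻¹)) * (e * j * e⁻¹) := by rw [hR _ (h.conj e hk) _ hjR]
          _ = k * j * ((e * k * e⁻¹) * (e * j * e⁻¹)) := by group
          _ = 1 := by rw [heq, hR _ hk _ hjR]; group
      set z := k * (e * k * e⁻¹) with hzd
      have hzR : z ∈ R := mul_mem hk (h.conj e hk)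
      have hz1 : f * z * f⁻¹ = z := by
        calc f * z * f⁻¹ = (f * k * f⁻¹) * (f * (e * k * e⁻¹) * f⁻¹) := by rw [hzd]; group
          _ = z := by rw [← hkf.eq, mul_inv_cancel_right, hke]
      have hz2 : f * z * f⁻¹ = z⁻¹ := by
        rw [hz]
        calc f * (j * (e * j * e⁻¹))⁻¹ * f⁻¹ = ((f * j * f⁻¹) * (f * (e * j * e⁻¹) * f⁻¹))⁻¹ := by group
          _ = (e * j * e⁻¹) * j := by rw [hfj, hje]; group
          _ = _ := by rw [hR _ (h.conj e hjR) _ hjR, inv_inv]
      have hz0 : z = 1 := by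
        have h3 : z * z = 1 := by
          nth_rewrite 1 [show z = z⁻¹ from hz1.symm.trans hz2]
          exact inv_mul_cancel z
        rwa [h.sq hzR, inv_eq_one] at h3
      refine ⟨?_, eq_inv_of_mul_eq_one_right hz0⟩
      rw [hz0, eq_comm, inv_eq_one] at hz
      exact eq_inv_of_mul_eq_one_right hz
    have hk1 := key k hk hjef.2 hkf
    -- the other line goes to the first
    have hjt : τ * j * τ⁻¹ = 1 := by
      refine key _ (h.conj τ hjR) ?_ ?_
      · calc e * (τ * j * τ⁻¹) * e⁻¹ = (e * τ) * j * (e * τ)⁻¹ := by group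
          _ = (τ * e) * j * (τ * e)⁻¹ := by rw [hτe.eq]
          _ = τ * (e * j * e⁻¹) * τ⁻¹ := by group
          _ = _ := by rw [hjef.1]; group
      · refine (mul_inv_eq_iff_eq_mul.mp ?_).symm
        calc f * (τ * j * τ⁻¹) * f⁻¹ = (τ * (e * f) * τ⁻¹) * (τ * j * τ⁻¹) * (τ * (e * f) * τ⁻¹)⁻¹ := by rw [hτef]
          _ = τ * (e * (f * j * f⁻¹) * e⁻¹) * τ⁻¹ := by group
          _ = τ * j * τ⁻¹ := by rw [hfj, ← conj_inv (b := e), hjef.1, inv_inv]
    rw [hij, hk1, one_mul, conj_eq_one_iff.mp hjt]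
    exact Commute.one_left e
  set y2 := τ * y * τ⁻¹ with hy2
  have hy2R : y2 ∈ R := h.conj τ hy
  have hey2 : e * y2 * e⁻¹ = y2⁻¹ := by
    calc e * y2 * e⁻¹ = (e * τ) * y * (e * τ)⁻¹ := by rw [hy2]; group
      _ = (τ * e) * y * (τ * e)⁻¹ := by rw [hτe.eq]
      _ = τ * (e * y * e⁻¹) * τ⁻¹ := by group
      _ = _ := by rw [hye, hy2]; group
  have hy2ef : Commute y2 (e * f) := by
    refine (mul_inv_eq_iff_eq_mul.mp ?_).symm
    calc e * f * y2 * (e * f)⁻¹ = (τ * f * τ⁻¹) * y2 * (τ * f * τ⁻¹)⁻¹ := by rw [hτf]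
      _ = τ * (f * y * f⁻¹) * τ⁻¹ := by rw [hy2]; group
      _ = y2 := by rw [← hyf.eq, mul_inv_cancel_right, hy2]
  have hfy2 : f * y2 * f⁻¹ = y2⁻¹ := by
    calc f * y2 * f⁻¹ = e * (e * f * y2 * (e * f)⁻¹) * e⁻¹ := by
          rw [show e * (e * f * y2 * (e * f)⁻¹) * e⁻¹ = (e * e) * (f * y2 * f⁻¹) * (e * e)⁻¹ by group, he]; group
      _ = y2⁻¹ := by rw [← hy2ef.eq, mul_inv_cancel_right, hey2]
  have hefy : e * f * y * (e * f)⁻¹ = y⁻¹ := by
    calc e * f * y * (e * f)⁻¹ = e * (f * y * f⁻¹) * e⁻¹ := by group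
      _ = y⁻¹ := by rw [← hyf.eq, mul_inv_cancel_right, hye]
  have hy21 : y2 ≠ 1 := fun e' => hy1 (conj_eq_one_iff.mp e')
  -- a common fixed element of `e` is trivial
  set d1 := y * y2 with hd1
  have hd1R : d1 ∈ R := mul_mem hy hy2R
  have hed1 : e * d1 * e⁻¹ = d1⁻¹ := by
    calc e * d1 * e⁻¹ = (e * y * e⁻¹) * (e * y2 * e⁻¹) := by rw [hd1]; group
      _ = y⁻¹ * y2⁻¹ := by rw [hye, hey2]
      _ = y2⁻¹ * y⁻¹ := hR _ (inv_mem hy) _ (inv_mem hy2R)
      _ = d1⁻¹ := (mul_inv_rev y y2).symm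
  have hd11 : d1 ≠ 1 := fun e' => hy1 (by
    have h1 : y2 = y⁻¹ := eq_inv_of_mul_eq_one_right e'
    have h2 : y⁻¹ = y := by
      rw [h1] at hy2ef
      rw [← hefy, ← (by simpa using hy2ef.inv_left : Commute y (e * f)).eq, mul_inv_cancel_right]
    have h3 := h.three hy
    rwa [mul_eq_one_iff_eq_inv.mpr h2.symm, one_mul] at h3)
  have hτd1 : τ * d1 * τ⁻¹ = d1 := by
    calc τ * d1 * τ⁻¹ = y2 * ((τ * τ) * y * (τ * τ)⁻¹) := by rw [hd1, hy2]; group
      _ = y2 * y := by rw [hτ]; group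
      _ = d1 := hR _ hy2R _ hy
  set d2 := y * y2⁻¹ with hd2
  have hd2R : d2 ∈ R := mul_mem hy (inv_mem hy2R)
  have hτd2 : τ * d2 * τ⁻¹ = d2⁻¹ := by
    calc τ * d2 * τ⁻¹ = y2 * ((τ * τ) * y⁻¹ * (τ * τ)⁻¹) := by rw [hd2, hy2]; group
      _ = y2 * y⁻¹ := by rw [hτ]; group
      _ = d2⁻¹ := by rw [hd2, mul_inv_rev, inv_inv]
  have hed2 : e * d2 * e⁻¹ = d2⁻¹ := by
    calc e * d2 * e⁻¹ = (e * y * e⁻¹) * (e * y2 * e⁻¹)⁻¹ := by rw [hd2]; group
      _ = y⁻¹ * y2 := by rw [hye, hey2, inv_inv]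
      _ = y2 * y⁻¹ := hR _ (inv_mem hy) _ hy2R
      _ = d2⁻¹ := by rw [hd2, mul_inv_rev, inv_inv]
  have hd21 : d2 ≠ 1 := fun e' => by
    have h1 : y = y2 := mul_inv_eq_one.mp e'
    rw [← h1] at hy2ef
    have h2 : y⁻¹ = y := by rw [← hefy, ← hy2ef.eq, mul_inv_cancel_right]
    have h3 := h.three hy
    rw [mul_eq_one_iff_eq_inv.mpr h2.symm, one_mul] at h3
    exact hy1 h3
  have hτe2 : τ * e * (τ * e) = 1 := by rw [hτe.symm.mul_mul_mul_comm, hτ, he, one_mul]
  have hd2τe : Commute d2 (τ * e) := by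
    refine (mul_inv_eq_iff_eq_mul.mp ?_).symm
    calc τ * e * d2 * (τ * e)⁻¹ = τ * (e * d2 * e⁻¹) * τ⁻¹ := by group
      _ = d2 := by rw [hed2, ← conj_inv, hτd2, inv_inv]
  have hτed1 : τ * e * d1 * (τ * e)⁻¹ = d1⁻¹ := by
    calc τ * e * d1 * (τ * e)⁻¹ = τ * (e * d1 * e⁻¹) * τ⁻¹ := by group
      _ = d1⁻¹ := by rw [hed1, ← conj_inv, hτd1]
  -- the four lines
  let W : AddSubgroup V := (a.ρ y - AddMonoidHom.id V).ker
  have hW : ∀ v, v ∈ W ↔ a.ρ y v = v := fun v => by simp [W, sub_eq_zero]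
  have hcom : Commute y y2 := hR _ hy _ hy2R
  have hboth : ∀ v, a.ρ d1 v = v → a.ρ d2 v = v → a.ρ y v = v := fun v h1 h2 => by
    have e1 : y = (d1 * d2)⁻¹ := by
      calc y = (y * y)⁻¹ := by rw [h.sq hy, inv_inv]
        _ = (y * y * (y2 * y2⁻¹))⁻¹ := by rw [mul_inv_cancel, mul_one]
        _ = _ := by rw [hd1, hd2, hcom.symm.mul_mul_mul_comm]
    have h12 : a.ρ (d1 * d2) v = v := by rw [a.mul, h2, h1]
    rw [e1]
    nth_rewrite 1 [← h12]
    rw [← a.mul, inv_mul_cancel, a.one]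
  refine hy1 (a.faithful y fun v => (hW v).mp (a.lines_cover Nat.prime_three (by decide) (h.exp y hy) (h.exp y2 hy2R)
    hcom W (fun w hw => (hW w).mpr hw) (fun k hk w hw => (hW w).mpr ?_) v))
  interval_cases k
  · rw [pow_zero, one_mul] at hw
    exact a.fix_inverted h hef2 hy2R hy21 hy2ef hy hcom.symm hefy hw
  · rw [pow_one, ← hd1] at hw
    exact hboth w hw (a.fix_inverted h hτ hd1R hd11 (mul_inv_eq_iff_eq_mul.mp hτd1).symm hd2R (hR _ hd1R _ hd2R)
      hτd2 hw)
  · rw [show y ^ 2 * y2 = d2⁻¹ by rw [hd2, pow_two, h.sq hy, mul_inv_rev, inv_inv]; exact hR _ (inv_mem hy) _ hy2R] at hw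
    have hw2 : a.ρ d2 w = w := by
      conv_lhs => rw [← hw, ← a.mul, mul_inv_cancel, a.one]
    exact hboth w (a.fix_inverted h hτe2 hd2R hd21 hd2τe hd1R (hR _ hd2R _ hd1R) hτed1 hw2) hw2

end CfsgLib.SpecThirteen
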