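import Cfsg.Agent.Lib.SpecThirteen.Act
import Cfsg.Agent.Lib.SpecSix.Top

/-!
Element orders in `{1, 2, 3, 4, 6, 8, 13}`: two-elements of the top acting on its 3-core.
-/

set_option autoImplicit false
set_option linter.unusedSectionVars false

namespace CfsgLib.SpecThirteen

open Finset

universe u w

variable {X : Type u} [Group X] [Finite X]

/-- A normal subgroup of exponent three containing its centraliser. -/
structure ThreeCore (R : Subgroup X) : Prop where
  normal : R.Normal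
  exp : ∀ r ∈ R, r ^ 3 = 1
  cent : Subgroup.centralizer (R : Set X) ≤ R

namespace ThreeCore

variable {R : Subgroup X} (h : ThreeCore R)
include h

theorem conj {r : X} (g : X) (hr : r ∈ R) : g * r * g⁻¹ ∈ R := h.normal.conj_mem r hr g

theorem three {r : X} (hr : r ∈ R) : r * r * r = 1 := by
  rw [← h.exp r hr, pow_succ, pow_succ, pow_one]

theorem sq {r : X} (hr : r ∈ R) : r * r = r⁻¹ := eq_inv_of_mul_eq_one_left (h.three hr)

theorem order {r : X} (hr : r ∈ R) (h1 : r ≠ 1) : orderOf r = 3 :=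
  haveI : Fact (Nat.Prime 3) := ⟨Nat.prime_three⟩
  orderOf_eq_prime (h.exp r hr) h1

theorem isPGroup : IsPGroup 3 R := fun r => ⟨1, Subtype.ext (by rw [pow_one]; exact h.exp r r.2)⟩

theorem odd_card : Odd (Nat.card R) := by
  haveI : Fact (Nat.Prime 3) := ⟨Nat.prime_three⟩
  obtain ⟨n, hn⟩ := IsPGroup.iff_card.mp h.isPGroup
  rw [hn]; exact Odd.pow (by decide)

end ThreeCore

variable {V : Type w} [AddCommGroup V] (a : Act X V) {R : Subgroup X}
include a

/-- At most a line of the 3-core is centralised by a given nontrivial two-element. -/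
theorem Act.cent_small (h : ThreeCore R) {e : X} (he : e ^ 8 = 1) (he1 : e ≠ 1) {y z : X} (hy : y ∈ R) (hy1 : y ≠ 1)
    (hye : Commute y e) (hz : z ∈ R) (hze : Commute z e) : z ∈ Subgroup.zpowers y := by
  haveI : Fact (Nat.Prime 3) := ⟨Nat.prime_three⟩
  set H := R ⊓ Subgroup.centralizer ({e} : Set X) with hH
  have hyH : y ∈ H := ⟨hy, Subgroup.mem_centralizer_singleton_iff.mpr hye.eq⟩
  have hzH : z ∈ H := ⟨hz, Subgroup.mem_centralizer_singleton_iff.mpr hze.eq⟩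
  haveI : Nontrivial H := ⟨⟨⟨y, hyH⟩, 1, fun e' => hy1 (congrArg Subtype.val e')⟩⟩
  haveI := (h.isPGroup.to_le (inf_le_left : H ≤ R)).center_nontrivial
  obtain ⟨⟨⟨c, hcH⟩, hcc⟩, hc1⟩ := exists_ne (1 : Subgroup.center H)
  have hc1' : c ≠ 1 := fun e' => hc1 (Subtype.ext (Subtype.ext e'))
  have key : ∀ d ∈ H, d ∈ Subgroup.zpowers c := fun d hd => by
    by_contra hdc
    refine he1 (a.plane_trivial (h.order hcH.1 hc1') (h.exp d hd.1) hdc ?_ he ?_ ?_)
    · exact congrArg Subtype.val ((Subgroup.mem_center_iff.mp hcc ⟨d, hd⟩).symm)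
    · exact Subgroup.mem_centralizer_singleton_iff.mp hcH.2
    · exact Subgroup.mem_centralizer_singleton_iff.mp hd.2
  have heq : Subgroup.zpowers y = Subgroup.zpowers c :=
    Subgroup.eq_of_le_of_card_ge (Subgroup.zpowers_le.mpr (key y hyH))
      (by rw [Nat.card_zpowers, Nat.card_zpowers, h.order hy hy1, h.order hcH.1 hc1'])
  exact heq ▸ key z hzH

/-- An element fixed by an involution commutes with every element inverted by it. -/
theorem Act.comm_inverted (h : ThreeCore R) {e : X} (he : e * e = 1) {y r : X} (hy : y ∈ R)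
    (hye : Commute y e) (hr : r ∈ R) (hinv : e * r * e⁻¹ = r⁻¹) : Commute y r := by
  haveI : Fact (Nat.Prime 3) := ⟨Nat.prime_three⟩
  rcases eq_or_ne y 1 with rfl | hy1
  · exact Commute.one_left r
  have he8 : e ^ 8 = 1 := by rw [show 8 = 2 * 4 from rfl, pow_mul, pow_two, he, one_pow]
  set c := r * y * r⁻¹ * y⁻¹ with hc
  have hcR : c ∈ R := mul_mem (h.conj r hy) (inv_mem hy)
  have cy : Commute y (r * y * r⁻¹) := SpecSix.commute_conj_of_exp_three h.exp hy hr
  have cr : Commute r (y * r⁻¹ * y⁻¹) := by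
    have := (SpecSix.commute_conj_of_exp_three h.exp hr hy).inv_right
    simpa [mul_assoc] using this
  have hcy : Commute y c := by rw [hc]; exact cy.mul_right (Commute.refl y).inv_right
  have hcr : Commute r c := by
    have e' : c = r * (y * r⁻¹ * y⁻¹) := by rw [hc]; group
    rw [e']; exact (Commute.refl r).mul_right cr
  have hec : e * c * e⁻¹ = c⁻¹ := by
    have hey : e * y * e⁻¹ = y := by rw [← hye.eq, mul_inv_cancel_right]
    calc e * c * e⁻¹ = (e * r * e⁻¹) * (e * y * e⁻¹) * (e * r * e⁻¹)⁻¹ * (e * y * e⁻¹)⁻¹ := by rw [hc]; group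
      _ = r⁻¹ * y * r * y⁻¹ := by rw [hinv, hey, inv_inv]
      _ = r⁻¹ * ((y * r⁻¹ * y⁻¹)⁻¹) := by group
      _ = (y * r⁻¹ * y⁻¹)⁻¹ * r⁻¹ := (cr.inv_left.inv_right).eq
      _ = c⁻¹ := by rw [hc]; group
  clear_value c
  -- the points fixed by `y` are fixed by `c`
  have hyc : ∀ v, a.ρ y v = v → a.ρ c v = v := by
    intro v hv
    have hcv : a.ρ y (a.ρ c v) = a.ρ c v := by rw [← a.mul, hcy.eq, a.mul, hv]
    have e1 := a.fix y e (h.order hy hy1) he8 hye v hv
    have e2 := a.fix y e (h.order hy hy1) he8 hye _ hcv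
    have e3 : a.ρ c⁻¹ v = a.ρ c v := by
      rw [← hec]
      calc a.ρ (e * c * e⁻¹) v = a.ρ e (a.ρ c (a.ρ e⁻¹ v)) := by rw [a.mul, a.mul]
        _ = a.ρ e (a.ρ c v) := by rw [inv_eq_of_mul_eq_one_left he, e1]
        _ = a.ρ c v := e2
    calc a.ρ c v = a.ρ (c⁻¹ * c⁻¹) v := by rw [(h.sq (inv_mem hcR)).trans (inv_inv c)]
      _ = a.ρ c⁻¹ (a.ρ c⁻¹ v) := a.mul _ _ _
      _ = a.ρ c⁻¹ (a.ρ c v) := by rw [e3]
      _ = v := by rw [← a.mul, inv_mul_cancel, a.one]
  have hline : ∀ g : X, Commute g c → ∀ v, a.ρ (g * y * g⁻¹) v = v → a.ρ c v = v := by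
    intro g hg v hv
    have h1 : a.ρ y (a.ρ g⁻¹ v) = a.ρ g⁻¹ v := by
      rw [← a.mul, show y * g⁻¹ = g⁻¹ * (g * y * g⁻¹) by group, a.mul, hv]
    calc a.ρ c v = a.ρ g (a.ρ c (a.ρ g⁻¹ v)) := by
          rw [← a.mul, ← a.mul, hg.eq, mul_inv_cancel_right]
      _ = v := by rw [hyc _ h1, ← a.mul, mul_inv_cancel, a.one]
  suffices hc1 : c = 1 by
    rw [hc, mul_inv_eq_one] at hc1
    exact (mul_inv_eq_iff_eq_mul.mp hc1).symm
  by_contra hc1
  let W : AddSubgroup V := (a.ρ c - AddMonoidHom.id V).ker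
  have hW : ∀ v, v ∈ W ↔ a.ρ c v = v := fun v => by simp [W, sub_eq_zero]
  refine hc1 (a.faithful c fun v => (hW v).mp (a.lines_cover Nat.prime_three (by decide) (h.exp c hcR) (h.exp y hy)
    hcy.symm W (fun w hw => (hW w).mpr hw) (fun k hk w hw => (hW w).mpr ?_) v))
  interval_cases k
  · rw [pow_zero, one_mul] at hw; exact hyc w hw
  · rw [pow_one, show c * y = r * y * r⁻¹ by rw [hc, inv_mul_cancel_right]] at hw
    exact hline r hcr w hw
  · have e' : c ^ 2 * y = r⁻¹ * y * r⁻¹⁻¹ := by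
      rw [pow_two, h.sq hcR, inv_inv]
      calc c⁻¹ * y = e * c * e⁻¹ * y := by rw [hec]
        _ = r⁻¹ * y * r * y⁻¹ * y := by
          have hey : e * y * e⁻¹ = y := by rw [← hye.eq, mul_inv_cancel_right]
          rw [show e * c * e⁻¹ = (e * r * e⁻¹) * (e * y * e⁻¹) * (e * r * e⁻¹)⁻¹ * (e * y * e⁻¹)⁻¹ by rw [hc]; group,
            hinv, hey, inv_inv]
        _ = r⁻¹ * y * r := by group
    rw [e'] at hw
    exact hline r⁻¹ hcr.inv_left w hw

omit a in
/-- An element of the 3-core is a fixed element times an inverted one. -/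
theorem ThreeCore.split (h : ThreeCore R) {e : X} (he : e * e = 1) {x : X} (hx : x ∈ R) :
    ∃ c ∈ R, ∃ f ∈ R, Commute c e ∧ e * f * e⁻¹ = f⁻¹ ∧ x = c * f := by
  set f := x⁻¹ * (e * x * e⁻¹) with hf
  have hfR : f ∈ R := mul_mem (inv_mem hx) (h.conj e hx)
  have hfinv : e * f * e⁻¹ = f⁻¹ := by
    calc e * f * e⁻¹ = (e * x⁻¹ * e⁻¹) * ((e * e) * x * (e * e)⁻¹) := by rw [hf]; group
      _ = f⁻¹ := by rw [he, hf]; group
  refine ⟨x * f⁻¹, mul_mem hx (inv_mem hfR), f, hfR, ?_, hfinv, by group⟩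
  have hff : f * f = f⁻¹ := h.sq hfR
  have hxe : e * x * e⁻¹ = x * f := by rw [hf]; group
  show x * f⁻¹ * e = e * (x * f⁻¹)
  calc x * f⁻¹ * e = x * (f * f) * e := by rw [hff]
    _ = (x * f) * (e * f⁻¹ * e⁻¹) * e := by rw [← conj_inv, hfinv, inv_inv]; group
    _ = e * (x * f⁻¹) := by rw [← hxe]; group

/-- An element of the 3-core fixed by an involution is central in it. -/
theorem Act.fixed_central (h : ThreeCore R) {e : X} (he : e * e = 1) (he1 : e ≠ 1) {y : X} (hy : y ∈ R)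
    (hye : Commute y e) {r : X} (hr : r ∈ R) : Commute y r := by
  rcases eq_or_ne y 1 with rfl | hy1
  · exact Commute.one_left r
  obtain ⟨c, hc, f, hf, hce, hfi, rfl⟩ := h.split he hr
  refine Commute.mul_right ?_ (a.comm_inverted h he hy hye hf hfi)
  have he8 : e ^ 8 = 1 := by rw [show 8 = 2 * 4 from rfl, pow_mul, pow_two, he, one_pow]
  obtain ⟨i, rfl⟩ := Subgroup.mem_zpowers_iff.mp (a.cent_small h he8 he1 hy hy1 hye hc hce)
  exact (Commute.refl y).zpow_right i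

/-- A commutator in the 3-core is fixed by every involution. -/
theorem Act.commutator_fixed (h : ThreeCore R) {e : X} (he : e * e = 1) (he1 : e ≠ 1) {r r' : X} (hr : r ∈ R)
    (hr' : r' ∈ R) : Commute (r * r' * r⁻¹ * r'⁻¹) e := by
  obtain ⟨c, hc, i, hi, hce, hii, rfl⟩ := h.split he hr
  obtain ⟨c', hc', i', hi', hce', hii', rfl⟩ := h.split he hr'
  have k1 := a.fixed_central h he he1 hc hce (r := i * (c' * i') * i⁻¹) (h.conj i (mul_mem hc' hi'))
  have k3 := a.fixed_central h he he1 hc' hce' (r := i) hi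
  have k4 := a.fixed_central h he he1 hc' hce' (r := i * i' * i⁻¹) (h.conj i hi')
  have e1 : (c * i) * (c' * i') * (c * i)⁻¹ * (c' * i')⁻¹ = i * i' * i⁻¹ * i'⁻¹ := by
    calc (c * i) * (c' * i') * (c * i)⁻¹ * (c' * i')⁻¹
        = c * (i * (c' * i') * i⁻¹) * c⁻¹ * (c' * i')⁻¹ := by group
      _ = (i * (c' * i') * i⁻¹) * (c' * i')⁻¹ := by rw [k1.eq, mul_inv_cancel_right]
      _ = (i * c') * i' * i⁻¹ * i'⁻¹ * c'⁻¹ := by group
      _ = c' * (i * i' * i⁻¹) * (i'⁻¹ * c'⁻¹) := by rw [← k3.eq]; group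
      _ = (i * i' * i⁻¹) * c' * (i'⁻¹ * c'⁻¹) := by rw [k4.eq]
      _ = (i * i' * i⁻¹) * (c' * i'⁻¹) * c'⁻¹ := by group
      _ = (i * i' * i⁻¹) * (i'⁻¹ * c') * c'⁻¹ := by
          rw [(a.fixed_central h he he1 hc' hce' (r := i'⁻¹) (inv_mem hi')).eq]
      _ = _ := by group
  rw [e1]
  have ci : Commute i (i' * i⁻¹ * i'⁻¹) := by
    have := (SpecSix.commute_conj_of_exp_three h.exp hi hi').inv_right
    simpa [mul_assoc] using this
  have ci' : Commute i' (i⁻¹ * i'⁻¹ * i) := by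
    have := (SpecSix.commute_conj_of_exp_three h.exp hi' (inv_mem hi)).inv_right
    simpa [mul_assoc] using this
  show i * i' * i⁻¹ * i'⁻¹ * e = e * (i * i' * i⁻¹ * i'⁻¹)
  refine (mul_inv_eq_iff_eq_mul.mp ?_).symm
  calc e * (i * i' * i⁻¹ * i'⁻¹) * e⁻¹
      = (e * i * e⁻¹) * (e * i' * e⁻¹) * (e * i * e⁻¹)⁻¹ * (e * i' * e⁻¹)⁻¹ := by group
    _ = i⁻¹ * i'⁻¹ * i * i' := by rw [hii, hii', inv_inv, inv_inv]
    _ = i'⁻¹ * (i' * (i⁻¹ * i'⁻¹ * i)) * i' := by group
    _ = i'⁻¹ * ((i⁻¹ * i'⁻¹ * i) * i') * i' := by rw [ci'.eq]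
    _ = i'⁻¹ * i⁻¹ * i'⁻¹ * i * (i' * i') := by group
    _ = i'⁻¹ * i⁻¹ * i'⁻¹ * i * i'⁻¹ := by rw [h.sq hi']
    _ = i' * i' * i⁻¹ * i'⁻¹ * i * i'⁻¹ := by rw [h.sq hi']
    _ = i' * ((i' * i⁻¹ * i'⁻¹) * i) * i'⁻¹ := by group
    _ = i' * (i * (i' * i⁻¹ * i'⁻¹)) * i'⁻¹ := by rw [ci.eq]
    _ = i' * i * i' * i⁻¹ * (i' * i')⁻¹ := by group
    _ = i' * i * i' * i⁻¹ * i' := by rw [h.sq hi', inv_inv]
    _ = (i' * (i * i' * i⁻¹)) * i' := by group
    _ = ((i * i' * i⁻¹) * i') * i' := by rw [(SpecSix.commute_conj_of_exp_three h.exp hi' hi).eq]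
    _ = (i * i' * i⁻¹) * (i' * i') := by group
    _ = i * i' * i⁻¹ * i'⁻¹ := by rw [h.sq hi']

/-- Without fixed points of an involution the 3-core is abelian. -/
theorem Act.abelian_of_free (h : ThreeCore R) {e : X} (he : e * e = 1) (he1 : e ≠ 1)
    (hfree : ∀ r ∈ R, Commute r e → r = 1) : ∀ r ∈ R, ∀ r' ∈ R, r * r' = r' * r := by
  intro r hr r' hr'
  have h1 := hfree _ (mul_mem (h.conj r hr') (inv_mem hr')) (a.commutator_fixed h he he1 hr hr')
  exact mul_inv_eq_iff_eq_mul.mp (mul_inv_eq_one.mp h1)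

/-- Two commuting involutions make the 3-core abelian. -/
theorem Act.abelian_of_four (h : ThreeCore R) {e f : X} (he : e * e = 1) (he1 : e ≠ 1) (hf : f * f = 1)
    (hf1 : f ≠ 1) (hef : Commute e f) (hne : e ≠ f) : ∀ r ∈ R, ∀ r' ∈ R, r * r' = r' * r := by
  intro r hr r' hr'
  have hef2 : e * f * (e * f) = 1 := by
    calc e * f * (e * f) = e * (f * e) * f := by group
      _ = e * e * (f * f) := by rw [← hef.eq]; group
      _ = 1 := by rw [he, hf, one_mul]
  have hef1 : e * f ≠ 1 := fun e' => hne ((eq_inv_of_mul_eq_one_left e').trans (inv_eq_of_mul_eq_one_left hf))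
  obtain ⟨c, hc, i, hi, hce, hii, rfl⟩ := h.split he hr
  refine Commute.mul_left (a.fixed_central h he he1 hc hce hr') ?_
  -- split the inverted part with the other involution
  set j := i⁻¹ * (f * i * f⁻¹) with hj
  have hjR : j ∈ R := mul_mem (inv_mem hi) (h.conj f hi)
  have hfj : f * j * f⁻¹ = j⁻¹ := by
    calc f * j * f⁻¹ = (f * i⁻¹ * f⁻¹) * ((f * f) * i * (f * f)⁻¹) := by rw [hj]; group
      _ = j⁻¹ := by rw [hf, hj]; group
  have hej : e * j * e⁻¹ = j⁻¹ := by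
    have hfi : e * (f * i * f⁻¹) * e⁻¹ = f * i⁻¹ * f⁻¹ := by
      calc e * (f * i * f⁻¹) * e⁻¹ = (e * f) * i * (e * f)⁻¹ := by group
        _ = (f * e) * i * (f * e)⁻¹ := by rw [hef.eq]
        _ = f * (e * i * e⁻¹) * f⁻¹ := by group
        _ = _ := by rw [hii]
    have ci : Commute i (f * i * f⁻¹) := by
      set d := i * (f * i * f⁻¹) * i⁻¹ * (f * i * f⁻¹)⁻¹ with hd
      have hdR : d ∈ R := mul_mem (h.conj i (h.conj f hi)) (inv_mem (h.conj f hi))
      have h1 : f * d * f⁻¹ = d := by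
        rw [← (a.commutator_fixed h hf hf1 hi (h.conj f hi)).eq, mul_inv_cancel_right]
      have h2 : f * d * f⁻¹ = d⁻¹ := by
        calc f * d * f⁻¹ = (f * i * f⁻¹) * ((f * f) * i * (f * f)⁻¹) * (f * i * f⁻¹)⁻¹ *
              ((f * f) * i * (f * f)⁻¹)⁻¹ := by rw [hd]; group
          _ = d⁻¹ := by rw [hf, hd]; group
      have hd1 : d = 1 := by
        have h3 : d * d = 1 := by
          nth_rewrite 1 [show d = d⁻¹ from h1.symm.trans h2]
          exact inv_mul_cancel d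
        rwa [h.sq hdR, inv_eq_one] at h3
      rw [hd, mul_inv_eq_one] at hd1
      exact mul_inv_eq_iff_eq_mul.mp hd1
    calc e * j * e⁻¹ = (e * i * e⁻¹)⁻¹ * (e * (f * i * f⁻¹) * e⁻¹) := by rw [hj]; group
      _ = i * (f * i⁻¹ * f⁻¹) := by rw [hii, hfi, inv_inv]
      _ = (f * i⁻¹ * f⁻¹) * i := by
          have := ci.inv_right
          simpa [mul_assoc] using this.eq
      _ = j⁻¹ := by rw [hj]; group
  have hjef : Commute j (e * f) := by
    refine (mul_inv_eq_iff_eq_mul.mp ?_).symm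
    calc e * f * j * (e * f)⁻¹ = e * (f * j * f⁻¹) * e⁻¹ := by group
      _ = (e * j * e⁻¹)⁻¹ := by rw [hfj]; group
      _ = j := by rw [hej, inv_inv]
  have hkf : Commute (i * j⁻¹) f := by
    refine (mul_inv_eq_iff_eq_mul.mp ?_).symm
    have hxe : f * i * f⁻¹ = i * j := by rw [hj]; group
    calc f * (i * j⁻¹) * f⁻¹ = (f * i * f⁻¹) * (f * j * f⁻¹)⁻¹ := by group
      _ = i * (j * j) := by rw [hxe, hfj, inv_inv, mul_assoc]
      _ = i * j⁻¹ := by rw [h.sq hjR]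
  have hk := a.fixed_central h hf hf1 (mul_mem hi (inv_mem hjR)) hkf hr'
  have hj' := a.fixed_central h hef2 hef1 hjR hjef hr'
  rw [show i = i * j⁻¹ * j by group]
  exact Commute.mul_left hk hj' 

end CfsgLib.SpecThirteen
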