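import Cfsg.Agent.Lib.SpecThirteen.Swap
import Cfsg.Agent.Lib.SpecSix.Shape

/-!
Element orders in `{1, 2, 3, 4, 6, 8, 13}`: the shape of a solvable top.
-/

set_option autoImplicit false
set_option linter.unusedSectionVars false
set_option linter.style.haveILetI false

namespace CfsgLib.SpecThirteen

open Finset Cfsg

universe u w

variable {X : Type u} [Group X] [Finite X] {V : Type w} [AddCommGroup V] (a : Act X V)
include a

omit a in
theorem pCore_exp (h : Thirteen X) {p : ℕ} [Fact p.Prime] (hp : p = 3 ∨ p = 13) :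
    ∀ r ∈ pCore p X, r ^ p = 1 := fun r hr => by
  obtain ⟨j, hj⟩ := CfsgLib.isPGroup_pCore (G := X) p ⟨r, hr⟩
  exact h.pow_eq_one hp (congrArg Subtype.val hj)

omit a in
/-- A core with the other odd core trivial contains its centraliser. -/
theorem centralizer_core_le (h : Thirteen X) [Group.IsSolvable X] (h2 : pCore 2 X = ⊥) {p : ℕ}
    (hp : p = 3 ∧ pCore 13 X = ⊥ ∨ p = 13 ∧ pCore 3 X = ⊥) :
    Subgroup.centralizer (pCore p X : Set X) ≤ pCore p X := by
  have hF : fittingSubgroup X ≤ pCore p X := by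
    rw [CfsgLib.fittingSubgroup_eq_iSup_pCore]
    refine iSup_le fun q => ?_
    by_cases hq : pCore (q : ℕ) X = ⊥
    · rw [hq]; exact bot_le
    haveI := Fact.mk q.2
    obtain ⟨n, hn⟩ := IsPGroup.iff_card.mp (CfsgLib.isPGroup_pCore (G := X) (q : ℕ))
    have hn0 : n ≠ 0 := fun e => hq (Subgroup.card_eq_one.mp (by rw [hn, e, pow_zero]))
    rcases h.prime_cases q.2 ((hn ▸ dvd_pow_self _ hn0).trans (Subgroup.card_subgroup_dvd_card _)) with
      e | e | e
    · exact absurd (e ▸ h2) hq
    · rcases hp with ⟨rfl, _⟩ | ⟨rfl, h3⟩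
      · rw [e]
      · exact absurd (e ▸ h3) hq
    · rcases hp with ⟨rfl, h13⟩ | ⟨rfl, _⟩
      · exact absurd (e ▸ h13) hq
      · rw [e]
  exact (Subgroup.centralizer_le hF).trans (le_trans CfsgLib.centralizer_fitting_le hF)

/-- The shape of a solvable top: a self-centralising normal subgroup of order thirteen, or a self-centralising
3-core and no element of order thirteen. -/
theorem Act.top_shape [Group.IsSolvable X] (hO : pCore 2 X = ⊥) :
    (∃ u : X, orderOf u = 13 ∧ (Subgroup.zpowers u).Normal ∧ Subgroup.centralizer ({u} : Set X) ≤ Subgroup.zpowers u) ∨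
      (ThreeCore (pCore 3 X) ∧ ¬ 13 ∣ Nat.card X) := by
  classical
  haveI : Fact (Nat.Prime 13) := ⟨by norm_num⟩
  haveI : Fact (Nat.Prime 3) := ⟨Nat.prime_three⟩
  have hX := a.orders
  by_cases h13 : pCore 13 X = ⊥
  · right
    have hcent := centralizer_core_le hX hO (p := 3) (Or.inl ⟨rfl, h13⟩)
    have hR : ThreeCore (pCore 3 X) := ⟨inferInstance, pCore_exp hX (Or.inl rfl), hcent⟩
    refine ⟨hR, fun hd => ?_⟩
    obtain ⟨k, hk⟩ := exists_prime_orderOf_dvd_card' (G := X) 13 hd
    set R := pCore 3 X with hRd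
    set Z := (Subgroup.center R).map R.subtype with hZ
    haveI : R.Normal := hR.normal
    haveI : Z.Normal := by rw [hZ]; infer_instance
    have hZR : Z ≤ R := Subgroup.map_subtype_le _
    have hZ1 : Z = ⊥ := by
      refine a.kernel_bot Z ?_ ?_ (s := k) (n := 13) (by norm_num) (fun x hx => Subgroup.Normal.conj_mem ‹_› x hx k)
        ?_ fun v => a.fix_thirteen k hk _ (a.orbit_sum_fixed (hk ▸ pow_orderOf_eq_one k) v)
      · rintro _ ⟨x, -, rfl⟩ _ ⟨y, hy, rfl⟩
        rw [← map_mul, ← map_mul, Subgroup.mem_center_iff.mp hy x]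
      · exact hR.odd_card.of_dvd_nat (Subgroup.card_dvd_of_le hZR)
      · intro i hi hi13 x hx hfx
        have hko : orderOf (k ^ i) = 13 := by
          rw [Nat.Coprime.orderOf_pow, hk]
          rw [hk]
          exact (Nat.Prime.coprime_iff_not_dvd (by norm_num)).mpr fun hd' =>
            absurd (Nat.le_of_dvd hi hd') (by omega)
        exact hX.thirteen_fixes hko (mul_inv_eq_iff_eq_mul.mp hfx) (p := 3) (by norm_num) (k := 1)
          (by rw [pow_one]; exact hR.exp x (hZR hx))
    have hR1 : R = ⊥ := by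
      by_contra hne
      haveI : Nontrivial R := R.nontrivial_iff_ne_bot.mpr hne
      haveI := hR.isPGroup.center_nontrivial
      rw [hZ, Subgroup.map_eq_bot_iff_of_injective _ R.subtype_injective] at hZ1
      exact (Subgroup.nontrivial_iff_ne_bot _).mp inferInstance hZ1
    have hall : k ∈ R := hcent (by
      rw [hR1, Subgroup.mem_centralizer_iff]
      intro x hx
      rw [Subgroup.coe_bot, Set.mem_singleton_iff] at hx
      simp [hx])
    rw [hR1, Subgroup.mem_bot] at hall
    rw [hall, orderOf_one] at hk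
    omega
  · left
    set F := pCore 13 X with hF
    haveI : Nontrivial F := F.nontrivial_iff_ne_bot.mpr h13
    haveI := (CfsgLib.isPGroup_pCore (G := X) 13).center_nontrivial
    obtain ⟨⟨⟨u, huF⟩, huc⟩, hu1⟩ := exists_ne (1 : Subgroup.center F)
    have hu : orderOf u = 13 :=
      orderOf_eq_prime (pCore_exp hX (Or.inr rfl) u huF) fun e => hu1 (Subtype.ext (Subtype.ext e))
    have hFu : F = Subgroup.zpowers u := by
      refine le_antisymm (fun w hw => a.thirteen_cyclic hu (pCore_exp hX (Or.inr rfl) w hw) ?_)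
        (Subgroup.zpowers_le.mpr huF)
      exact congrArg Subtype.val (Subgroup.mem_center_iff.mp huc ⟨w, hw⟩).symm
    have h3 : pCore 3 X = ⊥ := by
      refine (Subgroup.eq_bot_iff_forall _).mpr fun y hy => ?_
      refine hX.thirteen_fixes hu ?_ (p := 3) (by norm_num) (k := 1)
        (by rw [pow_one]; exact pCore_exp hX (Or.inl rfl) y hy)
      exact Subgroup.commute_of_normal_of_disjoint _ _ inferInstance inferInstance
        (IsPGroup.disjoint_of_coprime (CfsgLib.isPGroup_pCore _) (CfsgLib.isPGroup_pCore _) (by norm_num)) _ _ huF hy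
    have hcent := centralizer_core_le hX hO (p := 13) (Or.inr ⟨rfl, h3⟩)
    refine ⟨u, hu, hFu ▸ inferInstance, fun x hx => hFu ▸ hcent ?_⟩
    rw [← hF, hFu, Subgroup.mem_centralizer_iff]
    rintro _ ⟨i, rfl⟩
    exact (show Commute u x from (Subgroup.mem_centralizer_singleton_iff.mp hx).symm).zpow_left i

end CfsgLib.SpecThirteen
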